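import Cfsg.Agent.Lib.Orth.Field.Minus
import Cfsg.Agent.Lib.Classical.QuadNormal

/-!
# Normal forms of quadratic spaces over a finite field, as maps from the standard forms
-/

set_option autoImplicit false
set_option linter.all false

namespace CfsgLib.Orth.FieldCls

open scoped Matrix
open Matrix Cfsg.Geo CfsgLib.Orth CfsgLib.Perm.Asch CfsgLib.Perm.Trans CfsgLib.Perm.Trans.Quad CfsgLib.Classical

variable {F : Type*} [Field F] {V : Type*} [AddCommGroup V] [Module F V]

local notation "pol" => QuadraticMap.polar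

/-- a family with the Gram data of a standard form gives an injective map -/
theorem exists_frame_map {κ : Type} [Fintype κ] [DecidableEq κ] {S : (κ → F) → F}
    (hS : IsNondegenerateQuadraticForm S) (P : QuadraticForm F V) {k : F} (hk : k ≠ 0) (w : κ → V)
    (h1 : ∀ i, P (w i) = k * S (Pi.single i 1))
    (h2 : ∀ i j, pol P (w i) (w j) = k * pol S (Pi.single i 1) (Pi.single j 1)) :
    ∃ L : (κ → F) →ₗ[F] V, Function.Injective L ∧ ∀ v, P (L v) = k * S v := by
  obtain ⟨s, hs⟩ := exists_qf hS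
  subst hs
  obtain ⟨L, hL⟩ : ∃ L : (κ → F) →ₗ[F] V, L = (Pi.basisFun F κ).constr F w := ⟨_, rfl⟩
  have hw : ∀ i, L (Pi.single i 1) = w i := fun i => by
    rw [hL, ← Pi.basisFun_apply, Module.Basis.constr_basis]
  have e : P.comp L = k • s := qf_ext (fun i => by simp [QuadraticMap.comp_apply, hw, h1]) fun i j => by
    have := h2 i j
    simp only [QuadraticMap.polar, QuadraticMap.comp_apply, map_add, hw, QuadraticMap.smul_apply, smul_eq_mul] at this ⊢
    rw [this]; ring
  have hv : ∀ v, P (L v) = k * s v := fun v => by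
    simpa [QuadraticMap.comp_apply] using congrArg (fun q : QuadraticForm F (κ → F) => q v) e
  refine ⟨L, (injective_iff_map_eq_zero L).2 fun v h0 => ?_, hv⟩
  by_contra hne
  obtain ⟨⟨x, hx⟩, -⟩ := hS.nondegenerate v hne
  apply hx
  have : k * pol (⇑s) v x = 0 := by
    rw [QuadraticMap.polar, mul_sub, mul_sub, ← hv, ← hv, ← hv, map_add, h0, zero_add, map_zero]; ring
  rcases mul_eq_zero.1 this with h | h
  · exact absurd h hk
  · first | exact h | (rw [QuadraticMap.polar_comm]; exact h)

/-- a full hyperbolic family is a copy of the plus form -/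
theorem exists_plus_map (P : QuadraticForm F V) {m : ℕ} {e f : Fin m → V} (h : IsHypFamily P e f) :
    ∃ L : (Fin m ⊕ Fin m → F) →ₗ[F] V, Function.Injective L ∧ ∀ v, P (L v) = Cfsg.quadFormPlus m F v := by
  classical
  have hp : ∀ u v : Fin m ⊕ Fin m → F, pol (Cfsg.quadFormPlus m F) u v =
      ∑ i, (u (.inl i) * v (.inr i) + v (.inl i) * u (.inr i)) := fun u v => by
    simp only [QuadraticMap.polar, Cfsg.quadFormPlus, ← Finset.sum_sub_distrib, Pi.add_apply]
    exact Finset.sum_congr rfl fun i _ => by ring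
  obtain ⟨L, hL, hv⟩ := exists_frame_map quadFormPlus_nd P one_ne_zero (Sum.elim e f)
    (fun i => by rcases i with i | i <;> simp [Cfsg.quadFormPlus, h.qe, h.qf, Pi.single_apply])
    (fun i j => by
      rcases i with i | i <;> rcases j with j | j <;> rw [one_mul, hp] <;>
        simp [h.ef, h.ee, h.ff, QuadraticMap.polar_comm (⇑P) (f _) (e _), Pi.single_apply, eq_comm])
  exact ⟨L, hL, fun v => by rw [hv, one_mul]⟩

variable [Fintype F] [FiniteDimensional F V]

/-- a new pair in the orthogonal of a hyperbolic family -/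
theorem hyp_cons {P : QuadraticForm F V} {k : ℕ} {e f : Fin k → V} (h : IsHypFamily P e f) {u v : V}
    (hu : P u = 0) (hv : P v = 0) (huv : pol P u v = 1) (hue : u ∈ pairsPerp P e f) (hve : v ∈ pairsPerp P e f) :
    IsHypFamily P (Fin.cons u e : Fin (k + 1) → V) (Fin.cons v f : Fin (k + 1) → V) := by
  refine ⟨?_, ?_, ?_, ?_, ?_⟩
  · intro i; refine Fin.cases ?_ (fun i => ?_) i <;> simp [hu, h.qe]
  · intro i; refine Fin.cases ?_ (fun i => ?_) i <;> simp [hv, h.qf]
  · intro i j
    refine Fin.cases ?_ (fun i => ?_) i <;> refine Fin.cases ?_ (fun j => ?_) j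
    · simp [huv]
    · simp [(hue j).2, (Fin.succ_ne_zero j).symm]
    · simp [QuadraticMap.polar_comm ⇑P (e i), (hve i).1, Fin.succ_ne_zero i]
    · simp [h.ef]
  · intro i j
    refine Fin.cases ?_ (fun i => ?_) i <;> refine Fin.cases ?_ (fun j => ?_) j
    · simp [QuadraticMap.polar_self, hu]
    · simp [(hue j).1]
    · simp [QuadraticMap.polar_comm ⇑P (e i), (hue i).1]
    · simp [h.ee]
  · intro i j
    refine Fin.cases ?_ (fun i => ?_) i <;> refine Fin.cases ?_ (fun j => ?_) j
    · simp [QuadraticMap.polar_self, hv]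
    · simp [(hve j).2]
    · simp [QuadraticMap.polar_comm ⇑P (f i), (hve i).2]
    · simp [h.ff]

/-- even dimension: plus or minus, the minus form with any prescribed anisotropic coefficients -/
theorem exists_even_normal (P : QuadraticForm F V) (hP : (QuadraticMap.polarBilin P).Nondegenerate) {k : ℕ}
    (hd : Module.finrank F V = 2 * (k + 1)) {a b : F}
    (hab : ∀ z₁ z₂ : F, z₁ ^ 2 + a * z₁ * z₂ + b * z₂ ^ 2 = 0 → z₁ = 0 ∧ z₂ = 0) :
    (∃ L : (Fin (k + 1) ⊕ Fin (k + 1) → F) →ₗ[F] V, Function.Injective L ∧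
        ∀ v, P (L v) = Cfsg.quadFormPlus (k + 1) F v) ∨
      ∃ L : ((Fin k ⊕ Fin k) ⊕ Fin 2 → F) →ₗ[F] V, Function.Injective L ∧
        ∀ v, P (L v) = Cfsg.quadFormMinus k F a b v := by
  classical
  obtain ⟨e, f, h⟩ := exists_hypFamily P hP k (by omega)
  have hW := h.perp_nondegenerate hP
  have hdW := h.finrank_perp
  have hW2 : Module.finrank F (pairsPerp P e f) = 2 := by omega
  by_cases hiso : ∃ u : pairsPerp P e f, u ≠ 0 ∧ P (u : V) = 0
  · obtain ⟨u, hu0, hu⟩ := hiso
    obtain ⟨v, hv, huv⟩ := exists_partner_quad hW hu0 hu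
    exact Or.inl (exists_plus_map P (hyp_cons h (u := (u : V)) (v := (v : V)) hu hv huv u.2 v.2))
  · push Not at hiso
    obtain ⟨x, y, ζ, hζ, hx, hxy, hy, -⟩ := exists_binary_normal (P.comp (pairsPerp P e f).subtype) hW hW2
      fun w hw => by by_contra hne; exact hiso w hne hw
    have hanis : ∀ z₁ z₂ : F, z₁ ^ 2 + 1 * z₁ * z₂ + ζ * z₂ ^ 2 = 0 → z₁ = 0 ∧ z₂ = 0 := fun z₁ z₂ hz => by
      by_cases h0 : z₂ = 0
      · subst h0; simpa using hz
      · exact absurd (by field_simp; linear_combination hz) (hζ (z₁ / z₂))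
    have hx' : P (x : V) = 1 := hx
    have hy' : P (y : V) = ζ := hy
    have hxy' : pol P (x : V) (y : V) = 1 := hxy
    obtain ⟨L, hL, hv⟩ := exists_frame_map (quadFormMinus_nd (m := k) 1 ζ hanis) P one_ne_zero
      (Sum.elim (Sum.elim e f) ![(x : V), (y : V)])
      (fun i => by
        rcases i with (i | i) | i
        · simp [Cfsg.quadFormMinus, h.qe, Pi.single_apply]
        · simp [Cfsg.quadFormMinus, h.qf, Pi.single_apply]
        · fin_cases i <;> simp [Cfsg.quadFormMinus, hx', hy', Pi.single_apply])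
      (fun i j => by
        rw [one_mul, polar_quadFormMinus]
        rcases i with (i | i) | i <;> rcases j with (j | j) | j
        all_goals first
          | (fin_cases i <;> fin_cases j <;>
              simp [hxy', QuadraticMap.polar_comm (⇑P) (y : V) (x : V), QuadraticMap.polar_self, hx', hy', Pi.single_apply])
          | (fin_cases i <;> simp [(x.2 _).1, (x.2 _).2, (y.2 _).1, (y.2 _).2, Pi.single_apply])
          | (fin_cases j <;> simp [QuadraticMap.polar_comm (⇑P) (e _) (x : V), QuadraticMap.polar_comm (⇑P) (f _) (x : V),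
              QuadraticMap.polar_comm (⇑P) (e _) (y : V), QuadraticMap.polar_comm (⇑P) (f _) (y : V),
              (x.2 _).1, (x.2 _).2, (y.2 _).1, (y.2 _).2, Pi.single_apply])
          | simp [h.ef, h.ee, h.ff, QuadraticMap.polar_comm (⇑P) (f _) (e _), Pi.single_apply, eq_comm])
    obtain ⟨g, hg⟩ := exists_minus_map (m := k) hanis hab
    exact Or.inr ⟨L.comp (Matrix.mulVecLin (g : Matrix ((Fin k ⊕ Fin k) ⊕ Fin 2) ((Fin k ⊕ Fin k) ⊕ Fin 2) F)),
      hL.comp (Matrix.mulVec_injective_iff_isUnit.2 g.isUnit), fun v => by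
        rw [LinearMap.comp_apply, hv, one_mul, Matrix.mulVecLin_apply, hg]⟩

/-- odd dimension and odd characteristic: a multiple of the odd form -/
theorem exists_odd_normal (h2 : (2 : F) ≠ 0) (P : QuadraticForm F V) (hP : (QuadraticMap.polarBilin P).Nondegenerate)
    {m : ℕ} (hd : Module.finrank F V = 2 * m + 1) :
    ∃ (d : F) (L : (Unit ⊕ (Fin m ⊕ Fin m) → F) →ₗ[F] V), d ≠ 0 ∧ Function.Injective L ∧
      ∀ v, P (L v) = d * Cfsg.quadFormOdd m F v := by
  classical
  obtain ⟨e, f, h⟩ := exists_hypFamily P hP m (by omega)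
  have hW := h.perp_nondegenerate hP
  have hdW := h.finrank_perp
  obtain ⟨x, hx0, hxtop⟩ := (finrank_eq_one_iff').1 (show Module.finrank F (pairsPerp P e f) = 1 by omega)
  have hd0 : P (x : V) ≠ 0 := fun h0 => hx0 (hW.1 x fun z => by
    obtain ⟨c, rfl⟩ := hxtop z
    rw [QuadraticMap.polarBilin_apply_apply, QuadraticMap.polar_smul_right, QuadraticMap.polar_self]
    simp [h0])
  have hp : ∀ u v : Unit ⊕ (Fin m ⊕ Fin m) → F, pol (Cfsg.quadFormOdd m F) u v =
      2 * (u (.inl ()) * v (.inl ())) +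
        ∑ i, (u (.inr (.inl i)) * v (.inr (.inr i)) + v (.inr (.inl i)) * u (.inr (.inr i))) := fun u v => by
    simp only [QuadraticMap.polar, Cfsg.quadFormOdd, Pi.add_apply, add_mul, mul_add, Finset.sum_add_distrib]
    ring
  obtain ⟨L, hL, hv⟩ := exists_frame_map (quadFormOdd_nd (m := m) h2) P hd0
    (Sum.elim (fun _ => (x : V)) (Sum.elim (fun i => P (x : V) • e i) f))
    (fun i => by
      rcases i with i | (i | i) <;> simp [Cfsg.quadFormOdd, QuadraticMap.map_smul, h.qe, h.qf, Pi.single_apply])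
    (fun i j => by
      rw [hp]
      rcases i with i | (i | i) <;> rcases j with j | (j | j) <;>
        simp [QuadraticMap.polar_self, (x.2 _).1, (x.2 _).2, QuadraticMap.polar_comm (⇑P) (e _) (x : V),
          QuadraticMap.polar_comm (⇑P) (f _) (x : V), h.ef, h.ee, h.ff, QuadraticMap.polar_comm (⇑P) (f _) (e _),
          Pi.single_apply, eq_comm] <;> ring)
  exact ⟨P (x : V), L, hd0, hL, hv⟩

end CfsgLib.Orth.FieldCls
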