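import Cfsg.Agent.Lib.Orth.Field.Cls

/-!
# Extension of scalars for similarities of quadratic forms
-/

set_option autoImplicit false
set_option linter.all false

namespace CfsgLib.Orth.FieldCls

open scoped Matrix
open Matrix Cfsg.Geo CfsgLib.Orth CfsgLib.Perm.Asch CfsgLib.Perm.Trans CfsgLib.Perm.Trans.Quad

variable {ι : Type} [Fintype ι] [DecidableEq ι] {F : Type*} [Field F]

local notation "pol" => QuadraticMap.polar

/-- a form as a quadratic map -/
theorem exists_qf {Q : (ι → F) → F} (hQ : IsNondegenerateQuadraticForm Q) :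
    ∃ B : QuadraticForm F (ι → F), ⇑B = Q :=
  ⟨QuadraticMap.ofPolar Q (fun c x => by rw [hQ.smul c x, sq, smul_eq_mul]) (padd_left hQ)
      (fun c x y => by rw [psmul_left hQ, smul_eq_mul]), rfl⟩

/-- two quadratic maps agreeing on the standard basis -/
theorem qf_ext {P R : QuadraticForm F (ι → F)} (h1 : ∀ i, P (Pi.single i 1) = R (Pi.single i 1))
    (h2 : ∀ i j, pol P (Pi.single i 1) (Pi.single j 1) = pol R (Pi.single i 1) (Pi.single j 1)) : P = R := by
  have hb : QuadraticMap.polarBilin P = QuadraticMap.polarBilin R :=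
    LinearMap.ext_basis (Pi.basisFun F ι) (Pi.basisFun F ι) fun i j => by
      simpa [QuadraticMap.polarBilin_apply_apply] using h2 i j
  refine QuadraticMap.ext fun x => ?_
  have key : ∀ s : Finset ι, P (∑ i ∈ s, x i • Pi.single i (1 : F)) = R (∑ i ∈ s, x i • Pi.single i (1 : F)) := by
    intro s
    induction s using Finset.induction with
    | empty => simp
    | @insert i s hi ih =>
      have hp := LinearMap.congr_fun (LinearMap.congr_fun hb (x i • Pi.single i (1 : F)))
        (∑ j ∈ s, x j • Pi.single j (1 : F))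
      rw [QuadraticMap.polarBilin_apply_apply, QuadraticMap.polarBilin_apply_apply] at hp
      rw [Finset.sum_insert hi, QuadraticMap.map_add ⇑P, QuadraticMap.map_add ⇑R, hp, ih, QuadraticMap.map_smul,
        QuadraticMap.map_smul, h1]
  have e := key Finset.univ
  rwa [← pi_eq_sum_univ' x] at e

/-- two forms related on the standard basis by a matrix are related everywhere -/
theorem rel_of_basis {P R : (ι → F) → F} (hP : IsNondegenerateQuadraticForm P) (hR : IsNondegenerateQuadraticForm R)
    {M : Matrix ι ι F} {k : F} (h1 : ∀ i, P (M *ᵥ Pi.single i 1) = k * R (Pi.single i 1))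
    (h2 : ∀ i j, P (M *ᵥ (Pi.single i 1 + Pi.single j 1)) = k * R (Pi.single i 1 + Pi.single j 1)) :
    ∀ v, P (M *ᵥ v) = k * R v := by
  obtain ⟨p, hp⟩ := exists_qf hP
  obtain ⟨r, hr⟩ := exists_qf hR
  subst hp hr
  have e : p.comp (Matrix.mulVecLin M) = k • r := by
    refine qf_ext (fun i => ?_) fun i j => ?_
    · simpa [QuadraticMap.comp_apply] using h1 i
    · simp only [QuadraticMap.polar, QuadraticMap.comp_apply, Matrix.mulVecLin_apply, QuadraticMap.smul_apply,
        smul_eq_mul, h1, h2]
  intro v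
  have := congrArg (fun q : QuadraticForm F (ι → F) => q v) e
  simpa [QuadraticMap.comp_apply] using this

variable {K : Type*} [Field K] (f : F →+* K)

theorem map_mulVec_hom (M : Matrix ι ι F) (x : ι → F) : (M.map f) *ᵥ (fun i => f (x i)) = fun i => f ((M *ᵥ x) i) := by
  funext i; simp [Matrix.mulVec, dotProduct]

theorem single_hom (i : ι) : (Pi.single i (1 : K) : ι → K) = fun k => f ((Pi.single i 1 : ι → F) k) := by
  funext k; rw [Pi.single_apply, Pi.single_apply]; split <;> simp

/-- relations between forms extend to a bigger field -/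
theorem rel_map {P R : (ι → F) → F} {P' R' : (ι → K) → K} (hP : IsNondegenerateQuadraticForm P')
    (hR : IsNondegenerateQuadraticForm R') (eP : ∀ x : ι → F, P' (fun i => f (x i)) = f (P x))
    (eR : ∀ x : ι → F, R' (fun i => f (x i)) = f (R x)) {M : Matrix ι ι F} {k : F}
    (h : ∀ v, P (M *ᵥ v) = k * R v) : ∀ v, P' ((M.map f) *ᵥ v) = f k * R' v := by
  have key : ∀ x : ι → F, P' ((M.map f) *ᵥ fun i => f (x i)) = f k * R' (fun i => f (x i)) := fun x => by
    rw [map_mulVec_hom, eP, h, map_mul, eR]
  refine rel_of_basis hP hR (fun i => ?_) fun i j => ?_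
  · rw [single_hom f]; exact key _
  · rw [single_hom f, single_hom f,
      show ((fun k => f ((Pi.single i 1 : ι → F) k)) + fun k => f ((Pi.single j 1 : ι → F) k)) =
        fun k => f ((Pi.single i 1 + Pi.single j 1 : ι → F) k) from funext fun k => (map_add f _ _).symm]
    exact key _

/-- a reflection stays a reflection over a bigger field -/
theorem refl_map {Q : (ι → F) → F} {Q' : (ι → K) → K} (hQ' : IsNondegenerateQuadraticForm Q')
    (e : ∀ x : ι → F, Q' (fun i => f (x i)) = f (Q x)) {r : GL ι F} {v : ι → F} (hrv : IsRefl Q v r) :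
    IsRefl Q' (fun i => f (v i)) (Matrix.GeneralLinearGroup.map f r) := by
  intro x
  let L : (ι → K) →ₗ[K] (ι → K) :=
    { toFun := fun x => x - ((Q' fun i => f (v i))⁻¹ * pol Q' x (fun i => f (v i))) • fun i => f (v i)
      map_add' := fun x y => by simp only [padd_left hQ', mul_add, add_smul]; abel
      map_smul' := fun c x => by
        simp only [psmul_left hQ', RingHom.id_apply, smul_sub, smul_smul]
        congr 2; ring }
  suffices h : Matrix.mulVecLin ((r : Matrix ι ι F).map f) = L from LinearMap.congr_fun h x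
  refine (Pi.basisFun K ι).ext fun i => ?_
  rw [Pi.basisFun_apply, Matrix.mulVecLin_apply, single_hom f, map_mulVec_hom]
  show _ = (fun k => f ((Pi.single i 1 : ι → F) k)) - _ • _
  have hp : pol Q' (fun k => f ((Pi.single i 1 : ι → F) k)) (fun k => f (v k)) = f (pol Q (Pi.single i 1) v) := by
    rw [QuadraticMap.polar, QuadraticMap.polar, map_sub, map_sub, ← e, ← e, ← e]
    congr 3
    funext k; simp
  funext k
  rw [hp, e, hrv, Pi.sub_apply, Pi.sub_apply, Pi.smul_apply, Pi.smul_apply, map_sub, smul_eq_mul, smul_eq_mul,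
    map_mul, map_mul, map_inv₀]

variable [Fintype F] [Fintype K]

/-- the parity of an isometry does not change over a bigger field -/
theorem wrk_map {Q : (ι → F) → F} {Q' : (ι → K) → K} (hQ : IsNondegenerateQuadraticForm Q)
    (hQ' : IsNondegenerateQuadraticForm Q') (e : ∀ x : ι → F, Q' (fun i => f (x i)) = f (Q x))
    (hn : 5 ≤ Fintype.card ι) {g : GL ι F} (hg : g ∈ Cfsg.isometryGroup F Q) :
    Matrix.GeneralLinearGroup.map f g ∈ Cfsg.isometryGroup K Q' ∧
      (Even (wrk (Matrix.GeneralLinearGroup.map f g)) ↔ Even (wrk g)) := by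
  have hex : Fintype.card F ≠ 2 ∨ Fintype.card ι ≠ 4 := Or.inr (by omega)
  have hex' : Fintype.card K ≠ 2 ∨ Fintype.card ι ≠ 4 := Or.inr (by omega)
  have hiso : ∀ {g : GL ι F}, g ∈ Cfsg.isometryGroup F Q → Matrix.GeneralLinearGroup.map f g ∈ Cfsg.isometryGroup K Q' :=
    fun {g} hg => mem_iso.2 fun x => by
      have := rel_map f hQ' hQ' e e (M := (g : Matrix ι ι F)) (k := 1)
        (fun v => by rw [one_mul, mem_iso.1 hg]) x
      rw [map_one, one_mul] at this
      exact this
  refine ⟨hiso hg, ?_⟩
  have step : ∀ {r z : GL ι F} {v : ι → F}, r ∈ Cfsg.isometryGroup F Q → z ∈ Cfsg.isometryGroup F Q → Q v ≠ 0 →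
      IsRefl Q v r → (Even (wrk (Matrix.GeneralLinearGroup.map f z)) ↔ Even (wrk z)) →
      (Even (wrk (Matrix.GeneralLinearGroup.map f (r * z))) ↔ Even (wrk (r * z))) := by
    intro r z v hr hz hv hrv ih
    have hv' : Q' (fun i => f (v i)) ≠ 0 := by rw [e]; exact (map_ne_zero f).2 hv
    rw [map_mul, (spn_mul hQ' (iso_le_reflGroup hQ' hex' (hiso hr)) (hiso hz)).2,
      (spn_mul hQ (iso_le_reflGroup hQ hex hr) hz).2, ih, (refl_spn hQ hr hrv hv).1,
      (refl_spn hQ' (hiso hr) (refl_map f hQ' e hrv) hv').1]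
  have hg' := iso_le_reflGroup hQ hex hg
  clear hg
  induction hg' using Subgroup.closure_induction_left with
  | one => rw [map_one, (spn_one hQ).1, (spn_one hQ').1]
  | mul_left r hr z hz ih =>
    obtain ⟨hri, v, hv, hrv⟩ := hr
    exact step hri (reflGroup_le hz) hv hrv ih
  | inv_mul_cancel r hr z hz ih =>
    obtain ⟨hri, v, hv, hrv⟩ := hr
    rw [inv_eq_of_mul_eq_one_left (refl_mul_self hQ hrv hv)]
    exact step hri (reflGroup_le hz) hv hrv ih

end CfsgLib.Orth.FieldCls
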