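import Cfsg.Agent.Lib.Orth.Field.Minus

/-!
# The class predicate of the minus form
-/

set_option autoImplicit false
set_option linter.all false

namespace CfsgLib.Orth.FieldCls

open scoped Matrix
open Matrix Cfsg.Geo CfsgLib.Orth CfsgLib.Perm.Asch CfsgLib.Perm.Trans CfsgLib.Perm.Trans.Quad

universe u

variable {F : Type u} [Field F] [Fintype F] {m : ℕ}

local notation "J" => ((Fin m ⊕ Fin m) ⊕ Fin 2)

/-- an anisotropic monic binary form splits in every quadratic extension -/
theorem exists_root {a b : F} (hab : ∀ z₁ z₂ : F, z₁ ^ 2 + a * z₁ * z₂ + b * z₂ ^ 2 = 0 → z₁ = 0 ∧ z₂ = 0)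
    {K : Type*} [Field K] [Algebra F K] (hK : Module.finrank F K = 2) :
    ∃ ρ : K, ρ ^ 2 + algebraMap F K a * ρ + algebraMap F K b = 0 := by
  obtain ⟨f, hf⟩ : ∃ f, f = algebraMap F K := ⟨_, rfl⟩
  rw [← hf]
  haveI : FiniteDimensional F K := Module.finite_of_finrank_pos (by omega)
  obtain ⟨r, hr⟩ : ∃ r : K, ∀ x, f x ≠ r := by
    by_contra h
    push Not at h
    have h1 : Module.finrank F K ≤ Module.finrank F F :=
      LinearMap.finrank_le_finrank_of_surjective (f := Algebra.linearMap F K) fun y => by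
        obtain ⟨x, hx⟩ := h y
        exact ⟨x, by rw [← hx, hf]; rfl⟩
    rw [Module.finrank_self, hK] at h1
    omega
  obtain ⟨a', b', hr2⟩ : ∃ a' b' : F, r ^ 2 + f a' * r + f b' = 0 := by
    have hli : ¬ LinearIndependent F ![(1 : K), r, r ^ 2] := fun h => by
      have := h.fintype_card_le_finrank
      rw [hK, Fintype.card_fin] at this
      omega
    rw [Fintype.not_linearIndependent_iff] at hli
    obtain ⟨g, hg, i, hi⟩ := hli
    simp only [Fin.sum_univ_three, Matrix.cons_val_zero, Matrix.cons_val_one, Matrix.cons_val,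
      Algebra.smul_def, mul_one, ← hf] at hg
    have h2 : g 2 ≠ 0 := fun e => by
      rw [e, map_zero, zero_mul, add_zero] at hg
      by_cases e1 : g 1 = 0
      · rw [e1, map_zero, zero_mul, add_zero] at hg
        fin_cases i
        · exact hi ((map_eq_zero f).1 hg)
        · exact hi e1
        · exact hi e
      · refine hr (-(g 0) / g 1) ?_
        rw [map_div₀, map_neg, div_eq_iff ((map_ne_zero f).2 e1)]
        linear_combination -hg
    refine ⟨g 1 / g 2, g 0 / g 2, ?_⟩
    rw [map_div₀, map_div₀]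
    field_simp [(map_ne_zero f).2 h2]
    linear_combination hg
  have hab' : ∀ z₁ z₂ : F, z₁ ^ 2 + a' * z₁ * z₂ + b' * z₂ ^ 2 = 0 → z₁ = 0 ∧ z₂ = 0 := fun z₁ z₂ h => by
    by_cases hz : z₂ = 0
    · subst hz; simpa using h
    · exfalso
      have h' : f ((z₁ / z₂) ^ 2 + a' * (z₁ / z₂) + b') = 0 := by
        rw [show (z₁ / z₂) ^ 2 + a' * (z₁ / z₂) + b' = 0 by field_simp; linear_combination h, map_zero]
      simp only [map_add, map_mul, map_pow] at h'
      rcases mul_eq_zero.1 (show (r - f (z₁ / z₂)) * (r + f (z₁ / z₂) + f a') = 0 by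
        linear_combination hr2 - h') with e | e
      · exact hr _ (sub_eq_zero.1 e).symm
      · exact hr (-(z₁ / z₂) - a') (by rw [map_sub, map_neg]; linear_combination -e)
  obtain ⟨u₀, u₁, h1, h2⟩ := exists_binary_equiv hab hab'
  have hu : f u₁ ≠ 0 := (map_ne_zero f).2 fun e => one_ne_zero (hab' (-u₀) 1 (by
    subst e; linear_combination -h2 + u₀ * h1)).2
  have h1' := congrArg f h1
  have h2' := congrArg f h2
  simp only [map_add, map_mul, map_pow, map_ofNat] at h1' h2'
  refine ⟨(r + f u₀) / f u₁, ?_⟩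
  field_simp
  linear_combination hr2 + r * h1' + h2'

/-- a quadratic extension in the same universe, in every characteristic -/
theorem exists_ext {a b : F} (hab : ∀ z₁ z₂ : F, z₁ ^ 2 + a * z₁ * z₂ + b * z₂ ^ 2 = 0 → z₁ = 0 ∧ z₂ = 0) :
    ∃ (K : Type u) (_ : Field K) (_ : Algebra F K), Module.finrank F K = 2 := by
  obtain ⟨p, hp⟩ : ∃ p : Polynomial F, p = Polynomial.X ^ 2 + Polynomial.C a * Polynomial.X + Polynomial.C b := ⟨_, rfl⟩
  have hd : p.natDegree = 2 := by
    rw [hp]; compute_degree!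
  have hmo : p.Monic := by
    rw [hp]; monicity!
  have hirr : Irreducible p := by
    rw [Polynomial.Monic.irreducible_iff_roots_eq_zero_of_degree_le_three hmo (by omega) (by omega),
      Multiset.eq_zero_iff_forall_notMem]
    intro x hx
    rw [Polynomial.mem_roots hmo.ne_zero, hp] at hx
    simp [Polynomial.IsRoot] at hx
    exact one_ne_zero (hab x 1 (by linear_combination hx)).2
  haveI := Fact.mk hirr
  exact ⟨AdjoinRoot p, inferInstance, inferInstance, by
    rw [(AdjoinRoot.powerBasis hirr.ne_zero).finrank, AdjoinRoot.powerBasis_dim, hd]⟩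

/-- the predicate may be read in any field where the form splits -/
theorem presMinus_iff {a b : F} (hab : ∀ z₁ z₂ : F, z₁ ^ 2 + a * z₁ * z₂ + b * z₂ ^ 2 = 0 → z₁ = 0 ∧ z₂ = 0)
    (hm : 2 ≤ m) {K : Type*} [Field K] [Fintype K] (f : F →+* K) {ρ : K} (hρ : ρ ^ 2 + f a * ρ + f b = 0)
    {g : GL J F} (hg : g ∈ Cfsg.Geo.quadSimilarityGroup (F := F) (Cfsg.quadFormMinus m F a b)) :
    Cfsg.PreservesSingularClassesMinus m a b (g : Matrix J J F) ↔
      Cfsg.PreservesSingularClasses (Cfsg.quadFormMinus m K (f a) (f b)) ((g : Matrix J J F).map f) := by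
  constructor
  · rintro ⟨K', iK, iA, hK', h⟩
    haveI : Module.Finite F K' := Module.finite_of_finrank_pos (by omega)
    haveI : Finite K' := Module.finite_of_finite F
    haveI : Fintype K' := Fintype.ofFinite K'
    obtain ⟨ρ', hρ'⟩ := exists_root hab hK'
    exact (pres_ext_indep (algebraMap F K') f hab hρ' hρ hm hg).1 h
  · intro h
    obtain ⟨K', iK, iA, hK'⟩ := exists_ext hab
    haveI : Module.Finite F K' := Module.finite_of_finrank_pos (by omega)
    haveI : Finite K' := Module.finite_of_finite F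
    haveI : Fintype K' := Fintype.ofFinite K'
    obtain ⟨ρ', hρ'⟩ := exists_root hab hK'
    exact ⟨K', iK, iA, hK', (pres_ext_indep (algebraMap F K') f hab hρ' hρ hm hg).2 h⟩

/-- some field where the form splits -/
theorem exists_split {a b : F} (hab : ∀ z₁ z₂ : F, z₁ ^ 2 + a * z₁ * z₂ + b * z₂ ^ 2 = 0 → z₁ = 0 ∧ z₂ = 0) :
    ∃ (K : Type u) (_ : Field K) (_ : Fintype K) (f : F →+* K) (ρ : K), ρ ^ 2 + f a * ρ + f b = 0 := by
  obtain ⟨K, iK, iA, hK⟩ := exists_ext hab
  haveI : Module.Finite F K := Module.finite_of_finrank_pos (by omega)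
  haveI : Finite K := Module.finite_of_finite F
  obtain ⟨ρ, hρ⟩ := exists_root hab hK
  exact ⟨K, iK, Fintype.ofFinite K, algebraMap F K, ρ, hρ⟩

end CfsgLib.Orth.FieldCls
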