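import Mathlib
import Cfsg.Prelude.Def_LieTypeDatum
import Cfsg.Agent.Lib.Descent.SplitCount

/-!
# Splitting of a class under a normal subgroup, without a chosen character
-/

set_option autoImplicit false

namespace CfsgLib.Orth.FieldCls

variable {X : Type*} [Group X] {H K : Subgroup X}

/-- the number of classes is the index of `K C_H(x)` -/
theorem split_relIndex (hKH : K ≤ H) [K.Normal] (x : X) :
    Cfsg.splitClassCount H K x = (K ⊔ (H ⊓ Subgroup.centralizer {x})).relIndex H := by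
  classical
  obtain ⟨L, hL⟩ : ∃ L, L = K ⊔ (H ⊓ Subgroup.centralizer {x}) := ⟨_, rfl⟩
  rw [← hL]
  have key : ∀ a b : ↥H, Cfsg.IsConjUnder K (a.1 * x * a.1⁻¹) (b.1 * x * b.1⁻¹) ↔ a.1⁻¹ * b.1 ∈ L := by
    intro a b
    constructor
    · rintro ⟨k, hk, e⟩
      have hc : (k * a.1)⁻¹ * b.1 ∈ Subgroup.centralizer {x} := by
        rw [Subgroup.mem_centralizer_iff]
        rintro y rfl
        calc y * ((k * a.1)⁻¹ * b.1) = (k * a.1)⁻¹ * (k * (a.1 * y * a.1⁻¹) * k⁻¹) * b.1 := by group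
          _ = (k * a.1)⁻¹ * (b.1 * y * b.1⁻¹) * b.1 := by rw [← e]
          _ = _ := by group
      have hmem : (k * a.1)⁻¹ * b.1 ∈ H ⊓ Subgroup.centralizer {x} :=
        Subgroup.mem_inf.2 ⟨mul_mem (inv_mem (mul_mem (hKH hk) a.2)) b.2, hc⟩
      have e2 : a.1⁻¹ * b.1 = (a.1⁻¹ * k * a.1⁻¹⁻¹) * ((k * a.1)⁻¹ * b.1) := by group
      rw [hL, e2]
      exact mul_mem (Subgroup.mem_sup_left ((inferInstance : K.Normal).conj_mem _ hk _)) (Subgroup.mem_sup_right hmem)
    · intro h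
      rw [hL, Subgroup.mem_sup_of_normal_left] at h
      obtain ⟨k, hk, c, ⟨-, hc⟩, e⟩ := h
      refine ⟨a.1 * k * a.1⁻¹, (inferInstance : K.Normal).conj_mem _ hk _, ?_⟩
      have hb : b.1 = a.1 * k * c := by rw [mul_assoc, e]; group
      have hcx : c * x * c⁻¹ = x := by
        rw [mul_inv_eq_iff_eq_mul]
        exact (Subgroup.mem_centralizer_iff.1 hc x rfl).symm
      rw [hb]
      calc a.1 * k * c * x * (a.1 * k * c)⁻¹ = a.1 * k * (c * x * c⁻¹) * k⁻¹ * a.1⁻¹ := by group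
        _ = _ := by rw [hcx]; group
  have hex : ∀ y : {y : X // Cfsg.IsConjUnder H x y}, ∃ a : ↥H, y.1 = a.1 * x * a.1⁻¹ := by
    rintro ⟨y, a, ha, rfl⟩
    exact ⟨⟨a, ha⟩, rfl⟩
  choose rep hrep using hex
  refine Nat.card_congr
    { toFun := Quot.lift (fun y => QuotientGroup.mk (s := L.subgroupOf H) (rep y)) (fun y z h => ?_)
      invFun := fun q => Quotient.liftOn' q
        (fun a => Quot.mk _ (⟨a.1 * x * a.1⁻¹, ⟨a.1, a.2, rfl⟩⟩ : {y : X // Cfsg.IsConjUnder H x y})) (fun a b h => ?_)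
      left_inv := ?_
      right_inv := ?_ }
  · rw [QuotientGroup.eq, Subgroup.mem_subgroupOf]
    exact (key _ _).1 (by rw [← hrep y, ← hrep z]; exact h)
  · rw [QuotientGroup.leftRel_apply, Subgroup.mem_subgroupOf] at h
    exact Quot.sound ((key a b).2 h)
  · intro q
    induction q using Quot.ind with
    | mk y => exact congrArg (Quot.mk _) (Subtype.ext (hrep y).symm)
  · intro q
    induction q using Quotient.inductionOn' with
    | h a =>
      show QuotientGroup.mk (rep _) = QuotientGroup.mk a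
      rw [QuotientGroup.eq, Subgroup.mem_subgroupOf]
      refine (key _ _).1 ?_
      rw [← hrep ⟨a.1 * x * a.1⁻¹, ⟨a.1, a.2, rfl⟩⟩]
      exact ⟨1, one_mem _, by simp⟩

/-- every coset meets the centraliser: one class -/
theorem split_one (hKH : K ≤ H) [K.Normal] (x : X)
    (h : ∀ a ∈ H, ∃ c ∈ H, c * x = x * c ∧ c⁻¹ * a ∈ K) : Cfsg.splitClassCount H K x = 1 := by
  rw [split_relIndex hKH x, Subgroup.relIndex_eq_one]
  intro a ha
  obtain ⟨c, hc, hcx, hck⟩ := h a ha
  have hcC : c ∈ Subgroup.centralizer {x} := by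
    rw [Subgroup.mem_centralizer_iff]; rintro y rfl; exact hcx.symm
  rw [show a = c * (c⁻¹ * a) by group]
  exact mul_mem (Subgroup.mem_sup_right ⟨hc, hcC⟩) (Subgroup.mem_sup_left hck)

/-- the centraliser lies in `K`: all cosets separate -/
theorem split_all (hKH : K ≤ H) [K.Normal] (x : X) (h : ∀ c ∈ H, c * x = x * c → c ∈ K) :
    Cfsg.splitClassCount H K x = K.relIndex H := by
  rw [split_relIndex hKH x]
  congr 1
  refine sup_eq_left.2 fun c hc => h c hc.1 ?_
  exact (Subgroup.mem_centralizer_iff.1 hc.2 x rfl).symm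

/-- the centraliser fills exactly one non-trivial coset -/
theorem split_half (hKH : K ≤ H) [K.Normal] (x u : X) (hu : u ∈ H) (hux : u * x = x * u) (huK : u ∉ K)
    (h : ∀ c ∈ H, c * x = x * c → c ∈ K ∨ u⁻¹ * c ∈ K) :
    2 * Cfsg.splitClassCount H K x = K.relIndex H := by
  obtain ⟨L, hL⟩ : ∃ L, L = K ⊔ (H ⊓ Subgroup.centralizer {x}) := ⟨_, rfl⟩
  rw [split_relIndex hKH x, ← hL]
  have hLH : L ≤ H := hL ▸ sup_le hKH inf_le_left
  have hKL : K ≤ L := hL ▸ le_sup_left
  have huC : u ∈ Subgroup.centralizer {x} := by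
    rw [Subgroup.mem_centralizer_iff]; rintro y rfl; exact hux.symm
  have huL : u ∈ L := hL ▸ Subgroup.mem_sup_right ⟨hu, huC⟩
  have hmem : ∀ a ∈ L, a ∈ K ∨ u⁻¹ * a ∈ K := by
    intro a ha
    rw [hL, Subgroup.mem_sup_of_normal_left] at ha
    obtain ⟨k, hk, c, ⟨hcH, hcC⟩, rfl⟩ := ha
    rcases h c hcH (Subgroup.mem_centralizer_iff.1 hcC x rfl).symm with e | e
    · exact Or.inl (mul_mem hk e)
    · refine Or.inr ?_
      rw [show u⁻¹ * (k * c) = (u⁻¹ * k * u⁻¹⁻¹) * (u⁻¹ * c) by group]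
      exact mul_mem ((inferInstance : K.Normal).conj_mem _ hk _) e
  have h2 : K.relIndex L = 2 := by
    refine Subgroup.index_eq_two_iff.2 ⟨⟨u⁻¹, inv_mem huL⟩, fun b => ?_⟩
    simp only [Subgroup.mem_subgroupOf, Subgroup.coe_mul]
    have hconj : ∀ y : X, y * u⁻¹ ∈ K ↔ u⁻¹ * y ∈ K := fun y =>
      ⟨fun hy => by simpa [mul_assoc] using (inferInstance : K.Normal).conj_mem _ hy u⁻¹,
        fun hy => by simpa [mul_assoc] using (inferInstance : K.Normal).conj_mem _ hy u⟩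
    rw [hconj]
    rcases hmem b.1 b.2 with e | e
    · refine Or.inr ⟨e, fun e' => huK ?_⟩
      simpa using mul_mem e (inv_mem e')
    · refine Or.inl ⟨e, fun e' => huK ?_⟩
      simpa using mul_mem e' (inv_mem e)
  rw [← Subgroup.relIndex_mul_relIndex K L H hKL hLH, h2]

end CfsgLib.Orth.FieldCls
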