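import Cfsg.Agent.Lib.Orth.Field.Pair

/-!
# The rational form attached to an element of prime order in a coset of a field automorphism
-/

set_option autoImplicit false
set_option linter.all false

namespace CfsgLib.Orth.FieldCls

open scoped Matrix
open Matrix Cfsg.Geo CfsgLib.Orth CfsgLib.Perm.Asch CfsgLib.Perm.Trans CfsgLib.Perm.Trans.Quad

variable {ι : Type} [Fintype ι] [DecidableEq ι] {F : Type*} [Field F]

/-- `G` is a scalar multiple of `K σ(K)⁻¹` for a map `K` from `S` to a multiple of `Q` -/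
def Desc (Q S : (ι → F) → F) (σ : F ≃+* F) (G : GL ι F) : Prop :=
  ∃ (K : GL ι F) (a k : F), a ≠ 0 ∧ k ≠ 0 ∧
    (G : Matrix ι ι F) = a • ((K * (fieldGL σ K)⁻¹ : GL ι F) : Matrix ι ι F) ∧
    ∀ v, Q ((K : Matrix ι ι F) *ᵥ v) = k * S v

theorem desc_of_map {Q S : (ι → F) → F} {σ : F ≃+* F} {G B M : GL ι F} {a b l : F} (ha : a ≠ 0) (hb : b ≠ 0) (hl : l ≠ 0)
    (hG : (G : Matrix ι ι F) = a • ((B * (fieldGL σ B)⁻¹ : GL ι F) : Matrix ι ι F)) (hM : fieldGL σ M = M)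
    (hv : ∀ v, b * Q ((B : Matrix ι ι F) *ᵥ ((M : Matrix ι ι F) *ᵥ v)) = l * S v) : Desc Q S σ G := by
  refine ⟨B * M, a, b⁻¹ * l, ha, mul_ne_zero (inv_ne_zero hb) hl, ?_, fun v => ?_⟩
  · rw [hG, map_mul, hM, _root_.mul_inv_rev, show B * M * (M⁻¹ * (fieldGL σ B)⁻¹) = B * (fieldGL σ B)⁻¹ by group]
  · rw [gl_mul_mulVec, mul_assoc, ← hv v, inv_mul_cancel_left₀ hb]

theorem sim_of_semisim {Q : (ι → F) → F} {σ : F ≃+* F} (hσQ : ∀ v, Q (fun i => σ (v i)) = σ (Q v)) {G : GL ι F}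
    (h : Cfsg.IsSemisimilarityPair Q G σ) : G ∈ Cfsg.Geo.quadSimilarityGroup (F := F) Q := by
  obtain ⟨c, hc⟩ := h
  refine ⟨c, fun v => ?_⟩
  have h1 := hc fun i => σ.symm (v i)
  simp only [RingEquiv.apply_symm_apply] at h1
  rw [h1, ← hσQ]
  simp

/-- an anisotropic monic binary form -/
theorem exists_aniso (K : Type*) [Field K] [Finite K] :
    ∃ a b : K, ∀ z₁ z₂ : K, z₁ ^ 2 + a * z₁ * z₂ + b * z₂ ^ 2 = 0 → z₁ = 0 ∧ z₂ = 0 := by
  obtain ⟨ζ, hζ⟩ : ∃ ζ : K, ∀ t : K, t ^ 2 + t + ζ ≠ 0 := by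
    by_contra h
    push Not at h
    have hsur : Function.Surjective fun t : K => t ^ 2 + t := fun z => by
      obtain ⟨t, ht⟩ := h (-z)
      exact ⟨t, by linear_combination ht⟩
    have h01 := (Finite.injective_iff_surjective.2 hsur) (show (0 : K) ^ 2 + 0 = (-1) ^ 2 + (-1) by ring)
    exact one_ne_zero (neg_eq_zero.1 h01.symm)
  refine ⟨1, ζ, fun z₁ z₂ hz => ?_⟩
  by_cases h0 : z₂ = 0
  · subst h0; simpa using hz
  · exact absurd (by field_simp; linear_combination hz) (hζ (z₁ / z₂))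

variable [Fintype F]

/-- index change for the minus form inside `2 (k + 1)` coordinates -/
theorem exists_reindex (k : ℕ) : Nonempty (((Fin k ⊕ Fin k) ⊕ Fin 2) ≃ (Fin (k + 1) ⊕ Fin (k + 1))) :=
  ⟨Fintype.equivOfCardEq (by simp; omega)⟩

/-- plus type: the rational form is of plus type or of minus type -/
theorem desc_plus {k : ℕ} (hk : 2 ≤ k) (e : ((Fin k ⊕ Fin k) ⊕ Fin 2) ≃ (Fin (k + 1) ⊕ Fin (k + 1))) {σ : F ≃+* F} {r : ℕ}
    (hr : orderOf (σ : RingAut F) = r) (hr0 : 0 < r) {a b : F} (ha : σ a = a) (hb : σ b = b)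
    (hab : ∀ z₁ z₂ : F, σ z₁ = z₁ → σ z₂ = z₂ → z₁ ^ 2 + a * z₁ * z₂ + b * z₂ ^ 2 = 0 → z₁ = 0 ∧ z₂ = 0)
    {G : GL (Fin (k + 1) ⊕ Fin (k + 1)) F}
    (hG : Cfsg.IsSemisimilarityPair (Cfsg.quadFormPlus (k + 1) F) G σ) (hord : ind hG ^ r = 1) :
    Desc (Cfsg.quadFormPlus (k + 1) F) (Cfsg.quadFormPlus (k + 1) F) σ G ∨
      Desc (Cfsg.quadFormPlus (k + 1) F) (reix e (Cfsg.quadFormMinus k F a b)) σ G := by
  have hQ : IsNondegenerateQuadraticForm (Cfsg.quadFormPlus (k + 1) F) := quadFormPlus_nd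
  obtain ⟨B, a₁, b₁, ha₁, hb₁, hGB, hP⟩ := exists_lang hQ (by simp; omega) hr hr0 hG hord
  obtain ⟨F₀, hF₀⟩ : ∃ F₀, F₀ = Descent.fixedField (σ : RingAut F) := ⟨_, rfl⟩
  haveI : Fintype F₀ := Fintype.ofFinite F₀
  have hjf : ∀ x : F₀, σ (F₀.subtype x) = F₀.subtype x := fun x => by
    exact (SetLike.ext_iff.1 hF₀ (x : F)).1 x.2
  have hjs : ∀ x, σ x = x → ∃ y : F₀, F₀.subtype y = x := fun x hx => ⟨⟨x, by rw [hF₀]; exact hx⟩, rfl⟩
  obtain ⟨a₀, ha₀⟩ := hjs a ha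
  obtain ⟨b₀, hb₀⟩ := hjs b hb
  have hab₀ : ∀ z₁ z₂ : F₀, z₁ ^ 2 + a₀ * z₁ * z₂ + b₀ * z₂ ^ 2 = 0 → z₁ = 0 ∧ z₂ = 0 := fun z₁ z₂ h => by
    have h' := congrArg F₀.subtype h
    simp only [map_add, map_mul, map_pow, map_zero, ha₀, hb₀] at h'
    obtain ⟨e1, e2⟩ := hab _ _ (hjf z₁) (hjf z₂) h'
    exact ⟨F₀.subtype.injective (e1.trans (map_zero _).symm), F₀.subtype.injective (e2.trans (map_zero _).symm)⟩
  have hPn := nd_comp hQ B hb₁
  obtain ⟨P, hPP, hPnd⟩ := exists_sub_form hPn F₀.subtype (σ := σ) hP hjf hjs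
  have hd : Module.finrank F₀ (Fin (k + 1) ⊕ Fin (k + 1) → F₀) = 2 * (k + 1) := by
    rw [Module.finrank_fintype_fun_eq_card]; simp; omega
  rcases exists_even_normal P hPnd hd hab₀ with ⟨L, hL, hv⟩ | ⟨L, hL, hv⟩
  · obtain ⟨M, hM, hMv⟩ := exists_lift hPn F₀.subtype (Equiv.refl _) hjf hPP
      (quadFormPlus_nd (F := F) (m := k + 1)) (S := Cfsg.quadFormPlus (k + 1) F₀)
      (fun x => by simp [Cfsg.quadFormPlus, map_sum]) (k := 1) hL (fun v => by rw [hv, one_mul])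
    exact Or.inl (desc_of_map ha₁ hb₁ one_ne_zero hGB hM fun v => (hMv v).trans (by rw [map_one]; rfl))
  · obtain ⟨M, hM, hMv⟩ := exists_lift hPn F₀.subtype e hjf hPP
      (S' := Cfsg.quadFormMinus k F a b) (quadFormMinus_nd_disc (by
        have h := minus_disc hab₀
        intro h0
        apply h
        apply F₀.subtype.injective
        simp only [map_sub, map_pow, map_mul, map_ofNat, map_zero, ha₀, hb₀, h0]))
      (S := Cfsg.quadFormMinus k F₀ a₀ b₀)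
      (fun x => by rw [← ha₀, ← hb₀]; exact minus_eval _ a₀ b₀ x) (k := 1) hL (fun v => by rw [hv, one_mul])
    exact Or.inr (desc_of_map ha₁ hb₁ one_ne_zero hGB hM fun v => (hMv v).trans (by rw [map_one]))

/-- minus type: the rational form is of minus type and stays anisotropic -/
theorem desc_minus {m : ℕ} (hm : 2 ≤ m) {a' b' : F}
    (hab' : ∀ z₁ z₂ : F, z₁ ^ 2 + a' * z₁ * z₂ + b' * z₂ ^ 2 = 0 → z₁ = 0 ∧ z₂ = 0) {σ : F ≃+* F} {r : ℕ}
    (hr : orderOf (σ : RingAut F) = r) (hr0 : 0 < r) {a b : F} (ha : σ a = a) (hb : σ b = b)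
    (hab : ∀ z₁ z₂ : F, σ z₁ = z₁ → σ z₂ = z₂ → z₁ ^ 2 + a * z₁ * z₂ + b * z₂ ^ 2 = 0 → z₁ = 0 ∧ z₂ = 0)
    {G : GL ((Fin m ⊕ Fin m) ⊕ Fin 2) F}
    (hG : Cfsg.IsSemisimilarityPair (Cfsg.quadFormMinus m F a' b') G σ) (hord : ind hG ^ r = 1) :
    Desc (Cfsg.quadFormMinus m F a' b') (Cfsg.quadFormMinus m F a b) σ G ∧
      ∀ z₁ z₂ : F, z₁ ^ 2 + a * z₁ * z₂ + b * z₂ ^ 2 = 0 → z₁ = 0 ∧ z₂ = 0 := by
  have hQ : IsNondegenerateQuadraticForm (Cfsg.quadFormMinus m F a' b') := quadFormMinus_nd a' b' hab'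
  have hn : 5 ≤ Fintype.card ((Fin m ⊕ Fin m) ⊕ Fin 2) := by simp; omega
  obtain ⟨B, a₁, b₁, ha₁, hb₁, hGB, hP⟩ := exists_lang hQ hn hr hr0 hG hord
  obtain ⟨F₀, hF₀⟩ : ∃ F₀, F₀ = Descent.fixedField (σ : RingAut F) := ⟨_, rfl⟩
  haveI : Fintype F₀ := Fintype.ofFinite F₀
  have hjf : ∀ x : F₀, σ (F₀.subtype x) = F₀.subtype x := fun x => by
    exact (SetLike.ext_iff.1 hF₀ (x : F)).1 x.2
  have hjs : ∀ x, σ x = x → ∃ y : F₀, F₀.subtype y = x := fun x hx => ⟨⟨x, by rw [hF₀]; exact hx⟩, rfl⟩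
  obtain ⟨a₀, ha₀⟩ := hjs a ha
  obtain ⟨b₀, hb₀⟩ := hjs b hb
  have hab₀ : ∀ z₁ z₂ : F₀, z₁ ^ 2 + a₀ * z₁ * z₂ + b₀ * z₂ ^ 2 = 0 → z₁ = 0 ∧ z₂ = 0 := fun z₁ z₂ h => by
    have h' := congrArg F₀.subtype h
    simp only [map_add, map_mul, map_pow, map_zero, ha₀, hb₀] at h'
    obtain ⟨e1, e2⟩ := hab _ _ (hjf z₁) (hjf z₂) h'
    exact ⟨F₀.subtype.injective (e1.trans (map_zero _).symm), F₀.subtype.injective (e2.trans (map_zero _).symm)⟩
  have hPn := nd_comp hQ B hb₁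
  obtain ⟨P, hPP, hPnd⟩ := exists_sub_form hPn F₀.subtype (σ := σ) hP hjf hjs
  have hd : Module.finrank F₀ ((Fin m ⊕ Fin m) ⊕ Fin 2 → F₀) = 2 * (m + 1) := by
    rw [Module.finrank_fintype_fun_eq_card]; simp; omega
  have hbig : ∀ {K : GL ((Fin m ⊕ Fin m) ⊕ Fin 2) F} {S : ((Fin m ⊕ Fin m) ⊕ Fin 2 → F) → F},
      (∀ v, b₁ * Cfsg.quadFormMinus m F a' b' ((K : Matrix _ _ F) *ᵥ v) = S v) →
      ∀ U : Submodule F ((Fin m ⊕ Fin m) ⊕ Fin 2 → F), (∀ x ∈ U, S x = 0) → Module.finrank F U ≤ m := by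
    intro K S hKS U hU
    rw [← map_gl_finrank K U]
    refine Aut.minus_ts_finrank_le a' b' hab' ?_
    rintro _ ⟨y, hy, rfl⟩
    rw [Matrix.mulVecLin_apply]
    exact (mul_eq_zero.1 ((hKS y).trans (hU y hy))).resolve_left hb₁
  rcases exists_even_normal P hPnd hd hab₀ with ⟨L, hL, hv⟩ | ⟨L, hL, hv⟩
  · exfalso
    obtain ⟨e⟩ := exists_reindex m
    obtain ⟨M, hM, hMv⟩ := exists_lift hPn F₀.subtype e.symm hjf hPP
      (quadFormPlus_nd (F := F) (m := m + 1)) (S := Cfsg.quadFormPlus (m + 1) F₀)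
      (fun x => by simp [Cfsg.quadFormPlus, map_sum]) (k := 1) hL (fun v => by rw [hv, one_mul])
    obtain ⟨U₀, hU₀⟩ : ∃ U₀, U₀ = LinearMap.ker (LinearMap.funLeft F F (Sum.inr : Fin (m + 1) → Fin (m + 1) ⊕ Fin (m + 1))) :=
      ⟨_, rfl⟩
    have h1 := hbig (K := B * M) (S := reix e.symm (Cfsg.quadFormPlus (m + 1) F))
      (fun v => by rw [gl_mul_mulVec]; exact (hMv v).trans (by rw [map_one, one_mul]))
      (U₀.map (LinearMap.funLeft F F e))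
      (by
        rintro _ ⟨y, hy, rfl⟩
        rw [hU₀] at hy
        have := (std_singular (F := F) (m + 1)).2 y hy
        simpa [reix, LinearMap.funLeft_apply] using this)
    rw [(Submodule.equivMapOfInjective _ (LinearMap.funLeft_injective_of_surjective F F e e.surjective) U₀).finrank_eq.symm,
      hU₀, (std_singular (F := F) (m + 1)).1] at h1
    omega
  · obtain ⟨M, hM, hMv⟩ := exists_lift hPn F₀.subtype (Equiv.refl _) hjf hPP
      (S' := Cfsg.quadFormMinus m F a b) (quadFormMinus_nd_disc (by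
        have h := minus_disc hab₀
        intro h0
        apply h
        apply F₀.subtype.injective
        simp only [map_sub, map_pow, map_mul, map_ofNat, map_zero, ha₀, hb₀, h0]))
      (S := Cfsg.quadFormMinus m F₀ a₀ b₀)
      (fun x => by rw [← ha₀, ← hb₀]; exact minus_eval _ a₀ b₀ x) (k := 1) hL (fun v => by rw [hv, one_mul])
    refine ⟨desc_of_map ha₁ hb₁ one_ne_zero hGB hM fun v => (hMv v).trans (by rw [map_one]; rfl), fun z₁ z₂ hz => ?_⟩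
    by_contra hne
    have hroot : ∃ ρ : F, ρ ^ 2 + a * ρ + b = 0 := by
      refine ⟨z₁ / z₂, ?_⟩
      have : z₂ ≠ 0 := fun h => hne ⟨by subst h; simpa using hz, h⟩
      field_simp
      linear_combination hz
    obtain ⟨ρ, hρ⟩ := hroot
    obtain ⟨U, hU, -⟩ := exists_lag (m := m) (RingHom.id F) (a := a) (b := b) (ρ := ρ) hρ
    have h1 := hbig (K := B * M) (S := Cfsg.quadFormMinus m F a b)
      (fun v => by rw [gl_mul_mulVec]; exact (hMv v).trans (by rw [map_one, one_mul]; rfl)) U hU.2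
    rw [hU.1] at h1
    omega

/-- odd dimension: the rational form is a multiple of the standard one -/
theorem desc_odd (h2 : (2 : F) ≠ 0) {m : ℕ} (hm : 2 ≤ m) {σ : F ≃+* F} {r : ℕ}
    (hr : orderOf (σ : RingAut F) = r) (hr0 : 0 < r) {G : GL (Unit ⊕ (Fin m ⊕ Fin m)) F}
    (hG : Cfsg.IsSemisimilarityPair (Cfsg.quadFormOdd m F) G σ) (hord : ind hG ^ r = 1) :
    Desc (Cfsg.quadFormOdd m F) (Cfsg.quadFormOdd m F) σ G := by
  have hQ : IsNondegenerateQuadraticForm (Cfsg.quadFormOdd m F) := quadFormOdd_nd h2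
  obtain ⟨B, a₁, b₁, ha₁, hb₁, hGB, hP⟩ := exists_lang hQ (by simp; omega) hr hr0 hG hord
  obtain ⟨F₀, hF₀⟩ : ∃ F₀, F₀ = Descent.fixedField (σ : RingAut F) := ⟨_, rfl⟩
  haveI : Fintype F₀ := Fintype.ofFinite F₀
  have hjf : ∀ x : F₀, σ (F₀.subtype x) = F₀.subtype x := fun x => by
    exact (SetLike.ext_iff.1 hF₀ (x : F)).1 x.2
  have hjs : ∀ x, σ x = x → ∃ y : F₀, F₀.subtype y = x := fun x hx => ⟨⟨x, by rw [hF₀]; exact hx⟩, rfl⟩
  have hPn := nd_comp hQ B hb₁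
  obtain ⟨P, hPP, hPnd⟩ := exists_sub_form hPn F₀.subtype (σ := σ) hP hjf hjs
  have h20 : (2 : F₀) ≠ 0 := fun h => h2 (by
    have := congrArg F₀.subtype h
    rwa [map_ofNat, map_zero] at this)
  obtain ⟨d, L, hd, hL, hv⟩ := exists_odd_normal h20 P hPnd (m := m) (by
    rw [Module.finrank_fintype_fun_eq_card]; simp; omega)
  obtain ⟨M, hM, hMv⟩ := exists_lift hPn F₀.subtype (Equiv.refl _) hjf hPP
    (quadFormOdd_nd (F := F) (m := m) h2) (S := Cfsg.quadFormOdd m F₀)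
    (fun x => by simp [Cfsg.quadFormOdd, map_sum]) hL hv
  exact desc_of_map ha₁ hb₁ ((map_ne_zero F₀.subtype).2 hd) hGB hM fun v => (hMv v).trans rfl

end CfsgLib.Orth.FieldCls
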