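import Cfsg.Agent.Lib.Orth.Field.Emb
import Cfsg.Agent.Lib.Orth.Field.Count
import Cfsg.Agent.Lib.Orth.Field.Rational
import Cfsg.Agent.Lib.Orth.SemiInvol
import Cfsg.Agent.Lib.Orth.Aut.CardAut

/-!
# Tools for centralisers of field automorphisms
-/

set_option autoImplicit false
set_option linter.all false

namespace CfsgLib.Orth.FieldCls

open scoped Matrix
open Matrix Cfsg.Geo CfsgLib.Orth CfsgLib.Perm.Asch CfsgLib.Perm.Trans CfsgLib.Perm.Trans.Quad

variable {F : Type*} [Field F] [Fintype F]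

/-- the field with `p ^ (f / r)` elements as the fixed field -/
theorem exists_j {σ : F ≃+* F} {r p f : ℕ} (hp : p.Prime) (hF : Fintype.card F = p ^ f)
    (hr : orderOf (σ : RingAut F) = r) (hr0 : 0 < r) (F₀ : Type*) [Field F₀] [Fintype F₀]
    (hF₀ : Fintype.card F₀ = p ^ (f / r)) :
    r ∣ f ∧ ∃ j : F₀ →+* F, (∀ c, σ (j c) = j c) ∧ ∀ x, σ x = x → ∃ c, j c = x := by
  obtain ⟨hrf, hcard⟩ := Descent.card_fixedField hp hF hr hr0
  haveI : Fintype (Descent.fixedField (σ : RingAut F)) := Fintype.ofFinite _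
  rw [Nat.card_eq_fintype_card, ← hF₀] at hcard
  let e : F₀ ≃+* Descent.fixedField (σ : RingAut F) := FiniteField.ringEquivOfCardEq hcard.symm
  exact ⟨hrf, (Descent.fixedField (σ : RingAut F)).subtype.comp e.toRingHom, fun c => (e c).2,
    fun x hx => ⟨e.symm ⟨x, hx⟩, by simp⟩⟩

/-- for an involutory `σ` fixed elements are squares -/
theorem sqc_fixed_one {σ : F ≃+* F} (hr : orderOf (σ : RingAut F) = 2) {x : F} (hx : σ x = x) : sqc x = 1 := by
  by_cases hx0 : x = 0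
  · rw [hx0, sqc, dif_pos rfl]
  rw [sqc_eq_one_iff hx0]
  by_cases h2 : (2 : F) = 0
  · exact isSquare_of_two h2 x
  refine isSquare_of_fixed h2 (fun y => ?_) (fun e => ?_) hx
  · have h := pow_orderOf_eq_one (σ : RingAut F)
    rw [hr, sq] at h
    exact DFunLike.congr_fun h y
  · have h : orderOf (σ : RingAut F) = 1 := orderOf_eq_one_iff.2 e
    omega

/-- for `σ` of odd order non-squares of the fixed field stay non-squares -/
theorem square_descends {σ : F ≃+* F} {r : ℕ} (hr : orderOf (σ : RingAut F) = r) (hodd : Odd r)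
    {F₀ : Type*} [Field F₀] (j : F₀ →+* F) (hfix : ∀ c, σ (j c) = j c) (hsurj : ∀ x, σ x = x → ∃ c, j c = x)
    {c : F₀} (h : IsSquare (j c)) : IsSquare c := by
  obtain ⟨t, ht⟩ := h
  have htt : σ t * σ t = t * t := by rw [← map_mul, ← ht, hfix]
  rcases mul_self_eq_mul_self_iff.1 htt with e | e
  · obtain ⟨s, rfl⟩ := hsurj t e
    exact ⟨s, j.injective (by rw [ht, map_mul])⟩
  · have hit : ∀ n : ℕ, ((σ : RingAut F) ^ n) t = (-1 : F) ^ n * t := fun n => by
      induction n with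
      | zero => simp
      | succ n ih => rw [pow_succ', RingAut.mul_apply, ih, map_mul, map_pow, map_neg, map_one, e, pow_succ']; ring
    have h1 := hit r
    rw [← hr, pow_orderOf_eq_one, hr, hodd.neg_one_pow] at h1
    have h2 : σ t = t := by rw [e]; simpa using h1.symm
    obtain ⟨s, rfl⟩ := hsurj t h2
    exact ⟨s, j.injective (by rw [ht, map_mul])⟩

variable {ι : Type} [Fintype ι] [DecidableEq ι] {Q : (ι → F) → F}

/-- elements of `Omega` give inner automorphisms -/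
theorem inn_of_omega (hQ : IsNondegenerateQuadraticForm Q) (hn : 5 ≤ Fintype.card ι) {h : GL ι F}
    (hh : h ∈ Cfsg.isometryGroup F Q) (hs : spn Q h = 1) (he : Even (wrk h)) :
    simHom Q ⟨h, iso_sim hh⟩ ∈ Cfsg.Inn (Cfsg.POmega F Q) := by
  rw [inn_eq]
  exact ⟨⟨h, iso_sim hh⟩,
    ⟨⟨h, hh⟩, (mem_omega_iff hQ (by omega) (Or.inr (by omega)) ⟨h, hh⟩).2 ⟨hs, he⟩, rfl⟩, rfl⟩

/-- scalar factors do not matter -/
theorem simHom_scalar_mul (hQ : IsNondegenerateQuadraticForm Q) (hn : 5 ≤ Fintype.card ι)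
    {g h : ↥(Cfsg.Geo.quadSimilarityGroup (F := F) Q)} {t : F} (e : (g.1 : Matrix ι ι F) = t • (h.1 : Matrix ι ι F)) :
    simHom Q g = simHom Q h := ind_scalar (sim_pair g.2) (sim_pair h.2) e

/-- in odd dimension a similarity is a scalar times an even isometry -/
theorem odd_factor (hQ : IsNondegenerateQuadraticForm Q) (h2 : (2 : F) ≠ 0) (hodd : Odd (Fintype.card ι))
    (hn : 5 ≤ Fintype.card ι) (g : ↥(Cfsg.Geo.quadSimilarityGroup (F := F) Q)) :
    ∃ (h : GL ι F) (hh : h ∈ Cfsg.isometryGroup F Q), Even (wrk h) ∧ simHom Q g = simHom Q ⟨h, iso_sim hh⟩ := by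
  obtain ⟨c, hc⟩ := g.2
  obtain ⟨m, hm⟩ := hodd
  obtain ⟨t, ht⟩ : ∃ t : F, (c : F) = t * t := by
    have hd := (det_sq_sim hQ (g := (g.1 : Matrix ι ι F)) hc).trans (congrArg (fun k => (c : F) ^ k) hm)
    rw [pow_succ, pow_mul'] at hd
    refine ⟨(g.1 : Matrix ι ι F).det / (c : F) ^ m, ?_⟩
    field_simp
    linear_combination -hd
  have hmain : ∀ t : F, t ≠ 0 → (c : F) = t * t → ∃ (h : GL ι F) (hh : h ∈ Cfsg.isometryGroup F Q),
      (h : Matrix ι ι F) = t⁻¹ • (g.1 : Matrix ι ι F) ∧ simHom Q g = simHom Q ⟨h, iso_sim hh⟩ := by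
    intro t ht0 ht
    obtain ⟨h, hh⟩ : ∃ h : GL ι F, (h : Matrix ι ι F) = t⁻¹ • (g.1 : Matrix ι ι F) :=
      ⟨Units.map (Matrix.scalar ι).toMonoidHom (Units.mk0 t⁻¹ (inv_ne_zero ht0)) * g.1, by
        rw [Units.val_mul]
        show Matrix.scalar ι t⁻¹ * _ = _
        rw [Matrix.scalar_apply, ← Matrix.smul_eq_diagonal_mul]⟩
    have hi : h ∈ Cfsg.isometryGroup F Q := mem_iso.2 fun v => by
      rw [hh, smul_mulVec, hQ.smul, hc, ht]
      field_simp
    refine ⟨h, hi, hh, simHom_scalar_mul hQ hn (t := t) ?_⟩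
    show (g.1 : Matrix ι ι F) = t • (h : Matrix ι ι F)
    rw [hh, smul_smul, mul_inv_cancel₀ ht0, one_smul]
  have ht0 : t ≠ 0 := fun e => c.ne_zero (by rw [ht, e, mul_zero])
  obtain ⟨h, hi, hhv, hsim⟩ := hmain t ht0 ht
  by_cases hev : Even (wrk h)
  · exact ⟨h, hi, hev, hsim⟩
  obtain ⟨h', hi', hhv', hsim'⟩ := hmain (-t) (neg_ne_zero.2 ht0) (by rw [ht]; ring)
  refine ⟨h', hi', ?_, hsim'⟩
  rw [← det_eq_one_iff hQ h2 hi', hhv', inv_neg, neg_smul, ← hhv, Matrix.det_neg,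
    det_eq_neg_one_pow hQ (hex_of_two h2) hi, hm, (Nat.not_even_iff_odd.1 hev).neg_one_pow,
    (odd_two_mul_add_one m).neg_one_pow]
  ring

end CfsgLib.Orth.FieldCls
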