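import Cfsg.Agent.Lib.Orth.Field.MinusCls

/-!
# The inner-diagonal groups as images of similarity groups, in every characteristic
-/

set_option autoImplicit false
set_option linter.all false

namespace CfsgLib.Orth.FieldCls

open scoped Matrix
open Matrix Cfsg.Geo CfsgLib.Orth CfsgLib.Perm.Asch CfsgLib.Perm.Trans CfsgLib.Perm.Trans.Quad

universe u

variable {ι : Type} [Fintype ι] [DecidableEq ι] {F : Type u} [Field F] [Fintype F]
variable {Q : (ι → F) → F}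

local notation "Sim" => Cfsg.Geo.quadSimilarityGroup (F := F)

/-- a character with values in `Prop` cuts out a subgroup of the image -/
theorem closure_char (hQ : IsNondegenerateQuadraticForm Q) (hn : 5 ≤ Fintype.card ι) {P : ↥(Sim Q) → Prop}
    (hmul : ∀ g h, P (g * h) ↔ (P g ↔ P h)) (hsc : ∀ g : ↥(Sim Q), (∃ c : F, (g.1 : Matrix ι ι F) = c • 1) → P g)
    {β : MulAut (Cfsg.POmega F Q)} :
    β ∈ Subgroup.closure {β | ∃ g, P g ∧ simHom Q g = β} ↔ ∃ g, P g ∧ simHom Q g = β := by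
  have h1 : P 1 := hsc 1 ⟨1, by simp⟩
  refine ⟨fun h => ?_, fun h => Subgroup.subset_closure h⟩
  induction h using Subgroup.closure_induction with
  | mem x hx => exact hx
  | one => exact ⟨1, h1, map_one _⟩
  | mul x y _ _ hx hy =>
    obtain ⟨g, hg, rfl⟩ := hx
    obtain ⟨g', hg', rfl⟩ := hy
    exact ⟨g * g', (hmul g g').2 (iff_of_true hg hg'), map_mul _ _ _⟩
  | inv x _ hx =>
    obtain ⟨g, hg, rfl⟩ := hx
    refine ⟨g⁻¹, ?_, map_inv _ _⟩
    have := hmul g g⁻¹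
    rw [mul_inv_cancel] at this
    exact (this.1 h1).1 hg

theorem char_congr (hQ : IsNondegenerateQuadraticForm Q) (hn : 5 ≤ Fintype.card ι) {P : ↥(Sim Q) → Prop}
    (hmul : ∀ g h, P (g * h) ↔ (P g ↔ P h)) (hsc : ∀ g : ↥(Sim Q), (∃ c : F, (g.1 : Matrix ι ι F) = c • 1) → P g)
    {g h : ↥(Sim Q)} (e : simHom Q g = simHom Q h) : P g ↔ P h := by
  have h1 : P (g⁻¹ * h) := hsc _ ((simHom_ker hQ hn _).1 (by rw [map_mul, map_inv, e, inv_mul_cancel]))
  have := hmul g (g⁻¹ * h)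
  rw [mul_inv_cancel_left] at this
  tauto

variable {m : ℕ}

theorem plus_lag : IsLag (Cfsg.quadFormPlus m F) m
    (LinearMap.ker (LinearMap.funLeft F F (Sum.inr : Fin m → Fin m ⊕ Fin m))) := std_singular m

/-- plus type: the predicate is a character -/
theorem plus_mul (hm : 3 ≤ m) (g h : ↥(Sim (Cfsg.quadFormPlus m F))) :
    Cfsg.PreservesSingularClasses (Cfsg.quadFormPlus m F) ((g * h).1 : Matrix (Fin m ⊕ Fin m) (Fin m ⊕ Fin m) F) ↔
      (Cfsg.PreservesSingularClasses (Cfsg.quadFormPlus m F) (g.1 : Matrix (Fin m ⊕ Fin m) (Fin m ⊕ Fin m) F) ↔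
        Cfsg.PreservesSingularClasses (Cfsg.quadFormPlus m F) (h.1 : Matrix (Fin m ⊕ Fin m) (Fin m ⊕ Fin m) F)) := by
  obtain ⟨c, hc⟩ := g.2
  obtain ⟨d, hd⟩ := h.2
  exact pres_mul quadFormPlus_nd (by simp; omega) plus_card plus_lag hc hd

theorem plus_scalar (hm : 3 ≤ m) (g : ↥(Sim (Cfsg.quadFormPlus m F)))
    (h : ∃ c : F, (g.1 : Matrix (Fin m ⊕ Fin m) (Fin m ⊕ Fin m) F) = c • 1) :
    Cfsg.PreservesSingularClasses (Cfsg.quadFormPlus m F) (g.1 : Matrix (Fin m ⊕ Fin m) (Fin m ⊕ Fin m) F) := by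
  obtain ⟨c, hc⟩ := h
  exact pres_scalar quadFormPlus_nd (by simp; omega) plus_card plus_lag hc

theorem inndiag_plus (hm : 3 ≤ m) {β : MulAut (Cfsg.POmega F (Cfsg.quadFormPlus m F))} :
    β ∈ Cfsg.inndiagPOmegaPlus m F ↔ ∃ g : ↥(Sim (Cfsg.quadFormPlus m F)),
      Cfsg.PreservesSingularClasses (Cfsg.quadFormPlus m F) (g.1 : Matrix (Fin m ⊕ Fin m) (Fin m ⊕ Fin m) F) ∧
      simHom (Cfsg.quadFormPlus m F) g = β := by
  refine Iff.trans ?_ (closure_char quadFormPlus_nd (by simp; omega) (plus_mul hm) (plus_scalar hm))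
  rw [Cfsg.inndiagPOmegaPlus, Cfsg.autSubgroupOf]
  refine iff_of_eq (congrArg (fun S => β ∈ Subgroup.closure S) (Set.ext fun γ => ?_))
  exact ⟨fun ⟨g, hg, hp, hi⟩ => ⟨⟨g, hg⟩, hp, ((isInduced_iff (sim_pair hg)).1 hi).symm⟩,
    fun ⟨g, hp, e⟩ => ⟨g.1, g.2, hp, e ▸ ind_isInduced (sim_pair g.2)⟩⟩

theorem simHom_mem_plus (hm : 3 ≤ m) (g : ↥(Sim (Cfsg.quadFormPlus m F))) :
    simHom (Cfsg.quadFormPlus m F) g ∈ Cfsg.inndiagPOmegaPlus m F ↔
      Cfsg.PreservesSingularClasses (Cfsg.quadFormPlus m F) (g.1 : Matrix (Fin m ⊕ Fin m) (Fin m ⊕ Fin m) F) := by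
  rw [inndiag_plus hm]
  exact ⟨fun ⟨h, hp, e⟩ => (char_congr quadFormPlus_nd (by simp; omega) (plus_mul hm) (plus_scalar hm) e).1 hp,
    fun h => ⟨g, h, rfl⟩⟩

theorem plus_refl (hm : 3 ≤ m) {r : GL (Fin m ⊕ Fin m) F} (hr : r ∈ Cfsg.isometryGroup F (Cfsg.quadFormPlus m F))
    {v : Fin m ⊕ Fin m → F} (hv : Cfsg.quadFormPlus m F v ≠ 0) (hrv : IsRefl (Cfsg.quadFormPlus m F) v r) :
    ¬ Cfsg.PreservesSingularClasses (Cfsg.quadFormPlus m F) (r : Matrix (Fin m ⊕ Fin m) (Fin m ⊕ Fin m) F) :=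
  not_pres_refl quadFormPlus_nd (by simp; omega) plus_card plus_lag hr hv hrv

local notation "J" => ((Fin m ⊕ Fin m) ⊕ Fin 2)

variable {a b : F}

/-- minus type: the predicate is a character -/
theorem minus_mul (hab : ∀ z₁ z₂ : F, z₁ ^ 2 + a * z₁ * z₂ + b * z₂ ^ 2 = 0 → z₁ = 0 ∧ z₂ = 0) (hm : 2 ≤ m)
    (g h : ↥(Sim (Cfsg.quadFormMinus m F a b))) :
    Cfsg.PreservesSingularClassesMinus m a b ((g * h).1 : Matrix J J F) ↔
      (Cfsg.PreservesSingularClassesMinus m a b (g.1 : Matrix J J F) ↔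
        Cfsg.PreservesSingularClassesMinus m a b (h.1 : Matrix J J F)) := by
  obtain ⟨K, iK, iT, f, ρ, hρ⟩ := exists_split hab
  rw [presMinus_iff hab hm f hρ g.2, presMinus_iff hab hm f hρ h.2, presMinus_iff hab hm f hρ (g * h).2]
  have hd := minus_disc hab
  have hQK : IsNondegenerateQuadraticForm (Cfsg.quadFormMinus m K (f a) (f b)) :=
    quadFormMinus_nd_disc (fun e => hd (f.injective (by rw [map_sub, map_pow, map_mul, map_ofNat, map_zero, e])))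
  obtain ⟨U, hU, -⟩ := exists_lag (m := m) f hρ
  obtain ⟨c, hc⟩ := g.2
  obtain ⟨d, hd'⟩ := h.2
  rw [show (((g * h).1 : GL J F) : Matrix J J F).map f =
    ((Matrix.GeneralLinearGroup.map f g.1 * Matrix.GeneralLinearGroup.map f h.1 : GL J K) : Matrix J J K) by
      rw [← map_mul]; rfl]
  exact pres_mul hQK (by simp; omega) minus_card hU (g := Matrix.GeneralLinearGroup.map f g.1)
    (rel_map f hQK hQK (minus_eval f a b) (minus_eval f a b) hc) (rel_map f hQK hQK (minus_eval f a b) (minus_eval f a b) hd')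

theorem minus_scalar (hab : ∀ z₁ z₂ : F, z₁ ^ 2 + a * z₁ * z₂ + b * z₂ ^ 2 = 0 → z₁ = 0 ∧ z₂ = 0) (hm : 2 ≤ m)
    (g : ↥(Sim (Cfsg.quadFormMinus m F a b))) (h : ∃ c : F, (g.1 : Matrix J J F) = c • 1) :
    Cfsg.PreservesSingularClassesMinus m a b (g.1 : Matrix J J F) := by
  obtain ⟨K, iK, iT, f, ρ, hρ⟩ := exists_split hab
  rw [presMinus_iff hab hm f hρ g.2]
  have hd := minus_disc hab
  have hQK : IsNondegenerateQuadraticForm (Cfsg.quadFormMinus m K (f a) (f b)) :=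
    quadFormMinus_nd_disc (fun e => hd (f.injective (by rw [map_sub, map_pow, map_mul, map_ofNat, map_zero, e])))
  obtain ⟨U, hU, -⟩ := exists_lag (m := m) f hρ
  obtain ⟨c, hc⟩ := h
  exact pres_scalar hQK (by simp; omega) minus_card hU (g := Matrix.GeneralLinearGroup.map f g.1) (c := f c) (by
    show (g.1 : Matrix J J F).map f = _
    rw [hc]
    ext i j
    simp [Matrix.one_apply, apply_ite f])

set_option maxHeartbeats 100000 in
theorem minus_refl (hab : ∀ z₁ z₂ : F, z₁ ^ 2 + a * z₁ * z₂ + b * z₂ ^ 2 = 0 → z₁ = 0 ∧ z₂ = 0) (hm : 2 ≤ m)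
    {r : GL J F} (hr : r ∈ Cfsg.isometryGroup F (Cfsg.quadFormMinus m F a b))
    {v : J → F} (hv : Cfsg.quadFormMinus m F a b v ≠ 0) (hrv : IsRefl (Cfsg.quadFormMinus m F a b) v r) :
    ¬ Cfsg.PreservesSingularClassesMinus m a b (r : Matrix J J F) := by
  obtain ⟨K, iK, iT, f, ρ, hρ⟩ := exists_split hab
  rw [presMinus_iff hab hm f hρ (iso_sim hr)]
  have hd := minus_disc hab
  have hQK : IsNondegenerateQuadraticForm (Cfsg.quadFormMinus m K (f a) (f b)) :=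
    quadFormMinus_nd_disc (fun e => hd (f.injective (by rw [map_sub, map_pow, map_mul, map_ofNat, map_zero, e])))
  obtain ⟨U, hU, -⟩ := exists_lag (m := m) f hρ
  have hrK := (wrk_map f (quadFormMinus_nd a b hab) hQK (minus_eval f a b) (by simp; omega) hr).1
  have hrvK := refl_map f hQK (minus_eval f a b) hrv
  have hv0 : Cfsg.quadFormMinus m K (f a) (f b) (fun i => f (v i)) ≠ 0 := by
    rw [minus_eval]; exact (map_ne_zero f).2 hv
  have hn : 5 ≤ Fintype.card J := by simp; omega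
  have hfin := @not_pres_refl J _ _ K _ (Cfsg.quadFormMinus m K (f a) (f b)) _ hQK hn (m + 1) minus_card U hU _ hrK _ hv0 hrvK
  have he : ((r : Matrix J J F).map f) = ((Matrix.GeneralLinearGroup.map f r : GL J K) : Matrix J J K) := rfl
  rw [he]
  exact hfin

theorem inndiag_minus (hab : ∀ z₁ z₂ : F, z₁ ^ 2 + a * z₁ * z₂ + b * z₂ ^ 2 = 0 → z₁ = 0 ∧ z₂ = 0) (hm : 2 ≤ m)
    {β : MulAut (Cfsg.POmega F (Cfsg.quadFormMinus m F a b))} :
    β ∈ Cfsg.inndiagPOmegaMinus m F a b ↔ ∃ g : ↥(Sim (Cfsg.quadFormMinus m F a b)),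
      Cfsg.PreservesSingularClassesMinus m a b (g.1 : Matrix J J F) ∧ simHom (Cfsg.quadFormMinus m F a b) g = β := by
  refine Iff.trans ?_ (closure_char (quadFormMinus_nd a b hab) (by simp; omega) (minus_mul hab hm) (minus_scalar hab hm))
  rw [Cfsg.inndiagPOmegaMinus, Cfsg.autSubgroupOf]
  refine iff_of_eq (congrArg (fun S => β ∈ Subgroup.closure S) (Set.ext fun γ => ?_))
  exact ⟨fun ⟨g, hg, hp, hi⟩ => ⟨⟨g, hg⟩, hp, ((isInduced_iff (sim_pair hg)).1 hi).symm⟩,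
    fun ⟨g, hp, e⟩ => ⟨g.1, g.2, hp, e ▸ ind_isInduced (sim_pair g.2)⟩⟩

theorem simHom_mem_minus (hab : ∀ z₁ z₂ : F, z₁ ^ 2 + a * z₁ * z₂ + b * z₂ ^ 2 = 0 → z₁ = 0 ∧ z₂ = 0) (hm : 2 ≤ m)
    (g : ↥(Sim (Cfsg.quadFormMinus m F a b))) :
    simHom (Cfsg.quadFormMinus m F a b) g ∈ Cfsg.inndiagPOmegaMinus m F a b ↔
      Cfsg.PreservesSingularClassesMinus m a b (g.1 : Matrix J J F) := by
  rw [inndiag_minus hab hm]
  exact ⟨fun ⟨h, hp, e⟩ => (char_congr (quadFormMinus_nd a b hab) (by simp; omega) (minus_mul hab hm)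
      (minus_scalar hab hm) e).1 hp,
    fun h => ⟨g, h, rfl⟩⟩

theorem inndiag_odd : Cfsg.inndiagPOmegaOdd m F = (simHom (Cfsg.quadFormOdd m F)).range := pgoAut_eq

end CfsgLib.Orth.FieldCls
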