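import Cfsg.Agent.Lib.Orth.Field.Descend
import Cfsg.Agent.Lib.Orth.Field.InnDiag
import Cfsg.Agent.Lib.Orth.Aut.StdForms

/-!
# Field and graph-field classes as induced semisimilarities
-/

set_option autoImplicit false
set_option linter.all false

namespace CfsgLib.Orth.FieldCls

open scoped Matrix
open Matrix Cfsg.Geo CfsgLib.Orth CfsgLib.Perm.Asch CfsgLib.Perm.Trans CfsgLib.Perm.Trans.Quad

variable {ι : Type} [Fintype ι] [DecidableEq ι] {F : Type*} [Field F] [Fintype F]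
variable {Q : (ι → F) → F}

local notation "pol" => QuadraticMap.polar

/-- automorphisms of a finite field commute -/
theorem ringAut_comm (σ τ : F ≃+* F) (x : F) : σ (τ x) = τ (σ x) := by
  rcases eq_or_ne x 0 with rfl | hx
  · simp
  obtain ⟨g, hg⟩ := IsCyclic.exists_generator (α := Fˣ)
  have hpow : ∀ s : F ≃+* F, ∃ a : ℤ, ∀ k : ℤ, s ((g ^ k : Fˣ) : F) = ((g ^ (a * k) : Fˣ) : F) := fun s => by
    obtain ⟨a, ha⟩ := Subgroup.mem_zpowers_iff.1 (hg (Units.map s.toRingHom.toMonoidHom g))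
    refine ⟨a, fun k => ?_⟩
    rw [_root_.zpow_mul, ha, ← _root_.map_zpow]
    rfl
  obtain ⟨k, hk⟩ := Subgroup.mem_zpowers_iff.1 (hg (Units.mk0 x hx))
  obtain ⟨a, ha⟩ := hpow σ
  obtain ⟨b, hb⟩ := hpow τ
  have hx' : x = ((g ^ k : Fˣ) : F) := by rw [hk]; rfl
  rw [hx', hb, ha, ha, hb, mul_left_comm]

theorem ind_scalar {g g' : GL ι F} {σ : F ≃+* F} (h : Cfsg.IsSemisimilarityPair Q g σ)
    (h' : Cfsg.IsSemisimilarityPair Q g' σ) {c : F} (hc : (g : Matrix ι ι F) = c • (g' : Matrix ι ι F)) :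
    ind h = ind h' := by
  refine MulEquiv.ext fun x => ?_
  obtain ⟨s, rfl⟩ := QuotientGroup.mk'_surjective _ x
  refine congrArg QuotientGroup.mk (Subtype.ext (Subtype.ext ?_))
  show semiConj g σ s.1.1 = semiConj g' σ s.1.1
  unfold semiConj
  rw [mul_inv_eq_iff_eq_mul]
  have e : (g' * fieldGL σ s.1.1 * g'⁻¹ * g : GL ι F) = g * fieldGL σ s.1.1 := Units.ext (by
    rw [Units.val_mul _ g, hc, mul_smul_comm, ← Units.val_mul, inv_mul_cancel_right, Units.val_mul, Units.val_mul, hc,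
      smul_mul_assoc])
  exact e.symm

variable (hQ : IsNondegenerateQuadraticForm Q)
include hQ

/-- the field part is invariant under conjugation -/
theorem pair_of_conj (hn : 5 ≤ Fintype.card ι) (htop : Cfsg.gammaPOmega F Q = ⊤)
    {x α : MulAut (Cfsg.POmega F Q)} {g : GL ι F} {σ : F ≃+* F} (h : Cfsg.IsSemisimilarityPair Q g σ)
    (e : α * x * α⁻¹ = ind h) : ∃ (G : GL ι F) (hG : Cfsg.IsSemisimilarityPair Q G σ), x = ind hG := by
  have hmem : ∀ β : MulAut (Cfsg.POmega F Q), β ∈ gammaSub Q := fun β => by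
    rw [← gammaPOmega_eq, htop]; exact Subgroup.mem_top β
  obtain ⟨A, τ, hA, hα⟩ := hmem α
  obtain ⟨G, ρ, hG, hx⟩ := hmem x
  subst hα hx
  rw [mul_inv_eq_iff_eq_mul, ind_mul, ind_mul] at e
  have h1 := (ind_inj hQ hn e).1
  have h2 : ρ = σ := RingEquiv.ext fun y => τ.injective (by
    have := DFunLike.congr_fun h1 y
    simpa [ringAut_comm σ τ] using this)
  subst h2
  exact ⟨G, hG, rfl⟩

/-- the field part of an element of prime order -/
theorem field_order (hn : 5 ≤ Fintype.card ι) {g : GL ι F} {σ : F ≃+* F} (h : Cfsg.IsSemisimilarityPair Q g σ)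
    {r : ℕ} (hr : r.Prime) (hord : ind h ^ r = 1) (hσ : σ ≠ RingEquiv.refl F) :
    orderOf (σ : RingAut F) = r := by
  rw [ind_pow] at hord
  haveI := Fact.mk hr
  exact orderOf_eq_prime (G := RingAut F) (ind_eq_one hQ hn _ hord).1 hσ

omit hQ in
theorem fieldAut_eq (hσQ : ∀ (σ : F ≃+* F) v, Q (fun i => σ (v i)) = σ (Q v)) {σ : F ≃+* F}
    {φ : MulAut (Cfsg.POmega F Q)} (h : Cfsg.IsFieldAutPOmegaOf Q σ φ) : φ = ind (semisim_field (hσQ σ)) :=
  (isInduced_iff _).1 fun s s' e => h s s' (by simpa using e)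

/-- field automorphisms -/
theorem pair_of_field (hn : 5 ≤ Fintype.card ι) (htop : Cfsg.gammaPOmega F Q = ⊤)
    (hσQ : ∀ (σ : F ≃+* F) v, Q (fun i => σ (v i)) = σ (Q v)) {x : MulAut (Cfsg.POmega F Q)}
    (hx : Cfsg.IsFieldAutClassPOmega Q x) :
    ∃ (σ : F ≃+* F) (G : GL ι F) (hG : Cfsg.IsSemisimilarityPair Q G σ), σ ≠ RingEquiv.refl F ∧ x = ind hG := by
  obtain ⟨α, φ, σ, hσ, hφ, e⟩ := hx
  obtain ⟨G, hG, hxe⟩ := pair_of_conj hQ hn htop (semisim_field (hσQ σ)) (e.trans (fieldAut_eq hσQ hφ))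
  exact ⟨σ, G, hG, hσ, hxe⟩

omit hQ

/-- graph-field automorphisms -/
theorem pair_of_graphField {m : ℕ} (hm : 5 ≤ m) {x : MulAut (Cfsg.POmega F (Cfsg.quadFormPlus m F))}
    (hx : Cfsg.IsGraphFieldAutClassPOmegaPlus m x) :
    ∃ (σ : F ≃+* F) (G : GL (Fin m ⊕ Fin m) F)
      (hG : Cfsg.IsSemisimilarityPair (Cfsg.quadFormPlus m F) G σ), σ ≠ RingEquiv.refl F ∧ x = ind hG := by
  obtain ⟨α, γ, φ, σ, v, r, hσ, hv, -, hr, hγ, hφ, e⟩ := hx
  have hQ : IsNondegenerateQuadraticForm (Cfsg.quadFormPlus m F) := quadFormPlus_nd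
  obtain ⟨r', hr', hrv⟩ := exists_refl hQ hv
  obtain ⟨B, hB⟩ := exists_qf hQ
  have hrr : r = r' := by
    refine gl_ext_vec fun y => ?_
    rw [← hB] at hrv hr
    rw [hrv, isRefl_reflectionMatrix hr y]
  subst hrr
  rw [(isInduced_iff (sim_pair (iso_sim hr'))).1 hγ, fieldAut_eq (fun σ => quadFormPlus_field σ) hφ, ind_mul] at e
  obtain ⟨G, hG, hxe⟩ := pair_of_conj hQ (by simp; omega) (Aut.gamma_top_plus hm) _ e
  refine ⟨(σ.trans (RingEquiv.refl F)), G, hG, ?_, hxe⟩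
  exact fun h => hσ (RingEquiv.ext fun y => DFunLike.congr_fun h y)

/-- a linear map between two forms induces an isomorphism of their groups -/
theorem exists_transport {Q' : (ι → F) → F} (g : GL ι F) (h : ∀ v, Q ((g : Matrix ι ι F) *ᵥ v) = Q' v) :
    ∃ Φ : Cfsg.POmega F Q' ≃* Cfsg.POmega F Q, ∀ s : Cfsg.Omega F Q', ∃ t : Cfsg.Omega F Q,
      t.1.1 = g * s.1.1 * g⁻¹ ∧ Φ (QuotientGroup.mk s) = QuotientGroup.mk t := by
  have hi : ∀ v, Q' (((g⁻¹ : GL ι F) : Matrix ι ι F) *ᵥ v) = Q v := fun v => by rw [← h, gl_mulVec_inv]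
  let E : ↥(Cfsg.isometryGroup F Q') ≃* ↥(Cfsg.isometryGroup F Q) :=
    { toFun := fun s => ⟨g * s.1 * g⁻¹, mem_iso.2 fun v => by rw [gl_mul_mulVec, gl_mul_mulVec, h, mem_iso.1 s.2, hi]⟩
      invFun := fun s => ⟨g⁻¹ * s.1 * g, mem_iso.2 fun v => by rw [gl_mul_mulVec, gl_mul_mulVec, hi, mem_iso.1 s.2, h]⟩
      left_inv := fun s => Subtype.ext (by show g⁻¹ * (g * s.1 * g⁻¹) * g = s.1; group)
      right_inv := fun s => Subtype.ext (by show g * (g⁻¹ * s.1 * g) * g⁻¹ = s.1; group)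
      map_mul' := fun a b => Subtype.ext (by show g * (a.1 * b.1) * g⁻¹ = g * a.1 * g⁻¹ * (g * b.1 * g⁻¹); group) }
  have hmap : (Cfsg.Omega F Q').map E.toMonoidHom = Cfsg.Omega F Q := by
    show (commutator _).map _ = commutator _
    rw [commutator_def, Subgroup.map_commutator, Subgroup.map_top_of_surjective _ E.surjective]
    rfl
  obtain ⟨eO, heO⟩ : ∃ eO : ↥(Cfsg.Omega F Q') ≃* ↥(Cfsg.Omega F Q), ∀ s, (eO s).1 = E s.1 :=
    ⟨(E.subgroupMap (Cfsg.Omega F Q')).trans (MulEquiv.subgroupCongr hmap), fun s => rfl⟩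
  refine ⟨QuotientGroup.congr _ _ eO ?_, fun s => ⟨eO s, congrArg Subtype.val (heO s), rfl⟩⟩
  ext y
  constructor
  · rintro ⟨z, hz, rfl⟩
    refine Subgroup.mem_center_iff.2 fun w => ?_
    obtain ⟨w, rfl⟩ := eO.surjective w
    show eO w * eO z = eO z * eO w
    rw [← map_mul, ← map_mul, Subgroup.mem_center_iff.1 hz]
  · intro hy
    obtain ⟨z, rfl⟩ := eO.surjective y
    exact ⟨z, Subgroup.mem_center_iff.2 fun w => eO.injective (by
      rw [map_mul, map_mul, Subgroup.mem_center_iff.1 hy]), rfl⟩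

/-- field automorphisms of the minus type -/
theorem pair_of_minus {m : ℕ} (hm : 3 ≤ m) {a b : F}
    (hab : ∀ z₁ z₂ : F, z₁ ^ 2 + a * z₁ * z₂ + b * z₂ ^ 2 = 0 → z₁ = 0 ∧ z₂ = 0)
    {x : MulAut (Cfsg.POmega F (Cfsg.quadFormMinus m F a b))} (hx : Cfsg.IsFieldAutClassPOmegaMinus m x) :
    ∃ (σ : F ≃+* F) (G : GL ((Fin m ⊕ Fin m) ⊕ Fin 2) F)
      (hG : Cfsg.IsSemisimilarityPair (Cfsg.quadFormMinus m F a b) G σ), σ ≠ RingEquiv.refl F ∧ x = ind hG := by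
  obtain ⟨a', b', ψ, σ, hab', hσ, ha, hb, hφ⟩ := hx
  obtain ⟨g, hg⟩ := exists_minus_map (m := m) hab hab'
  obtain ⟨Φ, hΦ⟩ := exists_transport g hg
  have hσ' : ∀ v, Cfsg.quadFormMinus m F a' b' (fun i => σ (v i)) = σ (Cfsg.quadFormMinus m F a' b' v) := fun v => by
    have := quadFormMinus_field (m := m) a' b' σ v
    rwa [ha, hb] at this
  obtain ⟨G1, hG1⟩ : ∃ G1, G1 = g * (fieldGL σ g)⁻¹ := ⟨_, rfl⟩
  have hp : Cfsg.IsSemisimilarityPair (Cfsg.quadFormMinus m F a b) G1 σ := by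
    refine ⟨1, fun v => ?_⟩
    have e : ((fieldGL σ g)⁻¹ : GL ((Fin m ⊕ Fin m) ⊕ Fin 2) F) = fieldGL σ g⁻¹ := (map_inv _ _).symm
    rw [hG1, gl_mul_mulVec, hg, e, fieldGL_mulVec, hσ', Units.val_one, one_mul, ← hg (((g⁻¹ : GL _ F) : Matrix _ _ F) *ᵥ v),
      gl_mulVec_inv]
  have key : MulEquiv.trans ψ Φ * x * (MulEquiv.trans ψ Φ : MulAut _)⁻¹ = ind hp := by
    refine (isInduced_iff hp).1 fun s s' es => ?_
    obtain ⟨y, hy⟩ := QuotientGroup.mk'_surjective _ (Φ.symm (QuotientGroup.mk s))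
    obtain ⟨t, ht, ht'⟩ := hΦ y
    show Φ (ψ (x (ψ.symm (Φ.symm (QuotientGroup.mk s))))) = _
    rw [← hy]
    obtain ⟨y', hy'⟩ : ∃ y' : Cfsg.Omega F (Cfsg.quadFormMinus m F a' b'), y'.1.1 = fieldGL σ y.1.1 :=
      ⟨omegaAut (semisim_field hσ') y, by rw [omegaAut_val]; unfold semiConj; group⟩
    have h1 : ψ (x (ψ.symm (QuotientGroup.mk y))) = QuotientGroup.mk y' := hφ y y' (congrArg Units.val hy')
    show Φ (ψ (x (ψ.symm (QuotientGroup.mk y)))) = _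
    rw [h1]
    obtain ⟨t', hts, hts'⟩ := hΦ y'
    rw [hts']
    have hst : (QuotientGroup.mk s : Cfsg.POmega F (Cfsg.quadFormMinus m F a b)) = QuotientGroup.mk t := by
      rw [← ht']
      exact (Φ.apply_symm_apply _).symm.trans (congrArg Φ hy).symm
    have h2 : ind hp (QuotientGroup.mk t) = QuotientGroup.mk t' := by
      refine ind_isInduced hp t t' (congrArg Units.val (?_ : t'.1.1 = G1 * fieldGL σ t.1.1 * G1⁻¹))
      rw [hts, ht, hy', hG1, map_mul, map_mul, map_inv]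
      group
    rw [← h2, ← hst]
    exact ind_isInduced hp s s' es
  obtain ⟨G, hG, hxe⟩ := pair_of_conj (quadFormMinus_nd a b hab) (by simp; omega) (Aut.gamma_top_minus hm a b hab) hp key
  exact ⟨σ, G, hG, hσ, hxe⟩

end CfsgLib.Orth.FieldCls
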