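import Cfsg.Agent.Lib.Orth.Field.CentGraph
import Cfsg.Agent.Lib.Orth.Field.Pair

/-!
# Centraliser and splitting for field automorphisms of the minus type group
-/

set_option autoImplicit false
set_option linter.all false

namespace CfsgLib.Orth.FieldCls

open scoped Matrix
open Matrix Cfsg.Geo CfsgLib.Orth CfsgLib.Perm.Asch CfsgLib.Perm.Trans CfsgLib.Perm.Trans.Quad

universe u v

variable {F : Type u} [Field F] [Fintype F] {F₀ : Type v} [Field F₀] [Fintype F₀] {k : ℕ}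

local notation "J" => ((Fin k ⊕ Fin k) ⊕ Fin 2)

variable {a b : F}

theorem minus_iso_iff (hab : ∀ z₁ z₂ : F, z₁ ^ 2 + a * z₁ * z₂ + b * z₂ ^ 2 = 0 → z₁ = 0 ∧ z₂ = 0) (hk : 2 ≤ k)
    {h : GL J F} (hh : h ∈ Cfsg.isometryGroup F (Cfsg.quadFormMinus k F a b)) :
    Cfsg.PreservesSingularClassesMinus k a b (h : Matrix J J F) ↔ Even (wrk h) := by
  obtain ⟨K, iK, iT, f, ρ, hρ⟩ := exists_split hab
  rw [presMinus_iff hab hk f hρ (iso_sim hh)]
  have hd := minus_disc hab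
  have hQK : IsNondegenerateQuadraticForm (Cfsg.quadFormMinus k K (f a) (f b)) :=
    quadFormMinus_nd_disc (fun e => hd (f.injective (by rw [map_sub, map_pow, map_mul, map_ofNat, map_zero, e])))
  obtain ⟨U, hU, -⟩ := exists_lag (m := k) f hρ
  obtain ⟨hhK, hp⟩ := wrk_map f (quadFormMinus_nd a b hab) hQK (minus_eval f a b) (by simp; omega) hh
  have e : (h : Matrix J J F).map f = ((Matrix.GeneralLinearGroup.map f h : GL J K) : Matrix J J K) := rfl
  rw [← hp, e]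
  exact pres_iso_iff hQK (by simp; omega) minus_card hU hhK

theorem inn_le_minus (hab : ∀ z₁ z₂ : F, z₁ ^ 2 + a * z₁ * z₂ + b * z₂ ^ 2 = 0 → z₁ = 0 ∧ z₂ = 0) (hk : 2 ≤ k) :
    Cfsg.Inn (Cfsg.POmega F (Cfsg.quadFormMinus k F a b)) ≤ Cfsg.inndiagPOmegaMinus k F a b := by
  have hQ := quadFormMinus_nd (m := k) a b hab
  have hn : 5 ≤ Fintype.card J := by simp; omega
  intro β hβ
  rw [inn_eq] at hβ
  obtain ⟨g, ⟨w, hw, hwg⟩, rfl⟩ := hβ
  refine (simHom_mem_minus hab hk g).2 ?_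
  rw [show g.1 = w.1 from hwg.symm, minus_iso_iff hab hk w.2]
  exact ((mem_omega_iff hQ (by omega) (Or.inr (by omega)) w).1 hw).2

/-- field automorphisms of the minus type group -/
theorem minus_field_cent (hab : ∀ z₁ z₂ : F, z₁ ^ 2 + a * z₁ * z₂ + b * z₂ ^ 2 = 0 → z₁ = 0 ∧ z₂ = 0) (hk : 2 ≤ k)
    {σ : F ≃+* F} {r : ℕ} (hr : r.Prime) (hσr : orderOf (σ : RingAut F) = r)
    {G : GL J F} (hs : Cfsg.IsSemisimilarityPair (Cfsg.quadFormMinus k F a b) G σ) (hord : ind hs ^ r = 1)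
    (j : F₀ →+* F) (hfix : ∀ c, σ (j c) = j c) (hsurj : ∀ x, σ x = x → ∃ c, j c = x)
    (hcard : r = 2 → Fintype.card F = Fintype.card F₀ ^ 2) :
    Odd r ∧ (∃ a₀ b₀ : F₀, (∀ z₁ z₂ : F₀, z₁ ^ 2 + a₀ * z₁ * z₂ + b₀ * z₂ ^ 2 = 0 → z₁ = 0 ∧ z₂ = 0) ∧
      Nonempty (↥(Cfsg.inndiagPOmegaMinus k F a b ⊓ Subgroup.centralizer {ind hs}) ≃* ↥(Cfsg.inndiagPOmegaMinus k F₀ a₀ b₀))) ∧
    Cfsg.splitClassCount (Cfsg.inndiagPOmegaMinus k F a b)
      (Cfsg.Inn (Cfsg.POmega F (Cfsg.quadFormMinus k F a b))) (ind hs) = 1 := by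
  have hn : 5 ≤ Fintype.card J := by simp; omega
  have hQ := quadFormMinus_nd (m := k) a b hab
  haveI := inn_normal (Cfsg.POmega F (Cfsg.quadFormMinus k F a b))
  obtain ⟨a₀, b₀, hab₀⟩ := exists_aniso F₀
  have hab' : ∀ z₁ z₂ : F, σ z₁ = z₁ → σ z₂ = z₂ → z₁ ^ 2 + j a₀ * z₁ * z₂ + j b₀ * z₂ ^ 2 = 0 → z₁ = 0 ∧ z₂ = 0 := by
    intro z₁ z₂ h1 h2 hz
    obtain ⟨x, rfl⟩ := hsurj z₁ h1
    obtain ⟨y, rfl⟩ := hsurj z₂ h2
    obtain ⟨e1, e2⟩ := hab₀ x y (j.injective (by rw [map_zero, ← hz]; simp))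
    exact ⟨by rw [e1, map_zero], by rw [e2, map_zero]⟩
  obtain ⟨hD, haniF⟩ := desc_minus hk hab hσr hr.pos (hfix a₀) (hfix b₀) hab' hs hord
  obtain ⟨K, α, l, hα, hl, hGK, hK⟩ := hD
  have hro : Odd r := by
    refine hr.odd_of_ne_two fun h2 => ?_
    letI : Algebra F₀ F := j.toAlgebra
    haveI : Module.Finite F₀ F := Module.Finite.of_finite
    have hfr : Module.finrank F₀ F = 2 := by
      have h1 := Module.card_eq_pow_finrank (K := F₀) (V := F)
      exact (Nat.pow_right_injective Fintype.one_lt_card ((hcard h2).symm.trans h1)).symm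
    obtain ⟨ρ, hρ⟩ := exists_root hab₀ hfr
    exact one_ne_zero (haniF ρ 1 (by rw [RingHom.algebraMap_toAlgebra] at hρ; linear_combination hρ)).2
  have D : Model (Cfsg.quadFormMinus k F a b) σ G (Equiv.refl J) j (Cfsg.quadFormMinus k F₀ a₀ b₀)
      (Cfsg.quadFormMinus k F (j a₀) (j b₀)) K α l :=
    ⟨hQ, quadFormMinus_nd a₀ b₀ hab₀, quadFormMinus_nd (j a₀) (j b₀) haniF, minus_eval j a₀ b₀, hfix, hsurj, hα, hl,
      hGK, hK⟩
  -- a field where both binary parts split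
  obtain ⟨L, iL, iA, hL⟩ := exists_ext hab
  haveI : Module.Finite F L := Module.finite_of_finrank_pos (by omega)
  haveI : Finite L := Module.finite_of_finite F
  haveI : Fintype L := Fintype.ofFinite L
  obtain ⟨f, hf⟩ : ∃ f, f = algebraMap F L := ⟨_, rfl⟩
  obtain ⟨ρ, hρ⟩ := exists_root hab hL
  obtain ⟨ρ₁, hρ₁⟩ := exists_root haniF hL
  rw [← hf] at hρ hρ₁
  have hρ₀ : ρ₁ ^ 2 + (f.comp j) a₀ * ρ₁ + (f.comp j) b₀ = 0 := hρ₁
  obtain ⟨U, hU, -⟩ := exists_lag (m := k) f hρ₁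
  have hQL : IsNondegenerateQuadraticForm (Cfsg.quadFormMinus k L (f a) (f b)) := quadFormMinus_nd_disc (fun e =>
    minus_disc hab (f.injective (by rw [map_sub, map_pow, map_mul, map_ofNat, map_zero, e])))
  have hSL : IsNondegenerateQuadraticForm (Cfsg.quadFormMinus k L (f (j a₀)) (f (j b₀))) := quadFormMinus_nd_disc (fun e =>
    minus_disc haniF (f.injective (by rw [map_sub, map_pow, map_mul, map_ofNat, map_zero, e])))
  have hKL := rel_map f hQL hSL (minus_eval f a b) (minus_eval f (j a₀) (j b₀)) hK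
  have hP : ∀ u, Cfsg.PreservesSingularClassesMinus k a b ((D.phi u).1 : Matrix J J F) ↔
      Cfsg.PreservesSingularClassesMinus k a₀ b₀ (u.1 : Matrix J J F₀) := fun u => by
    obtain ⟨c, hc⟩ := u.2
    rw [presMinus_iff hab hk f hρ (D.phi u).2, presMinus_iff hab₀ hk (f.comp j) hρ₀ u.2, Model.phi_val, emb_apply,
      show reGL (Equiv.refl J) (Matrix.GeneralLinearGroup.map j u.1) = Matrix.GeneralLinearGroup.map j u.1 from
        Units.ext (by ext a b; rfl)]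
    have hju := rel_map j (quadFormMinus_nd (j a₀) (j b₀) haniF) (quadFormMinus_nd (j a₀) (j b₀) haniF)
      (minus_eval j a₀ b₀) (minus_eval j a₀ b₀) hc
    have hjuL := rel_map f hSL hSL (minus_eval f (j a₀) (j b₀)) (minus_eval f (j a₀) (j b₀)) hju
    have e1 : ((K * Matrix.GeneralLinearGroup.map j u.1 * K⁻¹ : GL J F) : Matrix J J F).map f =
        ((Matrix.GeneralLinearGroup.map f K * Matrix.GeneralLinearGroup.map f (Matrix.GeneralLinearGroup.map j u.1) *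
          (Matrix.GeneralLinearGroup.map f K)⁻¹ : GL J L) : Matrix J J L) := by
      rw [← map_inv, ← map_mul, ← map_mul]
      rfl
    rw [e1, pres_transport hQL hSL hn minus_card hU hKL (g := Matrix.GeneralLinearGroup.map f (Matrix.GeneralLinearGroup.map j u.1)) hjuL]
    exact Iff.rfl
  refine ⟨hro, ⟨a₀, b₀, hab₀, D.cent_equiv hn hσr hr.pos hs
    (fun β hβ => by obtain ⟨g, -, rfl⟩ := (inndiag_minus hab hk).1 hβ; exact ⟨g, rfl⟩)
    (fun β hβ => by obtain ⟨u, -, rfl⟩ := (inndiag_minus hab₀ hk).1 hβ; exact ⟨u, rfl⟩)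
    (fun u => by rw [simHom_mem_minus hab hk, simHom_mem_minus hab₀ hk]; exact hP u)⟩, ?_⟩
  refine split_one (inn_le_minus hab hk) _ (D.cover hn (minus_mul hab hk) (minus_scalar hab hk)
    (fun h hh => minus_iso_iff hab hk hh) (fun β => inndiag_minus hab hk) hs (fun c => ?_) fun h2 => ?_)
  · obtain ⟨u, v, s, -, -, hsP, hsv⟩ := minus_bin_pres hab₀ hk (f.comp j) hρ₀ c
    exact ⟨s, (hP s).2 hsP, fun v => D.emb_sim hsv v⟩
  · obtain ⟨c, hc⟩ := exists_nonsquare_unit (F := F₀) (fun e => h2 (by rw [← map_ofNat j 2, e, map_zero]))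
    exact ⟨c, fun hsq => hc (square_descends hσr hro j hfix hsurj hsq)⟩

end CfsgLib.Orth.FieldCls
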