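import Cfsg.Agent.Lib.Orth.Field.BalanceModel
import Cfsg.Agent.Lib.Orth.Field.CentMinus
import Cfsg.Agent.Lib.Orth.Field.Pair
import Cfsg.Agent.Lib.Orth.PGOQuot

/-!
# Field automorphisms of the minus type group: class and index
-/

set_option autoImplicit false
set_option linter.all false

namespace CfsgLib.Orth.FieldCls

open scoped Matrix
open Matrix Cfsg.Geo CfsgLib.Orth CfsgLib.Perm.Asch CfsgLib.Perm.Trans CfsgLib.Perm.Trans.Quad

variable {F : Type*} [Field F] [Fintype F] {ι : Type} [Fintype ι] [DecidableEq ι] {Q : (ι → F) → F}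

/-- an odd prime dividing `|PGO|` divides `|POmega|` -/
theorem odd_prime_dvd_pgo (hQ : IsNondegenerateQuadraticForm Q) (hn : 5 ≤ Fintype.card ι) {k : ℕ}
    (hk : Fintype.card ι = k + k) {p : ℕ} [Fact p.Prime] (hp2 : p ≠ 2) (hd : p ∣ Nat.card ↥(Cfsg.pgoAut F Q)) :
    p ∣ Nat.card (Cfsg.POmega F Q) := by
  have hp := (Fact.out : p.Prime)
  haveI : Finite (Cfsg.POmega F Q) := Quotient.finite _
  by_cases h : (2 : F) = 0
  · rw [card_pgo_two hQ hn h] at hd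
    exact (hp.dvd_mul.1 hd).resolve_left fun h' => hp2 ((Nat.prime_dvd_prime_iff_eq hp Nat.prime_two).1 h')
  haveI : Finite (MulAut (Cfsg.POmega F Q)) :=
    Finite.of_injective (fun e => (e : Cfsg.POmega F Q → _)) DFunLike.coe_injective
  obtain ⟨⟨β, hβ⟩, hord⟩ := exists_prime_orderOf_dvd_card' p hd
  rw [Subgroup.orderOf_mk] at hord
  rw [← card_inn hQ hn]
  suffices hmem : β ∈ Cfsg.Inn (Cfsg.POmega F Q) by
    rw [← hord, ← Subgroup.orderOf_mk β hmem]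
    exact orderOf_dvd_natCard _
  suffices h4 : β ^ 4 ∈ Cfsg.Inn (Cfsg.POmega F Q) by
    have hco : Nat.Coprime (orderOf β) 4 := by
      rw [hord]
      exact (hp.coprime_iff_not_dvd.2 fun h' => hp2 (by
        have : p ∣ 2 ^ 2 := by norm_num; exact h'
        exact (Nat.prime_dvd_prime_iff_eq hp Nat.prime_two).1 (hp.dvd_of_dvd_pow this)))
    obtain ⟨t, ht⟩ := exists_pow_eq_self_of_coprime hco.symm
    rw [← ht]
    exact pow_mem h4 t
  rw [pgoAut_eq] at hβ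
  obtain ⟨w, rfl⟩ := hβ
  obtain ⟨v, hv⟩ : ∃ v, v = w ^ 2 * scalarSim hQ (simMult hQ (by omega) w)⁻¹ := ⟨_, rfl⟩
  have hv1 : simHom Q v = simHom Q w ^ 2 := by rw [hv, map_mul, map_pow, scalar_mem_simHom_ker hQ hn, mul_one]
  have hvi : v.1 ∈ Cfsg.isometryGroup F Q := by
    refine (simMult_eq_one_iff hQ (by omega) v).1 ?_
    rw [hv, map_mul, map_pow, simMult_scalar, sq]
    group
  obtain ⟨W, hW⟩ : ∃ W : ↥(Cfsg.isometryGroup F Q), W = ⟨v.1, hvi⟩ := ⟨_, rfl⟩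
  have hvv : v.1 * v.1 ∈ Cfsg.isometryGroup F Q := mul_mem hvi hvi
  rw [show simHom Q w ^ 4 = simHom Q ⟨v.1 * v.1, iso_sim hvv⟩ by
    rw [show (⟨v.1 * v.1, iso_sim hvv⟩ : ↥(Cfsg.Geo.quadSimilarityGroup (F := F) Q)) = v * v from Subtype.ext rfl,
      map_mul, hv1, ← pow_add]]
  refine (mem_inn_iff hQ hn h hk hvv).2 ⟨?_, Or.inl ?_⟩
  · have hd2 := det_sq_sim hQ (g := (v.1 : Matrix ι ι F)) (c := 1) (fun x => by rw [one_mul, mem_iso.1 hvi])
    rw [one_pow] at hd2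
    rw [Units.val_mul, det_mul, hd2]
  · rw [(spn_mul hQ (iso_le_reflGroup hQ (hex_of_two h) hvi) hvi).1, sq_sqclass_eq_one]

/-- a semisimilarity that descends is a field automorphism of the minus type -/
theorem fieldClass_minus {m : ℕ} {a b a' b' : F} (hm : 3 ≤ m)
    (hab : ∀ z₁ z₂ : F, z₁ ^ 2 + a * z₁ * z₂ + b * z₂ ^ 2 = 0 → z₁ = 0 ∧ z₂ = 0)
    (hab' : ∀ z₁ z₂ : F, z₁ ^ 2 + a' * z₁ * z₂ + b' * z₂ ^ 2 = 0 → z₁ = 0 ∧ z₂ = 0) {σ : F ≃+* F}
    (hσ : σ ≠ RingEquiv.refl F) (ha : σ a' = a') (hb : σ b' = b') {G : GL ((Fin m ⊕ Fin m) ⊕ Fin 2) F}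
    (hs : Cfsg.IsSemisimilarityPair (Cfsg.quadFormMinus m F a b) G σ)
    (hD : Desc (Cfsg.quadFormMinus m F a b) (Cfsg.quadFormMinus m F a' b') σ G) :
    Cfsg.IsFieldAutClassPOmegaMinus m (ind hs) := by
  obtain ⟨K, α, l, hα, hl, hGK, hK⟩ := hD
  obtain ⟨Q0, hQ0⟩ : ∃ Q0, Q0 = Cfsg.quadFormMinus m F a b := ⟨_, rfl⟩
  obtain ⟨S, hS⟩ : ∃ S, S = Cfsg.quadFormMinus m F a' b' := ⟨_, rfl⟩
  obtain ⟨Φ, hΦ⟩ := exists_transport_sim (Q := Cfsg.quadFormMinus m F a b) (Q' := Cfsg.quadFormMinus m F a' b') K hl hK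
  refine ⟨a', b', Φ.symm, σ, hab', hσ, ha, hb, fun s s' e => ?_⟩
  obtain ⟨t, ht, hts⟩ := hΦ s
  obtain ⟨t', ht', hts'⟩ := hΦ s'
  show Φ.symm (ind hs (Φ.symm.symm (QuotientGroup.mk s))) = QuotientGroup.mk s'
  rw [MulEquiv.symm_symm, hts, MulEquiv.symm_apply_eq, hts']
  have e' : s'.1.1 = fieldGL σ s.1.1 := Units.ext e
  refine ind_isInduced hs t t' (congrArg Units.val (?_ : t'.1.1 = G * fieldGL σ t.1.1 * G⁻¹))
  rw [ht', ht, e']
  have hc : ∀ X : GL ((Fin m ⊕ Fin m) ⊕ Fin 2) F, G * X * G⁻¹ =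
      (K * (fieldGL σ K)⁻¹) * X * (K * (fieldGL σ K)⁻¹)⁻¹ := fun X => by
    rw [mul_inv_eq_iff_eq_mul]
    refine Units.ext ?_
    rw [Units.val_mul, Units.val_mul _ G, hGK, smul_mul_assoc, mul_smul_comm, ← Units.val_mul, ← Units.val_mul,
      inv_mul_cancel_right]
  rw [hc, map_mul, map_mul, map_inv]
  group
where
  exists_transport_sim {F : Type _} [Field F] [Fintype F] {ι : Type} [Fintype ι] [DecidableEq ι]
      {Q Q' : (ι → F) → F} (g : GL ι F) {c : F} (hc : c ≠ 0)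
      (h : ∀ v, Q ((g : Matrix ι ι F) *ᵥ v) = c * Q' v) :
      ∃ Φ : Cfsg.POmega F Q' ≃* Cfsg.POmega F Q, ∀ s : Cfsg.Omega F Q', ∃ t : Cfsg.Omega F Q,
        t.1.1 = g * s.1.1 * g⁻¹ ∧ Φ (QuotientGroup.mk s) = QuotientGroup.mk t := by
    have hi : ∀ v, c * Q' (((g⁻¹ : GL ι F) : Matrix ι ι F) *ᵥ v) = Q v := fun v => by rw [← h, gl_mulVec_inv]
    let E : ↥(Cfsg.isometryGroup F Q') ≃* ↥(Cfsg.isometryGroup F Q) :=
      { toFun := fun s => ⟨g * s.1 * g⁻¹, mem_iso.2 fun v => by rw [gl_mul_mulVec, gl_mul_mulVec, h, mem_iso.1 s.2, hi]⟩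
        invFun := fun s => ⟨g⁻¹ * s.1 * g, mem_iso.2 fun v => mul_left_cancel₀ hc (by
          rw [gl_mul_mulVec, gl_mul_mulVec, hi, mem_iso.1 s.2, h])⟩
        left_inv := fun s => Subtype.ext (by show g⁻¹ * (g * s.1 * g⁻¹) * g = s.1; group)
        right_inv := fun s => Subtype.ext (by show g * (g⁻¹ * s.1 * g) * g⁻¹ = s.1; group)
        map_mul' := fun a b => Subtype.ext (by show g * (a.1 * b.1) * g⁻¹ = g * a.1 * g⁻¹ * (g * b.1 * g⁻¹); group) }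
    have hmap : (Cfsg.Omega F Q').map E.toMonoidHom = Cfsg.Omega F Q := by
      show (commutator _).map _ = commutator _
      rw [commutator_def, Subgroup.map_commutator, Subgroup.map_top_of_surjective _ E.surjective]
      rfl
    obtain ⟨eO, heO⟩ : ∃ eO : ↥(Cfsg.Omega F Q') ≃* ↥(Cfsg.Omega F Q), ∀ s, (eO s).1 = E s.1 :=
      ⟨(E.subgroupMap (Cfsg.Omega F Q')).trans (MulEquiv.subgroupCongr hmap), fun s => rfl⟩
    refine ⟨QuotientGroup.congr _ _ eO ?_, fun s => ⟨eO s, congrArg Subtype.val (heO s), rfl⟩⟩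
    ext y
    constructor
    · rintro ⟨z, hz, rfl⟩
      refine Subgroup.mem_center_iff.2 fun w => ?_
      obtain ⟨w, rfl⟩ := eO.surjective w
      show eO w * eO z = eO z * eO w
      rw [← map_mul, ← map_mul, Subgroup.mem_center_iff.1 hz]
    · intro hy
      obtain ⟨z, rfl⟩ := eO.surjective y
      exact ⟨z, Subgroup.mem_center_iff.2 fun w => eO.injective (by
        rw [map_mul, map_mul, Subgroup.mem_center_iff.1 hy]), rfl⟩

end CfsgLib.Orth.FieldCls
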