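import Cfsg.Agent.Lib.Orth.Field.CentTools
import Cfsg.Agent.Lib.Orth.Aut.Card
import Cfsg.Agent.Lib.Orth.DetInvol
import Cfsg.Agent.Lib.Coprime.BalanceCore
import Cfsg.Agent.Lib.Perm.Trans.QuadDecompBase
import Cfsg.Agent.Lib.Perm.Trans.QuadSimple

/-!
# The rational subgroup of the fixed points of a field automorphism
-/

set_option autoImplicit false
set_option linter.all false

namespace CfsgLib.Orth.FieldCls

open scoped Matrix
open Matrix Cfsg.Geo CfsgLib.Orth CfsgLib.Perm.Asch CfsgLib.Perm.Trans CfsgLib.Perm.Trans.Quad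

/-- an automorphism fixing the fixed field of `σ` is a power of `σ` -/
theorem mem_zpowers_of_fixed {F : Type*} [Field F] [Fintype F] (σ τ : RingAut F) (h : ∀ x, σ x = x → τ x = x) :
    τ ∈ Subgroup.zpowers σ := by
  classical
  haveI : Finite (RingAut F) := Finite.of_injective (fun τ : RingAut F => (τ : F → F)) DFunLike.coe_injective
  haveI : Fintype (Subgroup.zpowers σ) := Fintype.ofFinite _
  haveI : FaithfulSMul (Subgroup.zpowers σ) F := ⟨fun h => Subtype.ext (RingEquiv.ext h)⟩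
  obtain ⟨ψ, hψ⟩ : ∃ ψ : F →ₐ[FixedPoints.subfield (Subgroup.zpowers σ) F] F, ∀ x, ψ x = τ x :=
    ⟨{ (τ : F ≃+* F).toRingHom with commutes' := fun c => h c.1 (c.2 ⟨σ, Subgroup.mem_zpowers σ⟩) }, fun x => rfl⟩
  obtain ⟨⟨ρ, hρ⟩, hg⟩ := (FixedPoints.toAlgHom_bijective (Subgroup.zpowers σ) F).2 ψ
  have : τ = ρ := RingEquiv.ext fun x => by rw [← hψ x, ← hg]; rfl
  exact this ▸ hρ

variable {F : Type*} [Field F] [Fintype F] {ι : Type} [Fintype ι] [DecidableEq ι]
variable {κ : Type} [Fintype κ] [DecidableEq κ] {F₀ : Type*} [Field F₀] [Fintype F₀]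
variable {Q : (ι → F) → F} {σ : F ≃+* F} {G K : GL ι F} {e : κ ≃ ι} {j : F₀ →+* F}
  {S₀ : (κ → F₀) → F₀} {S : (κ → F) → F} {a k : F}

theorem simHom_omega (s : Cfsg.Omega F Q) :
    simHom Q ⟨s.1.1, iso_sim s.1.2⟩ = MulAut.conj (QuotientGroup.mk s : Cfsg.POmega F Q) := by
  refine MulEquiv.ext fun x => ?_
  obtain ⟨t, rfl⟩ := QuotientGroup.mk'_surjective _ x
  refine congrArg QuotientGroup.mk (Subtype.ext (Subtype.ext ?_))
  show semiConj s.1.1 (RingEquiv.refl F) t.1.1 = s.1.1 * t.1.1 * s.1.1⁻¹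
  unfold semiConj
  rw [fieldGL_refl]

/-- the conjugation map is injective -/
theorem conj_pomega_injective (hQ : IsNondegenerateQuadraticForm Q) (hn : 5 ≤ Fintype.card ι) :
    Function.Injective (MulAut.conj : Cfsg.POmega F Q →* MulAut (Cfsg.POmega F Q)) := by
  rw [← MonoidHom.ker_eq_bot_iff, eq_bot_iff]
  intro x hx
  rw [Subgroup.mem_bot, ← Subgroup.mem_bot, ← pomega_center_bot hQ hn, Subgroup.mem_center_iff]
  intro y
  have := DFunLike.congr_fun (MonoidHom.mem_ker.1 hx) y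
  rw [MulAut.conj_apply, MulAut.one_apply, mul_inv_eq_iff_eq_mul] at this
  exact this.symm

/-- `Omega` contains involutions outside its centre -/
theorem two_dvd_pomega (hQ : IsNondegenerateQuadraticForm Q) (hn : 5 ≤ Fintype.card ι) (h2 : (2 : F) ≠ 0) :
    2 ∣ Nat.card (Cfsg.POmega F Q) := by
  haveI : Finite (Cfsg.POmega F Q) := Quotient.finite _
  obtain ⟨v, hv⟩ := exists_value hQ h2 (by omega) (1 : F)
  obtain ⟨w, -, hw, hwv⟩ := exists_value_perp hQ (ndOn_top hQ) (P := ⊤)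
    (by rw [finrank_top, Module.finrank_fintype_fun_eq_card]; omega) Submodule.mem_top
    (show Q v ≠ 0 by rw [hv]; exact one_ne_zero) (1 : F)
  have hv0 : Q v ≠ 0 := by rw [hv]; exact one_ne_zero
  have hw0 : Q w ≠ 0 := by rw [hw]; exact one_ne_zero
  obtain ⟨r, hr, hrv⟩ := exists_refl hQ hv0
  obtain ⟨s, hs, hsw⟩ := exists_refl hQ hw0
  have hvw : QuadraticMap.polar Q v w = 0 := by rw [QuadraticMap.polar_comm]; exact hwv
  have hex : Fintype.card F ≠ 2 ∨ Fintype.card ι ≠ 4 := Or.inr (by omega)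
  obtain ⟨M1, M2⟩ := spn_mul hQ (iso_le_reflGroup hQ hex hr) hs
  have hmem : (⟨r * s, mul_mem hr hs⟩ : ↥(Cfsg.isometryGroup F Q)) ∈ Cfsg.Omega F Q :=
    (mem_omega_iff hQ (by omega) hex ⟨r * s, mul_mem hr hs⟩).2
      ⟨by rw [M1, (refl_spn hQ hr hrv hv0).2, (refl_spn hQ hs hsw hw0).2, hv, hw, sqc_mul_self one_ne_zero],
        M2.2 (by rw [(refl_spn hQ hr hrv hv0).1, (refl_spn hQ hs hsw hw0).1])⟩
  have hrw : (r : Matrix ι ι F) *ᵥ w = w := by rw [hrv, hwv, mul_zero, zero_smul, sub_zero]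
  have hsv : (s : Matrix ι ι F) *ᵥ v = v := by rw [hsw, hvw, mul_zero, zero_smul, sub_zero]
  have hpoint : ∀ x, ((r * s : GL ι F) : Matrix ι ι F) *ᵥ x =
      x - ((Q v)⁻¹ * QuadraticMap.polar Q x v) • v - ((Q w)⁻¹ * QuadraticMap.polar Q x w) • w := by
    intro x
    rw [gl_mul_mulVec, hsw x, mulVec_sub, mulVec_smul, hrv x, hrw]
  have hpv : ((r * s : GL ι F) : Matrix ι ι F) *ᵥ v = -v := by
    rw [gl_mul_mulVec, hsv, hrv, pself hQ, hv]
    simp [two_smul]
  have hpw : ((r * s : GL ι F) : Matrix ι ι F) *ᵥ w = -w := by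
    rw [gl_mul_mulVec, hsw, pself hQ, hw, show w - ((1 : F)⁻¹ * (2 * 1)) • w = -w by simp [two_smul], mulVec_neg, hrw]
  have hinv : (r * s) * (r * s) = 1 := by
    refine gl_ext_vec fun x => ?_
    rw [gl_mul_mulVec, hpoint x, mulVec_sub, mulVec_sub, mulVec_smul, mulVec_smul, hpv, hpw, Units.val_one, one_mulVec,
      hpoint x]
    module
  have hne : (QuotientGroup.mk ⟨_, hmem⟩ : Cfsg.POmega F Q) ≠ 1 := by
    intro h1
    have h3 := simHom_omega (Q := Q) ⟨_, hmem⟩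
    rw [h1, map_one, simHom_ker hQ hn] at h3
    obtain ⟨c, hc⟩ := h3
    haveI : Nonempty ι := Fintype.card_pos_iff.1 (by omega)
    have hc1 : c = -1 := by
      have h4 : ((r * s : GL ι F) : Matrix ι ι F) *ᵥ v = c • v := by
        rw [show ((r * s : GL ι F) : Matrix ι ι F) = c • 1 from hc, smul_mulVec, one_mulVec]
      rw [hpv] at h4
      have h5 : (c + 1) • v = 0 := by rw [add_smul, one_smul, ← h4, neg_add_cancel]
      rcases smul_eq_zero.1 h5 with h6 | h6
      · linear_combination h6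
      · exact absurd (by rw [h6, qzero hQ] : Q v = 0) hv0
    obtain ⟨z, hz, hzv, hzw⟩ : ∃ z, z ≠ 0 ∧ QuadraticMap.polar Q z v = 0 ∧ QuadraticMap.polar Q z w = 0 := by
      let L : (ι → F) →ₗ[F] F × F :=
        { toFun := fun x => (QuadraticMap.polar Q x v, QuadraticMap.polar Q x w)
          map_add' := fun a b => by simp [padd_left hQ]
          map_smul' := fun c a => by simp [psmul_left hQ] }
      obtain ⟨z, hz, hz0⟩ := Submodule.exists_mem_ne_zero_of_ne_bot (LinearMap.ker_ne_bot_of_finrank_lt (f := L)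
        (by rw [Module.finrank_prod, Module.finrank_self, Module.finrank_fintype_fun_eq_card]; omega))
      exact ⟨z, hz0, congrArg Prod.fst (LinearMap.mem_ker.1 hz), congrArg Prod.snd (LinearMap.mem_ker.1 hz)⟩
    have h6 := hpoint z
    rw [show ((r * s : GL ι F) : Matrix ι ι F) = c • 1 from hc, hzv, hzw, hc1, smul_mulVec, one_mulVec] at h6
    simp only [mul_zero, zero_smul, sub_zero] at h6
    have h7 : (2 : F) • z = 0 := by rw [two_smul]; nth_rw 1 [← h6]; simp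
    exact hz ((smul_eq_zero.1 h7).resolve_left h2)
  have hord : orderOf (QuotientGroup.mk ⟨_, hmem⟩ : Cfsg.POmega F Q) = 2 := by
    refine orderOf_eq_prime ?_ hne
    rw [← QuotientGroup.mk_pow]
    refine (QuotientGroup.eq_one_iff _).2 ?_
    convert one_mem (Subgroup.center (Cfsg.Omega F Q)) using 1
    refine Subtype.ext (Subtype.ext ?_)
    simp only [sq]
    exact hinv
  exact hord ▸ orderOf_dvd_natCard _

namespace Model

variable (D : Model Q σ G e j S₀ S K a k)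
include D

/-- the embedding of the rational isometries -/
def isoEmb : ↥(Cfsg.isometryGroup F₀ S₀) →* ↥(Cfsg.isometryGroup F Q) :=
  ((emb K e j).comp (Cfsg.isometryGroup F₀ S₀).subtype).codRestrict _ fun u => D.emb_iso u.2

theorem isoEmb_mem (s : Cfsg.Omega F₀ S₀) : D.isoEmb s.1 ∈ Cfsg.Omega F Q := by
  have h : (commutator ↥(Cfsg.isometryGroup F₀ S₀)).map D.isoEmb ≤ commutator ↥(Cfsg.isometryGroup F Q) := by
    rw [commutator_def, commutator_def, Subgroup.map_commutator]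
    exact Subgroup.commutator_mono le_top le_top
  exact h (Subgroup.mem_map_of_mem _ s.2)

/-- the rational part of the group -/
def nu : Cfsg.Omega F₀ S₀ →* Cfsg.POmega F Q :=
  (QuotientGroup.mk' _).comp
    ((D.isoEmb.comp (Cfsg.Omega F₀ S₀).subtype).codRestrict _ fun s => D.isoEmb_mem s)

theorem nu_apply (s : Cfsg.Omega F₀ S₀) : D.nu s = QuotientGroup.mk ⟨D.isoEmb s.1, D.isoEmb_mem s⟩ := rfl

theorem conj_nu (s : Cfsg.Omega F₀ S₀) :
    MulAut.conj (D.nu s) = simHom Q (D.phi ⟨s.1.1, iso_sim s.1.2⟩) := by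
  rw [nu_apply, ← simHom_omega]
  rfl

theorem nu_eq_one (hn : 5 ≤ Fintype.card ι) (s : Cfsg.Omega F₀ S₀) :
    D.nu s = 1 ↔ (QuotientGroup.mk s : Cfsg.POmega F₀ S₀) = 1 := by
  have hnk : 5 ≤ Fintype.card κ := by rw [Fintype.card_congr e]; exact hn
  rw [← (conj_pomega_injective D.hQ hn).eq_iff, map_one, D.conj_nu, D.ker_iff hn, simHom_omega,
    ← map_one (MulAut.conj : Cfsg.POmega F₀ S₀ →* _), (conj_pomega_injective D.hS₀ hnk).eq_iff]

theorem nu_range_equiv (hn : 5 ≤ Fintype.card ι) : Nonempty (Cfsg.POmega F₀ S₀ ≃* ↥D.nu.range) := by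
  refine ⟨(QuotientGroup.quotientMulEquivOfEq ?_).trans (QuotientGroup.quotientKerEquivRange D.nu)⟩
  ext s
  rw [MonoidHom.mem_ker, D.nu_eq_one hn, QuotientGroup.eq_one_iff]

/-- a semisimilarity commuting with the automorphism restricts to the rational form -/
theorem exists_semi_preimage (hn : 5 ≤ Fintype.card ι) {r : ℕ} (hr : orderOf (σ : RingAut F) = r) (hr0 : 0 < r)
    (hs : Cfsg.IsSemisimilarityPair Q G σ) {g : GL ι F} {τ : F ≃+* F} (hg : Cfsg.IsSemisimilarityPair Q g τ)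
    (hc : ind hg * ind hs = ind hs * ind hg) :
    ∃ (W : GL κ F₀) (ρ : F₀ ≃+* F₀) (b : F), b ≠ 0 ∧ Cfsg.IsSemisimilarityPair S₀ W ρ ∧
      (∀ x, τ (j x) = j (ρ x)) ∧
      ((K⁻¹ * g * fieldGL τ K : GL ι F) : Matrix ι ι F) =
        b • ((reGL e (Matrix.GeneralLinearGroup.map j W) : GL ι F) : Matrix ι ι F) := by
  rw [ind_mul, ind_mul] at hc
  obtain ⟨-, c, hcc⟩ := ind_inj D.hQ hn hc
  obtain ⟨U, hU⟩ : ∃ U, U = K⁻¹ * g * fieldGL τ K := ⟨_, rfl⟩
  have hτσ : fieldGL τ (fieldGL σ K) = fieldGL σ (fieldGL τ K) := by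
    rw [← fieldGL_trans, ← fieldGL_trans]
    exact Units.ext (by ext p q; exact (ringAut_comm σ τ _).symm)
  have hσa : τ a ≠ 0 := (map_ne_zero τ.toRingHom).2 D.a0
  have hUc : ∃ c' : F, c' ≠ 0 ∧ (U : Matrix ι ι F) = c' • ((fieldGL σ U : GL ι F) : Matrix ι ι F) := by
    have e1 : ((g * fieldGL τ G : GL ι F) : Matrix ι ι F) =
        τ a • ((g * fieldGL τ (K * (fieldGL σ K)⁻¹) : GL ι F) : Matrix ι ι F) := by
      rw [Units.val_mul, Units.val_mul, fieldGL_coe τ G, D.mat, Matrix.map_smul' _ _ _ (map_mul τ), mul_smul_comm]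
      rfl
    have e2 : ((G * fieldGL σ g : GL ι F) : Matrix ι ι F) =
        a • ((K * (fieldGL σ K)⁻¹ * fieldGL σ g : GL ι F) : Matrix ι ι F) := by
      rw [Units.val_mul, D.mat, smul_mul_assoc, ← Units.val_mul]
    rw [e1, e2, smul_smul] at hcc
    have e3 : ((K⁻¹ * (g * fieldGL τ (K * (fieldGL σ K)⁻¹)) * fieldGL σ (fieldGL τ K) : GL ι F) : Matrix ι ι F) =
        ((c * a) / τ a) • ((K⁻¹ * (K * (fieldGL σ K)⁻¹ * fieldGL σ g) * fieldGL σ (fieldGL τ K) : GL ι F) : Matrix ι ι F) := by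
      have e4 : ((g * fieldGL τ (K * (fieldGL σ K)⁻¹) : GL ι F) : Matrix ι ι F) =
          ((c * a) / τ a) • ((K * (fieldGL σ K)⁻¹ * fieldGL σ g : GL ι F) : Matrix ι ι F) := by
        rw [div_eq_inv_mul, ← smul_smul, ← hcc, smul_smul, inv_mul_cancel₀ hσa, one_smul]
      simp only [Units.val_mul] at e4 ⊢
      rw [e4, mul_smul_comm, smul_mul_assoc]
    have h1 : K⁻¹ * (g * fieldGL τ (K * (fieldGL σ K)⁻¹)) * fieldGL σ (fieldGL τ K) = U := by
      rw [hU, map_mul, map_inv, hτσ]; group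
    have h2 : K⁻¹ * (K * (fieldGL σ K)⁻¹ * fieldGL σ g) * fieldGL σ (fieldGL τ K) = fieldGL σ U := by
      rw [hU, map_mul, map_mul, map_inv]; group
    rw [h1, h2] at e3
    refine ⟨_, fun h0 => ?_, e3⟩
    haveI : Nonempty ι := Fintype.card_pos_iff.1 (by omega)
    rw [h0, zero_smul] at e3
    exact U.ne_zero e3
  obtain ⟨c', hc0, hUc⟩ := hUc
  haveI : Nonempty ι := Fintype.card_pos_iff.1 (by omega)
  have hN : ∏ i ∈ Finset.range r, (σ ^ i : RingAut F) c' = 1 := by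
    have hit : ∀ t : ℕ, (U : Matrix ι ι F) =
        (∏ i ∈ Finset.range t, (σ ^ i : RingAut F) c') • (U : Matrix ι ι F).map ((σ : RingAut F) ^ t) := by
      intro t
      induction t with
      | zero => simp
      | succ t ih =>
        rw [Finset.prod_range_succ]
        conv_lhs => rw [ih, hUc]
        rw [Matrix.map_smul' _ _ _ (map_mul ((σ : RingAut F) ^ t)), smul_smul]
        congr 1
    have h1 := hit r
    rw [← hr, pow_orderOf_eq_one, hr] at h1
    obtain ⟨p, q, hpq⟩ : ∃ p q, (U : Matrix ι ι F) p q ≠ 0 := by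
      by_contra hcon
      push Not at hcon
      exact U.ne_zero (Matrix.ext fun p q => hcon p q)
    have h2 := congrFun (congrFun h1 p) q
    simp only [Matrix.smul_apply, Matrix.map_apply, smul_eq_mul, RingAut.one_apply] at h2
    exact mul_right_cancel₀ hpq (h2.symm.trans (one_mul _).symm)
  obtain ⟨b, hb, hcb⟩ := Descent.exists_h90_units hr hr0 hN
  have hfixU : ∀ p q, σ (b⁻¹ * (U : Matrix ι ι F) p q) = b⁻¹ * (U : Matrix ι ι F) p q := fun p q => by
    have h := congrFun (congrFun hUc p) q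
    rw [Matrix.smul_apply, fieldGL_coe, Matrix.map_apply, smul_eq_mul] at h
    have hsb : σ b ≠ 0 := (map_ne_zero σ.toRingHom).2 hb
    rw [map_mul, map_inv₀]
    field_simp
    linear_combination -(σ b) * h - σ ((U : Matrix ι ι F) p q) * hcb
  choose M hM using fun p q => D.surj _ (hfixU p q)
  obtain ⟨M₀, hM₀⟩ : ∃ M₀ : Matrix κ κ F₀, M₀ = Matrix.of fun p q => M (e p) (e q) := ⟨_, rfl⟩
  have hMU : (M₀.map j).submatrix e.symm e.symm = b⁻¹ • (U : Matrix ι ι F) := by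
    ext p q; simp [hM₀, hM]
  have hdet : M₀.det ≠ 0 := fun h0 => by
    have h1 := congrArg Matrix.det hMU
    rw [Matrix.det_submatrix_equiv_self, ← RingHom.mapMatrix_apply, ← RingHom.map_det, h0, map_zero, Matrix.det_smul] at h1
    exact mul_ne_zero (pow_ne_zero _ (inv_ne_zero hb)) ((Matrix.isUnit_iff_isUnit_det _).1 U.isUnit).ne_zero h1.symm
  obtain ⟨W, hW⟩ : ∃ W : GL κ F₀, (W : Matrix κ κ F₀) = M₀ := ⟨Matrix.GeneralLinearGroup.mkOfDetNeZero M₀ hdet, rfl⟩
  have hWU : ((reGL e (Matrix.GeneralLinearGroup.map j W) : GL ι F) : Matrix ι ι F) = b⁻¹ • (U : Matrix ι ι F) := by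
    rw [reGL_coe, show ((Matrix.GeneralLinearGroup.map j W : GL κ F) : Matrix κ κ F) = M₀.map j from by rw [← hW]; rfl, hMU]
  have hρ : ∀ x : F₀, ∃ y, j y = τ (j x) := fun x => D.surj _ (by rw [ringAut_comm σ τ, D.fix])
  choose ρf hρf using hρ
  obtain ⟨ρ, hρe⟩ : ∃ ρ : F₀ ≃+* F₀, ∀ x, ρ x = ρf x := ⟨RingEquiv.ofBijective
    ({ toFun := ρf
       map_one' := j.injective (by rw [hρf, map_one, map_one])
       map_mul' := fun x y => j.injective (by rw [hρf, map_mul, map_mul, map_mul, hρf, hρf])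
       map_zero' := j.injective (by rw [hρf, map_zero, map_zero])
       map_add' := fun x y => j.injective (by rw [hρf, map_add, map_add, map_add, hρf, hρf]) } : F₀ →+* F₀)
    (Finite.injective_iff_bijective.1 (RingHom.injective _)), fun _ => rfl⟩
  have hρj : ∀ x, τ (j x) = j (ρ x) := fun x => by rw [hρe, hρf]
  refine ⟨W, ρ, b, hb, ?_, hρj, by rw [← hU, hWU, smul_smul, mul_inv_cancel₀ hb, one_smul]⟩
  obtain ⟨d, hd⟩ := hg
  obtain ⟨e₀, he₀⟩ : ∃ e₀, e₀ = b⁻¹ ^ 2 * ((d : F) * τ k) / k := ⟨_, rfl⟩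
  have hWj : ∀ x : κ → F₀, j (S₀ ((W : Matrix κ κ F₀) *ᵥ fun i => ρ (x i))) = e₀ * j (ρ (S₀ x)) := fun x => by
    have hK : ∀ y : κ → F₀, Q ((K : Matrix ι ι F) *ᵥ fun i => j (y (e.symm i))) = k * j (S₀ y) := fun y => by
      rw [D.form, reix]
      simp only [Equiv.symm_apply_apply]
      rw [D.ext]
    have h0 := hK x
    have h1 := hd ((K : Matrix ι ι F) *ᵥ fun i => j (x (e.symm i)))
    rw [h0, map_mul, hρj] at h1
    have e4 : (fun i => τ (((K : Matrix ι ι F) *ᵥ fun i => j (x (e.symm i))) i)) =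
        ((fieldGL τ K : GL ι F) : Matrix ι ι F) *ᵥ fun i => j (ρ (x (e.symm i))) := by
      rw [← fieldGL_mulVec]; simp only [hρj]
    rw [e4, ← gl_mul_mulVec, show g * fieldGL τ K = K * U by rw [hU]; group, gl_mul_mulVec] at h1
    have e5 : (U : Matrix ι ι F) *ᵥ (fun i => j (ρ (x (e.symm i)))) =
        b • fun i => j (((W : Matrix κ κ F₀) *ᵥ fun i => ρ (x i)) (e.symm i)) := by
      have h2 : (U : Matrix ι ι F) = b • ((reGL e (Matrix.GeneralLinearGroup.map j W) : GL ι F) : Matrix ι ι F) := by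
        rw [hWU, smul_smul, mul_inv_cancel₀ hb, one_smul]
      rw [h2, smul_mulVec, reGL_mulVec]
      congr 1
      funext i
      simp only [Equiv.symm_apply_apply]
      rw [show ((Matrix.GeneralLinearGroup.map j W : GL κ F) : Matrix κ κ F) = (W : Matrix κ κ F₀).map j from rfl]
      rw [map_mulVec_hom]
    rw [e5, mulVec_smul, D.hQ.smul, hK] at h1
    rw [he₀]
    field_simp [D.k0]
    linear_combination h1
  haveI : Nonempty κ := e.nonempty
  obtain ⟨x₀, hx₀⟩ := exists_ne_value D.hS₀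
  have hρ0 : j (ρ (S₀ x₀)) ≠ 0 := (map_ne_zero j).2 ((map_ne_zero ρ.toRingHom).2 hx₀)
  obtain ⟨d₀, hd₀⟩ : ∃ d₀, j d₀ = e₀ :=
    ⟨S₀ ((W : Matrix κ κ F₀) *ᵥ fun i => ρ (x₀ i)) / ρ (S₀ x₀), by rw [map_div₀, hWj, mul_div_cancel_right₀ _ hρ0]⟩
  have hd0 : d₀ ≠ 0 := fun h0 => by
    rw [h0, map_zero, he₀] at hd₀
    exact div_ne_zero (mul_ne_zero (pow_ne_zero 2 (inv_ne_zero hb))
      (mul_ne_zero d.ne_zero ((map_ne_zero τ.toRingHom).2 D.k0))) D.k0 hd₀.symm
  exact ⟨Units.mk0 d₀ hd0, fun x => j.injective (by rw [hWj, Units.val_mk0, map_mul, hd₀])⟩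

/-- automorphisms commuting with `x` and fixing the rational group pointwise are powers of `x` -/
theorem cent_nu (hn : 5 ≤ Fintype.card ι) {r : ℕ} (hr : orderOf (σ : RingAut F) = r) (hr0 : 0 < r)
    (hs : Cfsg.IsSemisimilarityPair Q G σ) {g : GL ι F} {τ : F ≃+* F} (hg : Cfsg.IsSemisimilarityPair Q g τ)
    (hc : ind hg * ind hs = ind hs * ind hg) (hfix : ∀ s, ind hg (D.nu s) = D.nu s) :
    ind hg ∈ Subgroup.zpowers (ind hs) := by
  have hnk : 5 ≤ Fintype.card κ := by rw [Fintype.card_congr e]; exact hn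
  obtain ⟨W, ρ, b, hb, hW, hρj, hU⟩ := D.exists_semi_preimage hn hr hr0 hs hg hc
  have hrel : ∀ s : GL κ F₀, semiConj g τ (emb K e j s) = emb K e j (semiConj W ρ s) := fun s => by
    obtain ⟨R, hR⟩ : ∃ R, R = reGL e (Matrix.GeneralLinearGroup.map j W) := ⟨_, rfl⟩
    have hρm : fieldGL τ (reGL e (Matrix.GeneralLinearGroup.map j s)) =
        reGL e (Matrix.GeneralLinearGroup.map j (fieldGL ρ s)) :=
      Units.ext (by ext p q; simp [fieldGL_coe, reGL_coe, hρj])
    have hcz : ∀ X : GL ι F, (K⁻¹ * g * fieldGL τ K) * X * (K⁻¹ * g * fieldGL τ K)⁻¹ = R * X * R⁻¹ := fun X => by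
      rw [mul_inv_eq_iff_eq_mul]
      refine Units.ext ?_
      rw [Units.val_mul, Units.val_mul _ (K⁻¹ * g * fieldGL τ K), hU, ← hR, smul_mul_assoc, mul_smul_comm, ← Units.val_mul,
        ← Units.val_mul, inv_mul_cancel_right]
    unfold semiConj
    rw [emb_apply, emb_apply, map_mul, map_mul, map_inv, hρm, map_mul, map_mul, map_inv, map_mul, map_mul, map_inv, ← hR,
      ← hcz]
    group
  have h1 : ind hW = 1 := by
    refine MulEquiv.ext fun y => ?_
    obtain ⟨s, rfl⟩ := QuotientGroup.mk'_surjective _ y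
    rw [MulAut.one_apply]
    have h2 : D.nu (omegaAut hW s) = D.nu s := by
      rw [← hfix s, nu_apply, nu_apply, ind_mk]
      exact congrArg QuotientGroup.mk (Subtype.ext (Subtype.ext (hrel s.1.1).symm))
    have h3 : D.nu ((omegaAut hW s)⁻¹ * s) = 1 := by rw [map_mul, map_inv, h2, inv_mul_cancel]
    exact QuotientGroup.eq.2 ((QuotientGroup.eq_one_iff _).1 ((D.nu_eq_one hn _).1 h3))
  obtain ⟨hρ1, w, hw⟩ := ind_eq_one D.hS₀ hnk hW h1
  have hτ := mem_zpowers_of_fixed σ τ fun x hx => by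
    obtain ⟨y, rfl⟩ := D.surj x hx
    rw [hρj, hρ1]
    rfl
  haveI : Finite (RingAut F) := Finite.of_injective (fun τ : RingAut F => (τ : F → F)) DFunLike.coe_injective
  obtain ⟨i, hi⟩ := mem_powers_iff_mem_zpowers.2 hτ
  have hpow : ∀ i : ℕ, ∃ c : F, c ≠ 0 ∧ (iterG G σ i : Matrix ι ι F) =
      c • ((K * (fieldGL ((σ : RingAut F) ^ i) K)⁻¹ : GL ι F) : Matrix ι ι F) := by
    intro i
    induction i with
    | zero => exact ⟨1, one_ne_zero, by rw [one_smul, iterG, pow_zero]; show _ = _; congr 1; rw [show (1 : RingAut F) = RingEquiv.refl F from rfl, fieldGL_refl, mul_inv_cancel]⟩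
    | succ i ih =>
      obtain ⟨c, hc0, hci⟩ := ih
      refine ⟨a * σ c, mul_ne_zero D.a0 ((map_ne_zero σ.toRingHom).2 hc0), ?_⟩
      rw [iterG, Units.val_mul, D.mat, fieldGL_coe, hci, Matrix.map_smul' _ _ _ (map_mul σ), smul_mul_assoc, mul_smul_comm,
        smul_smul, ← fieldGL_coe, ← Units.val_mul, map_mul, map_inv, pow_succ',
        show fieldGL ((σ : RingAut F) * (σ : RingAut F) ^ i) K = fieldGL σ (fieldGL ((σ : RingAut F) ^ i) K) from
          fieldGL_trans σ ((σ : RingAut F) ^ i) K]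
      congr 2
      group
  obtain ⟨c, hc0, hci⟩ := hpow i
  have hR : ((reGL e (Matrix.GeneralLinearGroup.map j W) : GL ι F) : Matrix ι ι F) = j w • 1 := by
    rw [reGL_coe, show ((Matrix.GeneralLinearGroup.map j W : GL κ F) : Matrix κ κ F) = (W : Matrix κ κ F₀).map j from rfl, hw]
    ext p q
    simp [Matrix.one_apply, apply_ite j]
  have hg' : (g : Matrix ι ι F) = (b * j w / c) • (iterG G σ i : Matrix ι ι F) := by
    rw [hci, smul_smul, div_mul_cancel₀ _ hc0, ← show (τ : RingAut F) = (σ : RingAut F) ^ i from hi.symm]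
    calc (g : Matrix ι ι F) = ((K * (K⁻¹ * g * fieldGL τ K) * (fieldGL τ K)⁻¹ : GL ι F) : Matrix ι ι F) := by
          congr 1; group
      _ = _ := by
          rw [Units.val_mul, Units.val_mul, hU, hR, smul_smul, mul_smul_comm, mul_one, smul_mul_assoc, ← Units.val_mul]
  refine Subgroup.mem_zpowers_iff.2 ⟨i, ?_⟩
  rw [zpow_natCast, ind_pow]
  have hτe : τ = ((σ : RingAut F) ^ i : RingAut F) := hi.symm
  subst hτe
  exact (ind_scalar hg _ hg').symm

/-- failure of balance at a field automorphism of prime order -/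
theorem core_iff (hn : 5 ≤ Fintype.card ι) {p : ℕ} [Fact p.Prime] (hr : orderOf (σ : RingAut F) = p)
    (hs : Cfsg.IsSemisimilarityPair Q G σ) (hord : orderOf (ind hs) = p) (htop : Cfsg.gammaPOmega F Q = ⊤)
    (A : Subgroup (MulAut (Cfsg.POmega F Q))) (hinn : ∀ k, MulAut.conj k ∈ A)
    (hpgo : p ∣ Nat.card ↥(Cfsg.pgoAut F₀ S₀) → p ∣ Nat.card (Cfsg.POmega F₀ S₀)) :
    Cfsg.pPrimeCore p ↥(A ⊓ Subgroup.centralizer {ind hs}) ≠ ⊥ ↔
      Nat.Coprime p (Nat.card ↥(MonoidHom.eqLocus (ind hs).toMonoidHom (MonoidHom.id (Cfsg.POmega F Q)))) := by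
  have hp := (Fact.out : p.Prime)
  have hnk : 5 ≤ Fintype.card κ := by rw [Fintype.card_congr e]; exact hn
  haveI : Finite (Cfsg.POmega F Q) := Quotient.finite _
  obtain ⟨ψ⟩ := D.nu_range_equiv hn
  haveI := pomega_isSimple D.hS₀ hnk
  haveI : Nontrivial ↥D.nu.range := ψ.symm.toEquiv.nontrivial
  haveI : IsSimpleGroup ↥D.nu.range := IsSimpleGroup.isSimpleGroup_of_surjective ψ.toMonoidHom ψ.surjective
  have hinj := conj_pomega_injective D.hQ hn
  have hconj : ∀ (a : MulAut (Cfsg.POmega F Q)) (y : Cfsg.POmega F Q),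
      a * MulAut.conj y * a⁻¹ = MulAut.conj (a y) := fun a y =>
    MulEquiv.ext fun z => by simp [MulAut.mul_apply, MulAut.conj_apply]
  have hle : Cfsg.Inn (Cfsg.POmega F Q) ≤ (simHom Q).range := by rw [inn_eq]; exact Subgroup.map_le_range _ _
  have hfix : ∀ n ∈ D.nu.range, ind hs n = n := by
    rintro _ ⟨s, rfl⟩
    refine hinj ?_
    rw [← hconj, D.conj_nu, ← D.commutes hs, mul_inv_cancel_right]
  have hcomm : ∀ y, ind hs y = y → MulAut.conj y * ind hs = ind hs * MulAut.conj y := fun y hy => by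
    conv_lhs => rw [← hy, ← hconj]
    group
  refine BalanceCore.core_ne_bot_iff hinj A hinn (ind hs) hord (fun y hy => ?_) D.nu.range hfix
    (fun y hy n hn' => ?_) (fun b hb hbn => ?_) fun hd => ?_
  · obtain ⟨g, hg⟩ := hle ⟨y, rfl⟩
    have h1 : ind (sim_pair g.2) = ind hs := hg.trans hy
    have h2 : (σ : RingAut F) = 1 := ((ind_inj D.hQ hn h1).1).symm
    rw [h2, orderOf_one] at hr
    exact hp.one_lt.ne hr
  · obtain ⟨s, rfl⟩ := hn'
    obtain ⟨g, hg⟩ := hle ⟨y, rfl⟩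
    obtain ⟨u, hu⟩ := D.exists_preimage hn hr hp.pos hs g (by rw [hg]; exact hcomm y hy)
    refine ⟨omegaAut (sim_pair u.2) s, hinj ?_⟩
    rw [map_mul, map_mul, map_inv, D.conj_nu, D.conj_nu, ← hg, ← hu, ← map_inv, ← map_mul, ← map_mul, ← map_inv,
      ← map_mul, ← map_mul]
    congr 2
  · have hb' : b ∈ gammaSub Q := by rw [← gammaPOmega_eq, htop]; exact Subgroup.mem_top b
    obtain ⟨g, τ, hg, rfl⟩ := hb'
    exact D.cent_nu hn hr hp.pos hs hg hb fun s => hbn _ ⟨s, rfl⟩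
  · rw [← Nat.card_congr ψ.toEquiv]
    refine hpgo (hd.trans ?_)
    obtain ⟨H₀, hH₀⟩ : ∃ H₀, H₀ = ((Cfsg.Inn (Cfsg.POmega F Q)).comap ((simHom Q).comp D.phi)).map (simHom S₀) :=
      ⟨_, rfl⟩
    obtain ⟨eH⟩ := D.cent_equiv hn hr hp.pos hs hle (H₀ := H₀) (hH₀ ▸ Subgroup.map_le_range _ _) fun u => by
      rw [hH₀]
      refine ⟨fun h => ⟨u, h, rfl⟩, fun ⟨u', hu', e'⟩ => ?_⟩
      have h1 : simHom Q (D.phi u') = simHom Q (D.phi u) := by
        rw [← inv_mul_eq_one, ← map_inv, ← map_mul, ← map_inv, ← map_mul, D.ker_iff hn, map_mul, map_inv, inv_mul_eq_one]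
        exact e'
      exact h1 ▸ hu'
    refine (Subgroup.card_dvd_of_injective (((MulAut.conj : Cfsg.POmega F Q →* MulAut (Cfsg.POmega F Q)).comp
      (MonoidHom.eqLocus (ind hs).toMonoidHom (MonoidHom.id (Cfsg.POmega F Q))).subtype).codRestrict
      (Cfsg.Inn (Cfsg.POmega F Q) ⊓ Subgroup.centralizer {ind hs}) fun y => ⟨⟨y.1, rfl⟩, fun z hz => ?_⟩)
      fun a b h => Subtype.ext (hinj (congrArg Subtype.val h))).trans ?_
    · rw [Set.mem_singleton_iff.1 hz]
      exact (hcomm y.1 y.2).symm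
    · rw [Nat.card_congr eH.toEquiv, pgoAut_eq, hH₀]
      exact Subgroup.card_dvd_of_le (Subgroup.map_le_range _ _)

end Model

end CfsgLib.Orth.FieldCls
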