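import Cfsg.Agent.Lib.Orth.Field.BalanceModel
import Cfsg.Agent.Lib.Orth.Field.Pair

/-!
# Field classes from descent
-/

set_option autoImplicit false
set_option linter.all false

namespace CfsgLib.Orth.FieldCls

open scoped Matrix
open Matrix Cfsg.Geo CfsgLib.Orth CfsgLib.Perm.Asch CfsgLib.Perm.Trans CfsgLib.Perm.Trans.Quad

variable {F : Type*} [Field F] [Fintype F] {ι : Type} [Fintype ι] [DecidableEq ι] {Q : (ι → F) → F}

/-- a descent to the form itself is a conjugacy to the standard field automorphism -/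
theorem fieldClass_of_desc (hQ : IsNondegenerateQuadraticForm Q) (hn : 5 ≤ Fintype.card ι) {σ : F ≃+* F}
    (hσQ : ∀ v, Q (fun i => σ (v i)) = σ (Q v)) (hσ : σ ≠ RingEquiv.refl F) {G : GL ι F}
    (hs : Cfsg.IsSemisimilarityPair Q G σ) (hD : Desc Q Q σ G) :
    Cfsg.IsFieldAutClassPOmega Q (ind hs) := by
  obtain ⟨K, a, k, ha, hk, hGK, hK⟩ := hD
  have hKs : K ∈ Cfsg.Geo.quadSimilarityGroup (F := F) Q := ⟨Units.mk0 k hk, fun v => by rw [hK, Units.val_mk0]⟩
  refine ⟨(simHom Q ⟨K, hKs⟩)⁻¹, ind (semisim_field hσQ), σ, hσ, fun s s' h => ind_isInduced _ s s' (by simpa using h), ?_⟩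
  rw [inv_inv, mul_assoc, inv_mul_eq_iff_eq_mul]
  show ind hs * ind (sim_pair hKs) = ind (sim_pair hKs) * ind (semisim_field hσQ)
  rw [ind_mul, ind_mul]
  have hG2 : Cfsg.IsSemisimilarityPair Q (G * fieldGL σ K) σ := semisim_mul hs (sim_pair hKs)
  have hK2 : Cfsg.IsSemisimilarityPair Q K σ := semisim_of_sim hσQ hKs
  refine (ind_congr _ hG2 rfl (RingEquiv.ext fun _ => rfl)).trans ((ind_scalar hG2 hK2 (c := a) ?_).trans
    (ind_congr hK2 _ (by rw [map_one, mul_one]) (RingEquiv.ext fun _ => rfl)))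
  rw [Units.val_mul, hGK, smul_mul_assoc, ← Units.val_mul, inv_mul_cancel_right]

end CfsgLib.Orth.FieldCls
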