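import Cfsg.Agent.Lib.Orth.Field.CentTools
import Cfsg.Agent.Lib.Orth.Levi

/-!
# Cosets of the inner group met by the centraliser
-/

set_option autoImplicit false
set_option linter.all false

namespace CfsgLib.Orth.FieldCls

open scoped Matrix
open Matrix Cfsg.Geo CfsgLib.Orth CfsgLib.Perm.Asch CfsgLib.Perm.Trans CfsgLib.Perm.Trans.Quad

variable {F : Type*} [Field F] [Fintype F] {ι : Type} [Fintype ι] [DecidableEq ι]

/-- spinor norm and parity along a map of forms -/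
theorem spn_map {Q S : (ι → F) → F} (hQ : IsNondegenerateQuadraticForm Q) (hS : IsNondegenerateQuadraticForm S)
    (hn : 5 ≤ Fintype.card ι) {K : GL ι F} {k : F} (hk : k ≠ 0) (hK : ∀ v, Q ((K : Matrix ι ι F) *ᵥ v) = k * S v)
    {u : GL ι F} (hu : u ∈ Cfsg.isometryGroup F S) :
    K * u * K⁻¹ ∈ Cfsg.isometryGroup F Q ∧ (Even (wrk (K * u * K⁻¹)) ↔ Even (wrk u)) ∧
      (Even (wrk u) → spn Q (K * u * K⁻¹) = spn S u) := by
  have hex : Fintype.card F ≠ 2 ∨ Fintype.card ι ≠ 4 := Or.inr (by omega)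
  have hiso : ∀ {u : GL ι F}, u ∈ Cfsg.isometryGroup F S → K * u * K⁻¹ ∈ Cfsg.isometryGroup F Q := fun {u} hu =>
    mem_iso.2 fun x => by
      rw [gl_mul_mulVec, gl_mul_mulVec, hK, mem_iso.1 hu, ← hK, gl_mulVec_inv]
  have main : (Even (wrk (K * u * K⁻¹)) ↔ Even (wrk u)) ∧
      spn Q (K * u * K⁻¹) = (if Even (wrk u) then 1 else sqc k) * spn S u := by
    have step : ∀ {r z : GL ι F} {v : ι → F}, r ∈ Cfsg.isometryGroup F S → z ∈ Cfsg.isometryGroup F S → S v ≠ 0 →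
        IsRefl S v r →
        ((Even (wrk (K * z * K⁻¹)) ↔ Even (wrk z)) ∧
          spn Q (K * z * K⁻¹) = (if Even (wrk z) then 1 else sqc k) * spn S z) →
        (Even (wrk (K * (r * z) * K⁻¹)) ↔ Even (wrk (r * z))) ∧
          spn Q (K * (r * z) * K⁻¹) = (if Even (wrk (r * z)) then 1 else sqc k) * spn S (r * z) := by
      intro r z v hr hz hv hrv ih
      have hR := refl_transport hk hK hrv
      have hv' : Q ((K : Matrix ι ι F) *ᵥ v) ≠ 0 := by rw [hK]; exact mul_ne_zero hk hv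
      obtain ⟨A1, A2⟩ := refl_spn hQ (hiso hr) hR hv'
      obtain ⟨B1, B2⟩ := spn_mul hQ (iso_le_reflGroup hQ hex (hiso hr)) (hiso hz)
      obtain ⟨C1, C2⟩ := spn_mul hS (iso_le_reflGroup hS hex hr) hz
      obtain ⟨E1, E2⟩ := refl_spn hS hr hrv hv
      rw [show K * (r * z) * K⁻¹ = K * r * K⁻¹ * (K * z * K⁻¹) by group]
      refine ⟨by rw [B2, C2, ih.1, A1, E1], ?_⟩
      have hodd : Even (wrk (r * z)) ↔ ¬ Even (wrk z) := by rw [C2, E1]; simp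
      rw [B1, A2, ih.2, C1, E2, hK, sqc_mul hk hv]
      by_cases hz' : Even (wrk z)
      · rw [if_pos hz', if_neg (fun h => hodd.1 h hz'), one_mul, mul_assoc]
      · rw [if_neg hz', if_pos (hodd.2 hz'), one_mul, mul_mul_mul_comm, sqc_mul_self hk, one_mul]
    have hu' := iso_le_reflGroup hS hex hu
    clear hu
    induction hu' using Subgroup.closure_induction_left with
    | one => simp [(spn_one hQ).1, (spn_one hS).1, (spn_one hQ).2, (spn_one hS).2]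
    | mul_left r hr z hz ih =>
      obtain ⟨hri, v, hv, hrv⟩ := hr
      exact step hri (reflGroup_le hz) hv hrv ih
    | inv_mul_cancel r hr z hz ih =>
      obtain ⟨hri, v, hv, hrv⟩ := hr
      rw [inv_eq_of_mul_eq_one_left (refl_mul_self hS hrv hv)]
      exact step hri (reflGroup_le hz) hv hrv ih
  exact ⟨hiso hu, main.1, fun h => by rw [main.2, if_pos h, one_mul]⟩

/-- scalar times isometry -/
theorem exists_iso_part {Q : (ι → F) → F} (hQ : IsNondegenerateQuadraticForm Q) {g : GL ι F} {c t : F} (ht0 : t ≠ 0)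
    (hg : ∀ v, Q ((g : Matrix ι ι F) *ᵥ v) = c * Q v) (ht : c = t * t) :
    ∃ h ∈ Cfsg.isometryGroup F Q, (g : Matrix ι ι F) = t • (h : Matrix ι ι F) := by
  obtain ⟨h, e⟩ : ∃ h : GL ι F, (h : Matrix ι ι F) = t⁻¹ • (g : Matrix ι ι F) :=
    ⟨Units.map (Matrix.scalar ι).toMonoidHom (Units.mk0 t⁻¹ (inv_ne_zero ht0)) * g, by
      rw [Units.val_mul]
      show Matrix.scalar ι t⁻¹ * _ = _
      rw [Matrix.scalar_apply, ← Matrix.smul_eq_diagonal_mul]⟩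
  refine ⟨h, mem_iso.2 fun v => ?_, ?_⟩
  · rw [e, smul_mulVec, hQ.smul, hg, ht]
    field_simp
  · rw [e, smul_smul, mul_inv_cancel₀ ht0, one_smul]

variable {κ : Type} [Fintype κ] [DecidableEq κ] {F₀ : Type*} [Field F₀] [Fintype F₀]
variable {Q : (ι → F) → F} {σ : F ≃+* F} {G K : GL ι F} {e : κ ≃ ι} {j : F₀ →+* F}
  {S₀ : (κ → F₀) → F₀} {S : (κ → F) → F} {a k : F}

namespace Model

variable (D : Model Q σ G e j S₀ S K a k)
include D

/-- a rational rotation of given spinor norm -/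
theorem exists_emb_rot (hn : 5 ≤ Fintype.card ι) (h20 : (2 : F₀) ≠ 0) {c : F₀} (hc : c ≠ 0) :
    ∃ u ∈ Cfsg.isometryGroup F₀ S₀, Even (wrk u) ∧ spn Q (emb K e j u) = sqc (j c) := by
  have hnk : 5 ≤ Fintype.card κ := by rw [Fintype.card_congr e]; exact hn
  obtain ⟨v, hv⟩ := exists_value D.hS₀ h20 (by omega) (1 : F₀)
  obtain ⟨w, hw⟩ := exists_value D.hS₀ h20 (by omega) c
  have hv0 : S₀ v ≠ 0 := by rw [hv]; exact one_ne_zero
  have hw0 : S₀ w ≠ 0 := by rw [hw]; exact hc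
  obtain ⟨r, hr, hrv⟩ := exists_refl D.hS₀ hv0
  obtain ⟨s, hs, hsw⟩ := exists_refl D.hS₀ hw0
  refine ⟨r * s, mul_mem hr hs, (spn_mul D.hS₀ (iso_le_reflGroup D.hS₀ (Or.inr (by omega)) hr) hs).2.2
    (by rw [(refl_spn D.hS₀ hr hrv hv0).1, (refl_spn D.hS₀ hs hsw hw0).1]), ?_⟩
  obtain ⟨R, hR⟩ := D.emb_refl hv0 hrv
  obtain ⟨T, hT⟩ := D.emb_refl hw0 hsw
  rw [map_mul, (spn_mul D.hQ (iso_le_reflGroup D.hQ (Or.inr (by omega)) (D.emb_iso hr)) (D.emb_iso hs)).1,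
    (refl_spn D.hQ (D.emb_iso hr) R (by rw [hR, hv, map_one, mul_one]; exact D.k0)).2,
    (refl_spn D.hQ (D.emb_iso hs) T (by rw [hT, hw]; exact mul_ne_zero D.k0 ((map_ne_zero j).2 hc))).2,
    hR, hT, hv, hw, map_one, mul_one, sqc_mul D.k0 ((map_ne_zero j).2 hc), sqc_self_mul_cancel D.k0]

/-- every coset of the inner group meets the centraliser -/
theorem cover (hn : 5 ≤ Fintype.card ι) {P : ↥(Cfsg.Geo.quadSimilarityGroup (F := F) Q) → Prop} (hmul : ∀ g h, P (g * h) ↔ (P g ↔ P h))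
    (hsc : ∀ g : ↥(Cfsg.Geo.quadSimilarityGroup (F := F) Q), (∃ c : F, (g.1 : Matrix ι ι F) = c • 1) → P g)
    (hiso : ∀ (h : GL ι F) (hh : h ∈ Cfsg.isometryGroup F Q), P ⟨h, iso_sim hh⟩ ↔ Even (wrk h))
    {H : Subgroup (MulAut (Cfsg.POmega F Q))} (hH : ∀ β, β ∈ H ↔ ∃ g, P g ∧ simHom Q g = β)
    (hs : Cfsg.IsSemisimilarityPair Q G σ)
    (hex : ∀ c : F₀ˣ, ∃ u : ↥(Cfsg.Geo.quadSimilarityGroup (F := F₀) S₀), P (D.phi u) ∧
      ∀ v, Q (((D.phi u).1 : Matrix ι ι F) *ᵥ v) = j c * Q v)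
    (hns : (2 : F) ≠ 0 → ∃ c : F₀, ¬ IsSquare (j c)) :
    ∀ x ∈ H, ∃ c ∈ H, c * ind hs = ind hs * c ∧ c⁻¹ * x ∈ Cfsg.Inn (Cfsg.POmega F Q) := by
  intro x hx
  obtain ⟨g, hg, rfl⟩ := (hH _).1 hx
  obtain ⟨c, hc⟩ := g.2
  obtain ⟨c₀, s, hs0, hcs⟩ : ∃ (c₀ : F₀ˣ) (s : F), s ≠ 0 ∧ (c : F) = s * s * j c₀ := by
    by_cases hsq : IsSquare (c : F)
    · obtain ⟨t, ht⟩ := hsq
      exact ⟨1, t, fun e => c.ne_zero (by rw [ht, e, mul_zero]), by rw [Units.val_one, map_one, mul_one, ht]⟩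
    · have h2 : (2 : F) ≠ 0 := fun h => hsq (isSquare_of_two h _)
      obtain ⟨c₁, hc₁⟩ := hns h2
      have hc₁0 : j c₁ ≠ 0 := fun e => hc₁ (e ▸ IsSquare.zero)
      have hdiv : sqc ((c : F) * j c₁) = 1 := by
        rw [sqc_mul c.ne_zero hc₁0]
        rcases sqc_dichotomy hc₁ c.ne_zero with e | e
        · exact absurd ((sqc_eq_one_iff c.ne_zero).1 e) hsq
        · rw [e, sqc_mul_self hc₁0]
      obtain ⟨t, ht⟩ := (sqc_eq_one_iff (mul_ne_zero c.ne_zero hc₁0)).1 hdiv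
      refine ⟨Units.mk0 c₁ fun e => hc₁0 (by rw [e, map_zero]), t / j c₁, div_ne_zero (fun e => ?_) hc₁0, ?_⟩
      · rw [e, mul_zero] at ht; exact mul_ne_zero c.ne_zero hc₁0 ht
      · rw [Units.val_mk0]; field_simp; linear_combination ht
  obtain ⟨u, hu, huv⟩ := hex c₀
  obtain ⟨w, hw⟩ : ∃ w, w = (D.phi u)⁻¹ * g := ⟨_, rfl⟩
  have hwv : ∀ v, Q ((w.1 : Matrix ι ι F) *ᵥ v) = s * s * Q v := fun v => by
    have h1 := huv ((w.1 : Matrix ι ι F) *ᵥ v)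
    rw [← gl_mul_mulVec, show (D.phi u).1 * w.1 = g.1 by rw [hw]; show _ * (_⁻¹ * _) = _; rw [mul_inv_cancel_left], hc,
      hcs] at h1
    exact mul_left_cancel₀ ((map_ne_zero j).2 c₀.ne_zero) (h1.symm.trans (by ring))
  obtain ⟨h, hh, hwh⟩ := exists_iso_part D.hQ hs0 hwv rfl
  have hw' : simHom Q w = simHom Q ⟨h, iso_sim hh⟩ := simHom_scalar_mul D.hQ hn hwh
  have hPh : Even (wrk h) := by
    rw [← hiso h hh]
    refine (char_congr D.hQ hn hmul hsc hw').1 ?_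
    have e1 := hmul (D.phi u) w
    rw [hw, mul_inv_cancel_left] at e1
    rw [hw]
    exact (e1.1 hg).1 hu
  have base : ∀ (h : GL ι F) (hh : h ∈ Cfsg.isometryGroup F Q), Even (wrk h) →
      ∃ c ∈ H, c * ind hs = ind hs * c ∧ c⁻¹ * simHom Q ⟨h, iso_sim hh⟩ ∈ Cfsg.Inn (Cfsg.POmega F Q) := by
    intro h hh hev
    by_cases hsp : spn Q h = 1
    · exact ⟨1, one_mem _, by rw [one_mul, mul_one], by rw [inv_one, one_mul]; exact inn_of_omega D.hQ hn hh hsp hev⟩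
    have h2 : (2 : F) ≠ 0 := fun h0 => hsp (by
      haveI : Subsingleton (SqClass F) := ⟨fun a b => by
        obtain ⟨a, rfl⟩ := QuotientGroup.mk'_surjective _ a
        obtain ⟨b, rfl⟩ := QuotientGroup.mk'_surjective _ b
        obtain ⟨t, ht⟩ := isSquare_of_two h0 ((a⁻¹ * b : Fˣ) : F)
        refine QuotientGroup.eq.2 ⟨Units.mk0 t fun e => (a⁻¹ * b).ne_zero (by rw [ht, e, mul_zero]), ?_⟩
        exact Units.ext (by rw [powMonoidHom_apply, Units.val_pow_eq_pow_val, Units.val_mk0, sq, ← ht])⟩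
      exact Subsingleton.elim _ _)
    have h20 : (2 : F₀) ≠ 0 := fun e => h2 (by rw [← map_ofNat j 2, e, map_zero])
    obtain ⟨c₁, hc₁⟩ := hns h2
    have hc₁0 : c₁ ≠ 0 := fun e => hc₁ (by rw [e, map_zero]; exact IsSquare.zero)
    obtain ⟨r, hr, hrw, hrs⟩ := D.exists_emb_rot hn h20 hc₁0
    have hrne : spn Q (emb K e j r) ≠ 1 := by
      rw [hrs, Ne, sqc_eq_one_iff ((map_ne_zero j).2 hc₁0)]; exact hc₁
    have hre := (D.emb_parity hn hr).1.2 hrw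
    have hE := D.emb_iso hr
    refine ⟨simHom Q (D.phi ⟨r, iso_sim hr⟩), (hH _).2 ⟨_, (hiso _ hE).2 hre, rfl⟩, D.commutes hs _, ?_⟩
    rw [← map_inv, ← map_mul]
    obtain ⟨M1, M2⟩ := spn_mul D.hQ (iso_le_reflGroup D.hQ (Or.inr (by omega)) hE)
      (mul_mem (inv_mem hE) hh)
    rw [mul_inv_cancel_left] at M1 M2
    refine inn_of_omega D.hQ hn (mul_mem (inv_mem hE) hh) ?_ ((M2.1 hev).1 hre)
    rcases sqclass_cases h2 hrne (spn Q h) with e | e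
    · exact absurd e hsp
    · rw [e] at M1
      exact mul_eq_left.1 M1.symm
  obtain ⟨d, hdH, hdc, hdI⟩ := base h hh hPh
  refine ⟨simHom Q (D.phi u) * d, mul_mem ((hH _).2 ⟨_, hu, rfl⟩) hdH, ?_, ?_⟩
  · rw [mul_assoc, hdc, ← mul_assoc, D.commutes hs, mul_assoc]
  · rw [_root_.mul_inv_rev, mul_assoc, ← map_inv, ← map_mul, ← hw, hw']
    exact hdI

/-- for an involutory `σ` the centraliser meets at most one further coset -/
theorem cover_two (hn : 5 ≤ Fintype.card ι) (hr : orderOf (σ : RingAut F) = 2) {P : ↥(Cfsg.Geo.quadSimilarityGroup (F := F) Q) → Prop}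
    (hmul : ∀ g h, P (g * h) ↔ (P g ↔ P h))
    (hsc : ∀ g : ↥(Cfsg.Geo.quadSimilarityGroup (F := F) Q), (∃ c : F, (g.1 : Matrix ι ι F) = c • 1) → P g)
    (hiso : ∀ (h : GL ι F) (hh : h ∈ Cfsg.isometryGroup F Q), P ⟨h, iso_sim hh⟩ ↔ Even (wrk h))
    {H : Subgroup (MulAut (Cfsg.POmega F Q))} (hH : ∀ β, β ∈ H ↔ ∃ g, P g ∧ simHom Q g = β)
    (hs : Cfsg.IsSemisimilarityPair Q G σ) (h20 : (2 : F₀) ≠ 0) {c₀ : F₀} (hc₀ : ¬ IsSquare c₀)
    {u : ↥(Cfsg.Geo.quadSimilarityGroup (F := F₀) S₀)} (hu : P (D.phi u))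
    (huv : ∀ x, S₀ ((u.1 : Matrix κ κ F₀) *ᵥ x) = c₀ * S₀ x) :
    simHom Q (D.phi u) ∈ H ∧ simHom Q (D.phi u) * ind hs = ind hs * simHom Q (D.phi u) ∧
      ∀ c ∈ H, c * ind hs = ind hs * c → c ∈ Cfsg.Inn (Cfsg.POmega F Q) ∨
        (simHom Q (D.phi u))⁻¹ * c ∈ Cfsg.Inn (Cfsg.POmega F Q) := by
  refine ⟨(hH _).2 ⟨_, hu, rfl⟩, D.commutes hs u, fun x hx hxc => ?_⟩
  obtain ⟨g, hg, rfl⟩ := (hH _).1 hx
  obtain ⟨w, hw⟩ := D.exists_preimage hn hr two_pos hs g hxc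
  have hPw : P (D.phi w) := (char_congr D.hQ hn hmul hsc hw.symm).1 hg
  obtain ⟨c, hc⟩ := w.2
  have hiso₀ : ∀ (w : ↥(Cfsg.Geo.quadSimilarityGroup (F := F₀) S₀)) (t : F₀), t ≠ 0 →
      (∀ x, S₀ ((w.1 : Matrix κ κ F₀) *ᵥ x) = t * t * S₀ x) → P (D.phi w) →
      simHom Q (D.phi w) ∈ Cfsg.Inn (Cfsg.POmega F Q) := by
    intro w t ht0 hwt hP
    obtain ⟨h, hh, hwh⟩ := exists_iso_part D.hS₀ ht0 hwt rfl
    have he : simHom Q (D.phi w) = simHom Q (D.phi ⟨h, iso_sim hh⟩) := by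
      refine inv_mul_eq_one.1 ?_
      rw [← map_inv, ← map_mul, ← map_inv, ← map_mul, D.ker_iff hn, map_mul, map_inv, inv_mul_eq_one]
      exact simHom_scalar_mul D.hS₀ (by rw [Fintype.card_congr e]; exact hn) hwh
    rw [he]
    have hev : Even (wrk (emb K e j h)) := (hiso _ (D.emb_iso hh)).1 ((char_congr D.hQ hn hmul hsc he).1 hP)
    obtain ⟨hp1, hp2⟩ := D.emb_parity hn hh
    refine inn_of_omega D.hQ hn (D.emb_iso hh) ?_ hev
    rw [hp2 fun c _ => sqc_fixed_one hr (D.fix c)]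
    obtain ⟨s, hs'⟩ := hp1.1 hev
    rw [hs', ← two_mul, pow_mul, sq, sq_sqclass_eq_one, one_pow]
  rw [← hw]
  by_cases hsq : IsSquare (c : F₀)
  · obtain ⟨t, ht⟩ := hsq
    exact Or.inl (hiso₀ w t (fun e => c.ne_zero (by rw [ht, e, mul_zero])) (fun x => by rw [hc, ht]) hPw)
  · refine Or.inr ?_
    rw [← map_inv, ← map_mul, ← map_inv, ← map_mul]
    have hc00 : c₀ ≠ 0 := fun e => hc₀ (e ▸ IsSquare.zero)
    obtain ⟨t, ht⟩ : IsSquare ((c : F₀) / c₀) := by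
      rw [← sqc_eq_one_iff (div_ne_zero c.ne_zero hc00)]
      have h1 : sqc ((c : F₀) / c₀) * sqc c₀ = sqc (c : F₀) := by
        rw [← sqc_mul (div_ne_zero c.ne_zero hc00) hc00, div_mul_cancel₀ _ hc00]
      rcases sqc_dichotomy hc₀ c.ne_zero with e' | e'
      · exact absurd ((sqc_eq_one_iff c.ne_zero).1 e') hsq
      · rw [e'] at h1; exact mul_eq_right.1 h1
    refine hiso₀ (u⁻¹ * w) t (fun e => div_ne_zero c.ne_zero hc00 (by rw [ht, e, mul_zero])) (fun x => ?_) ?_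
    · have h1 := huv (((u⁻¹ * w).1 : Matrix κ κ F₀) *ᵥ x)
      rw [← gl_mul_mulVec, show u.1 * (u⁻¹ * w).1 = w.1 from mul_inv_cancel_left u.1 w.1, hc] at h1
      rw [← ht]
      field_simp
      linear_combination -h1
    · have e1 := hmul (D.phi u) (D.phi (u⁻¹ * w))
      rw [← map_mul, mul_inv_cancel_left] at e1
      exact (e1.1 hPw).1 hu

end Model

end CfsgLib.Orth.FieldCls
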