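import Cfsg.Agent.Lib.Orth.Field.PlusType

/-!
# Conjugacy in a coset of a field or graph-field automorphism
-/

set_option autoImplicit false
set_option linter.all false

namespace CfsgLib.Orth.FieldCls

open scoped Matrix
open Matrix Cfsg.Geo CfsgLib.Orth CfsgLib.Perm.Asch CfsgLib.Perm.Trans CfsgLib.Perm.Trans.Quad

universe u

variable {F : Type u} [Field F] [Fintype F]

theorem exists_fixed_aniso (σ : F ≃+* F) :
    ∃ a b : F, σ a = a ∧ σ b = b ∧
      ∀ z₁ z₂ : F, σ z₁ = z₁ → σ z₂ = z₂ → z₁ ^ 2 + a * z₁ * z₂ + b * z₂ ^ 2 = 0 → z₁ = 0 ∧ z₂ = 0 := by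
  obtain ⟨F₀, hF₀⟩ : ∃ F₀, F₀ = Descent.fixedField (σ : RingAut F) := ⟨_, rfl⟩
  obtain ⟨a, b, hab⟩ := exists_aniso F₀
  refine ⟨a, b, (SetLike.ext_iff.1 hF₀ (a : F)).1 a.2, (SetLike.ext_iff.1 hF₀ (b : F)).1 b.2, fun z₁ z₂ h1 h2 hz => ?_⟩
  have m1 : z₁ ∈ F₀ := (SetLike.ext_iff.1 hF₀ z₁).2 h1
  have m2 : z₂ ∈ F₀ := (SetLike.ext_iff.1 hF₀ z₂).2 h2
  obtain ⟨e1, e2⟩ := hab ⟨z₁, m1⟩ ⟨z₂, m2⟩ (F₀.subtype.injective (by simpa using hz))
  exact ⟨congrArg Subtype.val e1, congrArg Subtype.val e2⟩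

/-- the coset of a semisimilarity under similarities -/
theorem coset_pair {ι : Type} [Fintype ι] [DecidableEq ι] {Q : (ι → F) → F} {σ : F ≃+* F} {G : GL ι F}
    (hG : Cfsg.IsSemisimilarityPair Q G σ) (d : ↥(Cfsg.Geo.quadSimilarityGroup (F := F) Q)) :
    ∃ hd : Cfsg.IsSemisimilarityPair Q (d.1 * G) σ, simHom Q d * ind hG = ind hd := by
  have h := semisim_mul (sim_pair d.2) hG
  have hd : Cfsg.IsSemisimilarityPair Q (d.1 * G) σ := by rwa [fieldGL_refl] at h
  exact ⟨hd, (ind_mul (sim_pair d.2) hG).trans (ind_congr _ hd (by rw [fieldGL_refl]) (RingEquiv.ext fun _ => rfl))⟩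

/-- plus type, any non-trivial field part -/
theorem coset_plus {k : ℕ} (hk : 2 ≤ k) {σ : F ≃+* F} (hσ : σ ≠ RingEquiv.refl F)
    {G : GL (Fin (k + 1) ⊕ Fin (k + 1)) F} (hG : Cfsg.IsSemisimilarityPair (Cfsg.quadFormPlus (k + 1) F) G σ)
    {δ : MulAut (Cfsg.POmega F (Cfsg.quadFormPlus (k + 1) F))} (hδ : δ ∈ Cfsg.inndiagPOmegaPlus (k + 1) F)
    {r : ℕ} (hr : r.Prime) (hxr : orderOf (ind hG) = r) :
    orderOf (δ * ind hG) = r ↔ Cfsg.IsConjUnder (Cfsg.inndiagPOmegaPlus (k + 1) F) (ind hG) (δ * ind hG) := by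
  refine ⟨fun h => ?_, fun h => (orderOf_conj h).trans hxr⟩
  have hQ : IsNondegenerateQuadraticForm (Cfsg.quadFormPlus (k + 1) F) := quadFormPlus_nd
  have hm : 3 ≤ k + 1 := by omega
  have hn : 5 ≤ Fintype.card (Fin (k + 1) ⊕ Fin (k + 1)) := by simp; omega
  obtain ⟨d, hdP, rfl⟩ := (inndiag_plus hm).1 hδ
  obtain ⟨hd, he⟩ := coset_pair hG d
  rw [he] at h ⊢
  have hσr := field_order hQ hn hG hr (by rw [← hxr, pow_orderOf_eq_one]) hσ
  have hσQ : ∀ v, Cfsg.quadFormPlus (k + 1) F (fun i => σ (v i)) = σ (Cfsg.quadFormPlus (k + 1) F v) :=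
    quadFormPlus_field σ
  have hGs := sim_of_semisim hσQ hG
  have hpres : Cfsg.PreservesSingularClasses (Cfsg.quadFormPlus (k + 1) F) ((d.1 * G : GL _ F) : Matrix _ _ F) ↔
      Cfsg.PreservesSingularClasses (Cfsg.quadFormPlus (k + 1) F) (G : Matrix _ _ F) :=
    (plus_mul hm d ⟨G, hGs⟩).trans (iff_true_left hdP)
  obtain ⟨a, b, ha, hb, hab⟩ := exists_fixed_aniso σ
  obtain ⟨e⟩ := exists_reindex k
  have h1 := desc_plus hk e hσr hr.pos ha hb hab hG (by rw [← hxr, pow_orderOf_eq_one])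
  have h2 := desc_plus hk e hσr hr.pos ha hb hab hd (by rw [← h, pow_orderOf_eq_one])
  rcases h1 with h1 | h1 <;> rcases h2 with h2 | h2
  · refine conj_of_char hQ hQ (fun g hg => (simHom_mem_plus hm g).2 hg) (plus_mul hm)
      (fun u w hu hw huw => plus_refl hm hu hw huw) hσQ
      (v := Pi.single (Sum.inl 0) 1 + Pi.single (Sum.inr 0) 1) (fun i => ?_) ?_ h1 h2 hG hd
    · simp only [Pi.add_apply, Pi.single_apply, map_add]
      split_ifs <;> simp
    · simp [Cfsg.quadFormPlus, Pi.single_apply]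
  · exact absurd (hpres.2 (pres_of_desc_plus hk hGs h1))
      (not_pres_of_desc_minus hk e ha hb hab (sim_of_semisim hσQ hd) h2)
  · exact absurd (hpres.1 (pres_of_desc_plus hk (sim_of_semisim hσQ hd) h2)) (not_pres_of_desc_minus hk e ha hb hab hGs h1)
  · have hd0 : a ^ 2 - 4 * b ≠ 0 := by
      intro h0
      by_cases hz : (2 : F) = 0
      · have ha0 : a = 0 := pow_eq_zero_iff (n := 2) two_ne_zero |>.1 (by linear_combination h0 + 2 * b * hz)
        obtain ⟨t, ht⟩ := isSquare_of_two hz b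
        have htf : σ t = t := by
          have h4 : (σ t - t) ^ 2 = 0 := by
            have h5 : σ t * σ t = t * t := by rw [← map_mul, ← ht, hb]
            linear_combination h5 + (t * t - σ t * t) * hz
          exact sub_eq_zero.1 (pow_eq_zero_iff (n := 2) two_ne_zero |>.1 h4)
        exact one_ne_zero (hab t 1 htf (map_one σ) (by rw [ha0]; linear_combination ht + t * t * hz)).2
      · exact hz (hab (-a) 2 (by rw [map_neg, ha]) (map_ofNat σ 2) (by linear_combination -h0)).2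
    refine conj_of_char hQ (reix_nd e (quadFormMinus_nd_disc hd0)) (fun g hg => (simHom_mem_plus hm g).2 hg) (plus_mul hm)
      (fun u w hu hw huw => plus_refl hm hu hw huw) ?_
      (v := fun i => (Pi.single (Sum.inr 0) 1 : (Fin k ⊕ Fin k) ⊕ Fin 2 → F) (e.symm i)) (fun i => ?_) ?_ h1 h2 hG hd
    · intro x
      have := quadFormMinus_field (m := k) a b σ fun i => x (e i)
      rwa [ha, hb] at this
    · simp only [Pi.single_apply]
      split_ifs <;> simp
    · simp [reix, Cfsg.quadFormMinus, Pi.single_apply]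

end CfsgLib.Orth.FieldCls
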