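import Cfsg.Agent.Lib.Orth.Field.CentPlus
import Cfsg.Agent.Lib.Orth.Field.Coset
import Cfsg.Agent.Lib.AutPSL.Field

/-!
# Centraliser and splitting for graph-field automorphisms
-/

set_option autoImplicit false
set_option linter.all false

namespace CfsgLib.Orth.FieldCls

open scoped Matrix
open Matrix Cfsg.Geo CfsgLib.Orth CfsgLib.Perm.Asch CfsgLib.Perm.Trans CfsgLib.Perm.Trans.Quad

universe u v

/-- a finite field has one involutory automorphism at most -/
theorem invol_unique {F : Type*} [Field F] [Fintype F] {p f : ℕ} [Fact p.Prime] (hF : Fintype.card F = p ^ f)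
    {σ τ : RingAut F} (hσ : orderOf σ = 2) (hτ : orderOf τ = 2) : σ = τ := by
  classical
  haveI : Finite (RingAut F) := Finite.of_injective (fun τ : RingAut F => (τ : F → F)) DFunLike.coe_injective
  haveI : Fintype (RingAut F) := Fintype.ofFinite _
  obtain ⟨θ⟩ := AutPSL.exists_ringAut_equiv hF
  haveI : IsCyclic (RingAut F) := isCyclic_of_surjective θ.symm θ.symm.surjective
  by_contra hne
  have hs1 : σ ≠ 1 := fun h => by simp [h] at hσ
  have ht1 : τ ≠ 1 := fun h => by simp [h] at hτ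
  have h3 : ({1, σ, τ} : Finset (RingAut F)).card = 3 :=
    Finset.card_eq_three.2 ⟨1, σ, τ, hs1.symm, ht1.symm, hne, rfl⟩
  have h4 := Finset.card_le_card (s := ({1, σ, τ} : Finset (RingAut F)))
    (t := Finset.univ.filter fun a => a ^ 2 = 1) (by
      intro a ha
      simp only [Finset.mem_insert, Finset.mem_singleton] at ha
      rcases ha with rfl | rfl | rfl
      · simp
      · simp [← hσ, pow_orderOf_eq_one]
      · simp [← hτ, pow_orderOf_eq_one])
  have h5 : (Finset.univ.filter fun a : RingAut F => a ^ 2 = 1).card ≤ 2 := IsCyclic.card_pow_eq_one_le two_pos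
  omega

variable {F : Type u} [Field F] [Fintype F] {F₀ : Type v} [Field F₀] [Fintype F₀] {k : ℕ}

local notation "I" => (Fin (k + 1) ⊕ Fin (k + 1))
local notation "J" => ((Fin k ⊕ Fin k) ⊕ Fin 2)

/-- a form anisotropic on the fixed field has non-zero discriminant -/
theorem fixed_disc {σ : F ≃+* F} {a b : F} (ha : σ a = a) (hb : σ b = b)
    (hab : ∀ z₁ z₂ : F, σ z₁ = z₁ → σ z₂ = z₂ → z₁ ^ 2 + a * z₁ * z₂ + b * z₂ ^ 2 = 0 → z₁ = 0 ∧ z₂ = 0) :
    a ^ 2 - 4 * b ≠ 0 := by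
  intro h0
  by_cases hz : (2 : F) = 0
  · have ha0 : a = 0 := pow_eq_zero_iff (n := 2) two_ne_zero |>.1 (by linear_combination h0 + 2 * b * hz)
    obtain ⟨t, ht⟩ := isSquare_of_two hz b
    have htf : σ t = t := by
      have h4 : (σ t - t) ^ 2 = 0 := by
        have h5 : σ t * σ t = t * t := by rw [← map_mul, ← ht, hb]
        linear_combination h5 + (t * t - σ t * t) * hz
      exact sub_eq_zero.1 (pow_eq_zero_iff (n := 2) two_ne_zero |>.1 h4)
    exact one_ne_zero (hab t 1 htf (map_one σ) (by rw [ha0]; linear_combination ht + t * t * hz)).2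
  · exact hz (hab (-a) 2 (by rw [map_neg, ha]) (map_ofNat σ 2) (by linear_combination -h0)).2

/-- class preserving similarities of every multiplier -/
theorem minus_bin_pres {a₀ b₀ : F₀} (hab₀ : ∀ z₁ z₂ : F₀, z₁ ^ 2 + a₀ * z₁ * z₂ + b₀ * z₂ ^ 2 = 0 → z₁ = 0 ∧ z₂ = 0)
    (hk : 2 ≤ k) (j : F₀ →+* F) {ρ : F} (hρ : ρ ^ 2 + j a₀ * ρ + j b₀ = 0) (c : F₀ˣ) :
    ∃ (u v : F₀) (s : ↥(Cfsg.Geo.quadSimilarityGroup (F := F₀) (Cfsg.quadFormMinus k F₀ a₀ b₀))),
      u ^ 2 + a₀ * u * v + b₀ * v ^ 2 = c ∧ (s.1 : Matrix J J F₀) = binMul a₀ b₀ u v ∧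
      Cfsg.PreservesSingularClassesMinus k a₀ b₀ (s.1 : Matrix J J F₀) ∧
      ∀ x, Cfsg.quadFormMinus k F₀ a₀ b₀ ((s.1 : Matrix J J F₀) *ᵥ x) = (c : F₀) * Cfsg.quadFormMinus k F₀ a₀ b₀ x := by
  obtain ⟨u, v, huv⟩ := exists_binary_value hab₀ (c : F₀)
  have hdet : (binMul (m := k) a₀ b₀ u v).det ≠ 0 := by
    rw [binMul, Matrix.det_fromBlocks_zero₁₂, Matrix.det_fromBlocks_zero₁₂, Matrix.det_smul, Matrix.det_one,
      Matrix.det_fin_two_of, huv, show u * (u + a₀ * v) - -(b₀ * v) * v = u ^ 2 + a₀ * u * v + b₀ * v ^ 2 by ring, huv]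
    simp [c.ne_zero]
  obtain ⟨s, hs'⟩ : ∃ s : GL J F₀, (s : Matrix J J F₀) = binMul a₀ b₀ u v :=
    ⟨Matrix.GeneralLinearGroup.mkOfDetNeZero _ hdet, rfl⟩
  have hsv : ∀ x, Cfsg.quadFormMinus k F₀ a₀ b₀ ((s : Matrix J J F₀) *ᵥ x) = (c : F₀) * Cfsg.quadFormMinus k F₀ a₀ b₀ x :=
    fun x => by rw [hs', binMul_sim, huv]
  refine ⟨u, v, ⟨s, c, hsv⟩, huv, hs', ?_, hsv⟩
  have h0 := (pres_ext_iff j hab₀ hρ hk (h := 1) (huv ▸ c.ne_zero) hs' (one_mem _)).2
    (by rw [(spn_one (quadFormMinus_nd a₀ b₀ hab₀)).1]; exact Even.zero)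
  rw [mul_one] at h0
  exact (presMinus_iff hab₀ hk j hρ ⟨c, hsv⟩).2 h0

/-- reindexing does not change the classes -/
theorem pres_reix {κ ι : Type} [Fintype κ] [DecidableEq κ] [Fintype ι] [DecidableEq ι] (e : κ ≃ ι)
    {S : (κ → F) → F} (hS : IsNondegenerateQuadraticForm S) (hn : 5 ≤ Fintype.card κ) {m : ℕ}
    (hm : Fintype.card κ = m + m) {U : Submodule F (κ → F)} (hU : IsLag S m U) {g : GL κ F} {c : F}
    (hg : ∀ v, S ((g : Matrix κ κ F) *ᵥ v) = c * S v) :
    Cfsg.PreservesSingularClasses (reix e S) ((reGL e g : GL ι F) : Matrix ι ι F) ↔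
      Cfsg.PreservesSingularClasses S (g : Matrix κ κ F) := by
  obtain ⟨φ, hφ⟩ : ∃ φ, φ = LinearMap.funLeft F F e.symm := ⟨_, rfl⟩
  have hφi : Function.Injective φ := hφ ▸ LinearMap.funLeft_injective_of_surjective F F e.symm e.symm.surjective
  have hcard : Fintype.card ι = Fintype.card κ := (Fintype.card_congr e).symm
  have hfr : ∀ W : Submodule F (κ → F), Module.finrank F ↥(W.map φ) = Module.finrank F W := fun W =>
    (Submodule.equivMapOfInjective φ hφi W).finrank_eq.symm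
  have hU' : IsLag (reix e S) m (U.map φ) := by
    refine ⟨(hfr U).trans hU.1, ?_⟩
    rintro _ ⟨y, hy, rfl⟩
    have : reix e S (φ y) = S y := by rw [hφ]; simp [reix, LinearMap.funLeft_apply]
    rw [this, hU.2 y hy]
  have hg' : ∀ v, reix e S (((reGL e g : GL ι F) : Matrix ι ι F) *ᵥ v) = c * reix e S v := fun v => by
    rw [reGL_mulVec]; simp [reix, hg]
  have himg : img (reGL e g) (U.map φ) = (img g U).map φ := by
    show (U.map φ).map _ = (U.map _).map φ
    rw [← Submodule.map_comp, ← Submodule.map_comp]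
    congr 1
    refine LinearMap.ext fun x => funext fun i => ?_
    simp [hφ, LinearMap.funLeft_apply, reGL_mulVec, Matrix.mulVecLin_apply]
  rw [pres_iff_par (reix_nd e hS) (by omega) (hcard.trans hm) hU' hg', pres_iff_par hS hn hm hU hg, himg, Par, Par,
    ← Submodule.map_inf _ hφi, hfr]

/-- graph-field involutions of the plus type group -/
theorem graph_field_cent (hk : 2 ≤ k) {σ : F ≃+* F} (hσr : orderOf (σ : RingAut F) = 2)
    {G : GL I F} (hs : Cfsg.IsSemisimilarityPair (Cfsg.quadFormPlus (k + 1) F) G σ) (hord : ind hs ^ 2 = 1)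
    (hpres : ¬ Cfsg.PreservesSingularClasses (Cfsg.quadFormPlus (k + 1) F) (G : Matrix I I F))
    (j : F₀ →+* F) (hfix : ∀ c, σ (j c) = j c) (hsurj : ∀ x, σ x = x → ∃ c, j c = x) :
    (∃ a₀ b₀ : F₀, (∀ z₁ z₂ : F₀, z₁ ^ 2 + a₀ * z₁ * z₂ + b₀ * z₂ ^ 2 = 0 → z₁ = 0 ∧ z₂ = 0) ∧
      Nonempty (↥(Cfsg.inndiagPOmegaPlus (k + 1) F ⊓ Subgroup.centralizer {ind hs}) ≃* ↥(Cfsg.inndiagPOmegaMinus k F₀ a₀ b₀))) ∧
    ((2 : F) = 0 → Cfsg.splitClassCount (Cfsg.inndiagPOmegaPlus (k + 1) F)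
      (Cfsg.Inn (Cfsg.POmega F (Cfsg.quadFormPlus (k + 1) F))) (ind hs) = 1) ∧
    ((2 : F) ≠ 0 → Odd (k + 1) ∧ Fintype.card F₀ % 4 = 1 → Cfsg.splitClassCount (Cfsg.inndiagPOmegaPlus (k + 1) F)
      (Cfsg.Inn (Cfsg.POmega F (Cfsg.quadFormPlus (k + 1) F))) (ind hs) = 4) ∧
    ((2 : F) ≠ 0 → ¬ (Odd (k + 1) ∧ Fintype.card F₀ % 4 = 1) → Cfsg.splitClassCount (Cfsg.inndiagPOmegaPlus (k + 1) F)
      (Cfsg.Inn (Cfsg.POmega F (Cfsg.quadFormPlus (k + 1) F))) (ind hs) = 2) := by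
  have hm : 3 ≤ k + 1 := by omega
  have hn : 5 ≤ Fintype.card I := by simp; omega
  have hnJ : 5 ≤ Fintype.card J := by simp; omega
  have hQ : IsNondegenerateQuadraticForm (Cfsg.quadFormPlus (k + 1) F) := quadFormPlus_nd
  obtain ⟨a₀, b₀, hab₀⟩ := exists_aniso F₀
  have hab' : ∀ z₁ z₂ : F, σ z₁ = z₁ → σ z₂ = z₂ → z₁ ^ 2 + j a₀ * z₁ * z₂ + j b₀ * z₂ ^ 2 = 0 → z₁ = 0 ∧ z₂ = 0 := by
    intro z₁ z₂ h1 h2 hz
    obtain ⟨x, rfl⟩ := hsurj z₁ h1
    obtain ⟨y, rfl⟩ := hsurj z₂ h2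
    obtain ⟨e1, e2⟩ := hab₀ x y (j.injective (by rw [map_zero, ← hz]; simp))
    exact ⟨by rw [e1, map_zero], by rw [e2, map_zero]⟩
  obtain ⟨e⟩ := exists_reindex k
  have hGs := sim_of_semisim (quadFormPlus_field σ) hs
  rcases desc_plus hk e hσr two_pos (hfix a₀) (hfix b₀) hab' hs hord with hD | hD
  · exact absurd (pres_of_desc_plus hk hGs hD) hpres
  obtain ⟨K, a, l, ha, hl, hGK, hK⟩ := hD
  have hd0 : (j a₀) ^ 2 - 4 * j b₀ ≠ 0 := by
    intro h0
    refine minus_disc hab₀ (j.injective ?_)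
    rw [map_sub, map_pow, map_mul, map_ofNat, map_zero, h0]
  have hS : IsNondegenerateQuadraticForm (Cfsg.quadFormMinus k F (j a₀) (j b₀)) := quadFormMinus_nd_disc hd0
  have D : Model (Cfsg.quadFormPlus (k + 1) F) σ G e j (Cfsg.quadFormMinus k F₀ a₀ b₀)
      (Cfsg.quadFormMinus k F (j a₀) (j b₀)) K a l :=
    ⟨hQ, quadFormMinus_nd a₀ b₀ hab₀, hS, minus_eval j a₀ b₀, hfix, hsurj, ha, hl, hGK, hK⟩
  -- the binary part splits over `F`
  obtain ⟨ρ, hρ⟩ : ∃ ρ : F, ρ ^ 2 + j a₀ * ρ + j b₀ = 0 := by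
    by_contra hno
    push Not at hno
    have hanis : ∀ z₁ z₂ : F, z₁ ^ 2 + j a₀ * z₁ * z₂ + j b₀ * z₂ ^ 2 = 0 → z₁ = 0 ∧ z₂ = 0 := fun z₁ z₂ hz => by
      by_cases h0 : z₂ = 0
      · subst h0; simpa using hz
      · exact absurd (by field_simp; linear_combination hz) (hno (z₁ / z₂))
    obtain ⟨U, hU⟩ : ∃ U, U = (img K⁻¹ (LinearMap.ker (LinearMap.funLeft F F (Sum.inr : Fin (k + 1) → I)))).map
        (LinearMap.funLeft F F e) := ⟨_, rfl⟩
    have hd : Module.finrank F U = k + 1 := by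
      rw [hU, ← (Submodule.equivMapOfInjective _ (LinearMap.funLeft_injective_of_surjective F F e e.surjective) _).finrank_eq,
        map_gl_finrank, (std_singular (k + 1)).1]
    have h1 := Aut.minus_ts_finrank_le (j a₀) (j b₀) hanis (U := U) (by
      rw [hU]
      rintro _ ⟨_, ⟨y, hy, rfl⟩, rfl⟩
      have h2 := hK (((K⁻¹ : GL I F) : Matrix I I F) *ᵥ y)
      rw [gl_mulVec_inv, (std_singular (k + 1)).2 y hy] at h2
      exact (mul_eq_zero.1 h2.symm).resolve_left hl)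
    omega
  obtain ⟨UJ, hUJ, hUb⟩ := exists_lag (m := k) j hρ
  have hP : ∀ u, Cfsg.PreservesSingularClasses (Cfsg.quadFormPlus (k + 1) F) ((D.phi u).1 : Matrix I I F) ↔
      Cfsg.PreservesSingularClassesMinus k a₀ b₀ (u.1 : Matrix J J F₀) := fun u => by
    obtain ⟨c, hc⟩ := u.2
    have hju := rel_map j hS hS (minus_eval j a₀ b₀) (minus_eval j a₀ b₀) hc
    have hre : ∀ v, reix e (Cfsg.quadFormMinus k F (j a₀) (j b₀))
        (((reGL e (Matrix.GeneralLinearGroup.map j u.1) : GL I F) : Matrix I I F) *ᵥ v) =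
        j c * reix e (Cfsg.quadFormMinus k F (j a₀) (j b₀)) v := fun v => by
      rw [reGL_mulVec]
      simp only [reix, Equiv.symm_apply_apply]
      exact hju _
    have hU' : IsLag (reix e (Cfsg.quadFormMinus k F (j a₀) (j b₀))) (k + 1) (UJ.map (LinearMap.funLeft F F e.symm)) := by
      refine ⟨((Submodule.equivMapOfInjective _ (LinearMap.funLeft_injective_of_surjective F F e.symm e.symm.surjective) UJ).finrank_eq.symm).trans hUJ.1, ?_⟩
      rintro _ ⟨y, hy, rfl⟩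
      have : reix e (Cfsg.quadFormMinus k F (j a₀) (j b₀)) (LinearMap.funLeft F F e.symm y) =
          Cfsg.quadFormMinus k F (j a₀) (j b₀) y := by simp [reix, LinearMap.funLeft_apply]
      rw [this, hUJ.2 y hy]
    rw [Model.phi_val, emb_apply, pres_transport hQ (reix_nd e hS) hn plus_card hU' hK hre,
      pres_reix e hS hnJ minus_card hUJ (g := Matrix.GeneralLinearGroup.map j u.1) hju]
    exact (presMinus_iff hab₀ hk j hρ u.2).symm
  have hbin : ∀ c : F₀ˣ, ∃ (u v : F₀) (s : ↥(Cfsg.Geo.quadSimilarityGroup (F := F₀) (Cfsg.quadFormMinus k F₀ a₀ b₀))),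
      u ^ 2 + a₀ * u * v + b₀ * v ^ 2 = c ∧ (s.1 : Matrix J J F₀) = binMul a₀ b₀ u v ∧
      Cfsg.PreservesSingularClassesMinus k a₀ b₀ (s.1 : Matrix J J F₀) ∧
      ∀ x, Cfsg.quadFormMinus k F₀ a₀ b₀ ((s.1 : Matrix J J F₀) *ᵥ x) = (c : F₀) * Cfsg.quadFormMinus k F₀ a₀ b₀ x :=
    minus_bin_pres hab₀ hk j hρ
  obtain ⟨f1, f2, f3⟩ := plus_model_facts hk D (fun β => inndiag_minus hab₀ hk) (simHom_mem_minus hab₀ hk) hP
    (fun c => by obtain ⟨u, v, s, -, -, hsP, hsv⟩ := hbin c; exact ⟨s, hsP, hsv⟩) Nat.prime_two hσr hs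
  refine ⟨⟨a₀, b₀, hab₀, f1⟩, fun h => f2 (Or.inr h), ?_⟩
  have main : (2 : F) ≠ 0 → Cfsg.splitClassCount (Cfsg.inndiagPOmegaPlus (k + 1) F)
      (Cfsg.Inn (Cfsg.POmega F (Cfsg.quadFormPlus (k + 1) F))) (ind hs) =
      if Odd (k + 1) ∧ Fintype.card F₀ % 4 = 1 then 4 else 2 := by
    intro h2
    have h20 : (2 : F₀) ≠ 0 := fun e => h2 (by rw [← map_ofNat j 2, e, map_zero])
    obtain ⟨c, hc⟩ := exists_nonsquare_unit (F := F₀) h20
    obtain ⟨u, v, s, huv, hs', hsP, hsv⟩ := hbin c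
    obtain ⟨f4, f5⟩ := f3 rfl h2 c s hc hsP hsv
    obtain ⟨t, ht⟩ := (sqc_eq_one_iff ((map_ne_zero j).2 c.ne_zero)).1 (sqc_fixed_one hσr (hfix c))
    have ht0 : t ≠ 0 := fun e => c.ne_zero (j.injective (by rw [ht, e, mul_zero, map_zero]))
    -- the other root
    obtain ⟨ρ', hρ'⟩ : ∃ ρ', ρ' = σ ρ := ⟨_, rfl⟩
    have hσρ : σ ρ = -j a₀ - ρ := by
      have h1 : σ ρ ^ 2 + j a₀ * σ ρ + j b₀ = 0 := by
        have := congrArg σ hρ
        simpa only [map_add, map_mul, map_pow, hfix, map_zero] using this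
      have h3 : (σ ρ - ρ) * (σ ρ + ρ + j a₀) = 0 := by linear_combination h1 - hρ
      rcases mul_eq_zero.1 h3 with h4 | h4
      · exact absurd (hab' ρ 1 (sub_eq_zero.1 h4) (map_one σ) (by linear_combination hρ)).2 one_ne_zero
      · linear_combination h4
    rw [hσρ] at hρ'
    have hδ : ρ - ρ' ≠ 0 := fun h => hd0 (by
      rw [hρ'] at h
      linear_combination (2 * ρ + j a₀) * h - 4 * hρ)
    obtain ⟨z, hz⟩ : ∃ z, z = j u - ρ * j v := ⟨_, rfl⟩
    have hzσ : σ z = j u - ρ' * j v := by rw [hz, hρ', map_sub, map_mul, hfix, hfix, hσρ]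
    have huv' : j u ^ 2 + j a₀ * j u * j v + j b₀ * j v ^ 2 = j c := by rw [← huv]; simp
    have hzN : z * σ z = j c := by
      rw [hzσ, hz, hρ', ← huv']
      linear_combination (-(j v ^ 2)) * hρ
    have hz0 : z ≠ 0 := fun e0 => c.ne_zero (j.injective (by rw [← hzN, e0, zero_mul, map_zero]))
    -- hyperbolic coordinates
    let y : (I → F) →ₗ[F] (J → F) :=
      { toFun := fun x => Sum.elim (Sum.elim (fun i => x (.inl i.castSucc)) fun i => x (.inr i.castSucc))
          ![x (.inl (Fin.last k)) + ρ * ((x (.inr (Fin.last k)) - x (.inl (Fin.last k))) / (ρ - ρ')),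
            (x (.inr (Fin.last k)) - x (.inl (Fin.last k))) / (ρ - ρ')]
        map_add' := fun p q => by
          funext i; rcases i with (i | i) | i <;> [simp; simp; fin_cases i] <;> simp <;> field_simp <;> ring
        map_smul' := fun r p => by
          funext i; rcases i with (i | i) | i <;> [simp; simp; fin_cases i] <;> simp <;> field_simp <;> ring }
    have hy : ∀ x, Cfsg.quadFormMinus k F (j a₀) (j b₀) (y x) = Cfsg.quadFormPlus (k + 1) F x := fun x => by
      obtain ⟨q, hq⟩ : ∃ q, q = (x (.inr (Fin.last k)) - x (.inl (Fin.last k))) / (ρ - ρ') := ⟨_, rfl⟩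
      have hq' : x (.inr (Fin.last k)) = x (.inl (Fin.last k)) + q * (ρ - ρ') := by
        rw [hq, div_mul_cancel₀ _ hδ]; ring
      simp [Cfsg.quadFormMinus, Cfsg.quadFormPlus, Fin.sum_univ_castSucc, y, ← hq]
      rw [hq', hρ']
      linear_combination q ^ 2 * hρ
    obtain ⟨L, hL⟩ : ∃ L : (I → F) →ₗ[F] (I → F), L = (LinearMap.funLeft F F e.symm).comp y := ⟨_, rfl⟩
    have hLv : ∀ x, reix e (Cfsg.quadFormMinus k F (j a₀) (j b₀)) (L x) = Cfsg.quadFormPlus (k + 1) F x := fun x => by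
      rw [← hy x, hL]
      simp [reix, LinearMap.funLeft_apply]
    have hLi : Function.Injective (LinearMap.toMatrix' L).mulVec := by
      intro x x' h
      rw [LinearMap.toMatrix'_mulVec, LinearMap.toMatrix'_mulVec] at h
      by_contra hne
      obtain ⟨⟨w, hw⟩, -⟩ := (quadFormPlus_nd (F := F) (m := k + 1)).nondegenerate (x - x') (sub_ne_zero.2 hne)
      apply hw
      have h0 : L (x - x') = 0 := by rw [map_sub, h, sub_self]
      simp only [QuadraticMap.polar, ← hLv, map_add, h0, zero_add, add_zero, map_zero]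
      have h00 : reix e (Cfsg.quadFormMinus k F (j a₀) (j b₀)) 0 = 0 := by simp [reix, Cfsg.quadFormMinus]
      rw [h00]; ring
    obtain ⟨M, hM⟩ : ∃ M : GL I F, ∀ x, (M : Matrix I I F) *ᵥ x = L x :=
      ⟨(Matrix.mulVec_injective_iff_isUnit.1 hLi).unit, fun x => by rw [IsUnit.unit_spec, LinearMap.toMatrix'_mulVec]⟩
    obtain ⟨d, hd⟩ : ∃ d : Fin (k + 1) → F, d = Fin.lastCases (z / t) (fun _ => t) := ⟨_, rfl⟩
    have hd1 : ∀ i : Fin k, d i.castSucc = t := fun i => by simp [hd]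
    have hd2 : d (Fin.last k) = z / t := by simp [hd]
    have hdne : ∀ i, d i ≠ 0 := fun i => Fin.lastCases (by rw [hd2]; exact div_ne_zero hz0 ht0) (fun i => by rw [hd1]; exact ht0) i
    have hAd : (Matrix.diagonal d).det = t ^ k * (z / t) := by
      rw [Matrix.det_diagonal, Fin.prod_univ_castSucc, hd2]
      simp [hd1]
    obtain ⟨A, hA⟩ : ∃ A : GL (Fin (k + 1)) F, (A : Matrix (Fin (k + 1)) (Fin (k + 1)) F) = Matrix.diagonal d :=
      ⟨Matrix.GeneralLinearGroup.mkOfDetNeZero (Matrix.diagonal d) (by rw [hAd]; exact mul_ne_zero (pow_ne_zero _ ht0) (div_ne_zero hz0 ht0)), rfl⟩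
    have hAi : ((A⁻¹ : GL (Fin (k + 1)) F) : Matrix (Fin (k + 1)) (Fin (k + 1)) F) = Matrix.diagonal fun i => (d i)⁻¹ := by
      have h1 : (A : Matrix (Fin (k + 1)) (Fin (k + 1)) F) * Matrix.diagonal (fun i => (d i)⁻¹) = 1 := by
        rw [hA, Matrix.diagonal_mul_diagonal, ← Matrix.diagonal_one]
        congr 1
        funext i
        exact mul_inv_cancel₀ (hdne i)
      calc ((A⁻¹ : GL (Fin (k + 1)) F) : Matrix (Fin (k + 1)) (Fin (k + 1)) F)
          = ((A⁻¹ : GL (Fin (k + 1)) F) : Matrix (Fin (k + 1)) (Fin (k + 1)) F) *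
              ((A : Matrix (Fin (k + 1)) (Fin (k + 1)) F) * Matrix.diagonal fun i => (d i)⁻¹) := by rw [h1, Matrix.mul_one]
        _ = _ := by rw [← Matrix.mul_assoc, ← Units.val_mul, inv_mul_cancel, Units.val_one, Matrix.one_mul]
    have hlev : ∀ x, ((levi A : GL I F) : Matrix I I F) *ᵥ x =
        Sum.elim (fun i => d i * x (.inl i)) fun i => (d i)⁻¹ * x (.inr i) := fun x => by
      rw [levi_coe, hA, hAi, Matrix.diagonal_transpose, Matrix.fromBlocks_diagonal]
      funext i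
      rw [Matrix.mulVec_diagonal]
      rcases i with i | i <;> rfl
    have hkey : ((reGL e (Matrix.GeneralLinearGroup.map j s.1) * M : GL I F) : Matrix I I F) =
        t • ((M * levi A : GL I F) : Matrix I I F) := by
      refine Matrix.ext_iff_mulVec.2 fun x => ?_
      rw [gl_mul_mulVec, smul_mulVec, gl_mul_mulVec, hM, hM, reGL_mulVec, hlev, ← map_smul]
      rw [hL]
      funext i
      have hmap : ((Matrix.GeneralLinearGroup.map j s.1 : GL J F) : Matrix J J F) = binMul (j a₀) (j b₀) (j u) (j v) := by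
        rw [← binMul_map, ← hs']; rfl
      simp only [LinearMap.comp_apply, LinearMap.funLeft_apply, Equiv.symm_apply_apply]
      rw [hmap, binMul_mulVec, huv']
      have htd : t * (d (Fin.last k))⁻¹ = σ z := by
        rw [hd2, inv_div]
        field_simp
        linear_combination -ht - hzN
      rcases e.symm i with (i' | i') | i'
      · simp [y, hd1, ← mul_assoc, ← ht]
      · simp [y, hd1, ht0]
      · have e1 : t * (d (Fin.last k)) = z := by rw [hd2, mul_div_cancel₀ _ ht0]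
        simp only [y, LinearMap.coe_mk, AddHom.coe_mk, Sum.elim_inr, Pi.smul_apply, Sum.elim_inl, smul_eq_mul]
        rw [← mul_assoc t, ← mul_assoc t, htd, e1, hzσ, hz]
        fin_cases i'
        · simp
          field_simp
          rw [hρ']
          linear_combination (j v * (x (Sum.inl (Fin.last k)) - x (Sum.inr (Fin.last k)))) * hρ
        · simp
          field_simp
          rw [hρ']
          ring
    have hKM : ∀ x, Cfsg.quadFormPlus (k + 1) F (((K * M : GL I F) : Matrix I I F) *ᵥ x) =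
        l * Cfsg.quadFormPlus (k + 1) F x := fun x => by rw [gl_mul_mulVec, hK, hM, hLv]
    have hmat : ((D.phi s).1 : Matrix I I F) = t • ((K * M * levi A * (K * M)⁻¹ : GL I F) : Matrix I I F) := by
      have e2 : (D.phi s).1 = K * (reGL e (Matrix.GeneralLinearGroup.map j s.1) * M) * (K * M)⁻¹ := by
        rw [Model.phi_val, emb_apply]; group
      rw [e2, Units.val_mul, Units.val_mul, hkey, mul_smul_comm, smul_mul_assoc, ← Units.val_mul, ← Units.val_mul,
        show K * (M * levi A) * (K * M)⁻¹ = K * M * levi A * (K * M)⁻¹ by group]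
    have hiff := levi_class hm h2 (spn_neg_plus_sq hm hσr h2) hl hKM A hmat
    rw [hA, hAd] at hiff
    obtain ⟨hzns, hsq⟩ := root_square hσr j hfix hsurj hc hzN
    have hts := hsq t ht.symm
    have h4 : Fintype.card F₀ % 4 = 1 ∨ Fintype.card F₀ % 4 = 3 := by
      have := FiniteField.odd_card_of_char_ne_two (F := F₀) fun h => h20 (by
        haveI := ringChar.charP F₀
        haveI : CharP F₀ 2 := CharP.congr (ringChar F₀) h
        exact CharTwo.two_eq_zero)
      omega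
    have hclass : IsSquare (t ^ k * (z / t)) ↔ sqc (t ^ (k + 1)) * sqc z = 1 := by
      rw [sqc_eq_one_iff (mul_ne_zero (pow_ne_zero _ ht0) (div_ne_zero hz0 ht0)) |>.symm,
        ← sqc_mul (pow_ne_zero _ ht0) hz0, show t ^ (k + 1) * z = t * (t ^ k * (z / t)) * t by field_simp; ring,
        sqc_sq_mul ht0 (mul_ne_zero (pow_ne_zero _ ht0) (div_ne_zero hz0 ht0))]
    have hzc : sqc z ≠ 1 := fun h => hzns ((sqc_eq_one_iff hz0).1 h)
    split_ifs with hc'
    · refine f4 (hiff.2 (hclass.2 ?_))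
      have htns : ¬ IsSquare t := fun h => by rw [hts] at h; omega
      obtain ⟨i, hi⟩ := hc'.1
      have e3 : sqc (t ^ (k + 1)) = sqc t := by
        rw [hi, show t ^ (2 * i + 1) = t ^ i * t * t ^ i by ring, sqc_sq_mul (pow_ne_zero _ ht0) ht0]
      rcases sqc_dichotomy hzns ht0 with e4 | e4
      · exact absurd ((sqc_eq_one_iff ht0).1 e4) htns
      · rw [e3, e4, sqc_mul_self hz0]
    · refine f5 fun hin => hzc ?_
      have h5 := hclass.1 (hiff.1 hin)
      have e5 : sqc (t ^ (k + 1)) = 1 := by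
        rw [sqc_eq_one_iff (pow_ne_zero _ ht0)]
        rcases Nat.even_or_odd (k + 1) with ⟨i, hi⟩ | hodd
        · exact ⟨t ^ i, by rw [hi, pow_add]⟩
        · obtain ⟨w, hw⟩ := hts.2 (h4.resolve_left fun h => hc' ⟨hodd, h⟩)
          exact ⟨w ^ (k + 1), by rw [hw, mul_pow]⟩
      rwa [e5, one_mul] at h5
  exact ⟨fun h2 h => (main h2).trans (if_pos h), fun h2 h => (main h2).trans (if_neg h)⟩

end CfsgLib.Orth.FieldCls
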