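import Cfsg.Agent.Lib.Orth.Field.CentTools

/-!
# Centraliser and splitting: odd dimension
-/

set_option autoImplicit false
set_option linter.all false

namespace CfsgLib.Orth.FieldCls

open scoped Matrix
open Matrix Cfsg.Geo CfsgLib.Orth CfsgLib.Perm.Asch CfsgLib.Perm.Trans CfsgLib.Perm.Trans.Quad

universe u v

variable {F : Type u} [Field F] [Fintype F]

theorem inn_index_odd {m : ℕ} (hm : 2 ≤ m) (h2 : (2 : F) ≠ 0) :
    (Cfsg.Inn (Cfsg.POmega F (Cfsg.quadFormOdd m F))).relIndex (Cfsg.inndiagPOmegaOdd m F) = 2 := by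
  have hQ : IsNondegenerateQuadraticForm (Cfsg.quadFormOdd m F) := quadFormOdd_nd h2
  have hn : 5 ≤ Fintype.card (Unit ⊕ (Fin m ⊕ Fin m)) := by simp; omega
  have hle := inn_le_pgo hQ
  rw [inndiag_odd, ← pgoAut_eq]
  haveI : Finite (Cfsg.POmega F (Cfsg.quadFormOdd m F)) := Quotient.finite _
  have h := Subgroup.card_eq_card_quotient_mul_card_subgroup
    ((Cfsg.Inn (Cfsg.POmega F (Cfsg.quadFormOdd m F))).subgroupOf (Cfsg.pgoAut F (Cfsg.quadFormOdd m F)))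
  rw [Nat.card_congr (Subgroup.subgroupOfEquivOfLe hle).toEquiv, card_inn hQ hn,
    card_pgo_odd hQ hn h2 ⟨m, by simp; omega⟩] at h
  exact (Nat.eq_of_mul_eq_mul_right Nat.card_pos h).symm

theorem odd_cent {m : ℕ} (hm : 2 ≤ m) (h2 : (2 : F) ≠ 0) {σ : F ≃+* F} {r : ℕ} (hr : r.Prime)
    (hσr : orderOf (σ : RingAut F) = r) {G : GL (Unit ⊕ (Fin m ⊕ Fin m)) F}
    (hs : Cfsg.IsSemisimilarityPair (Cfsg.quadFormOdd m F) G σ) (hord : ind hs ^ r = 1)
    {F₀ : Type v} [Field F₀] [Fintype F₀] (j : F₀ →+* F) (hfix : ∀ c, σ (j c) = j c)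
    (hsurj : ∀ x, σ x = x → ∃ c, j c = x) :
    Nonempty (↥(Cfsg.inndiagPOmegaOdd m F ⊓ Subgroup.centralizer {ind hs}) ≃* ↥(Cfsg.inndiagPOmegaOdd m F₀)) ∧
      (Odd r → Cfsg.splitClassCount (Cfsg.inndiagPOmegaOdd m F) (Cfsg.Inn (Cfsg.POmega F (Cfsg.quadFormOdd m F))) (ind hs) = 1) ∧
      (r = 2 → Cfsg.splitClassCount (Cfsg.inndiagPOmegaOdd m F) (Cfsg.Inn (Cfsg.POmega F (Cfsg.quadFormOdd m F))) (ind hs) = 2) := by
  have hQ : IsNondegenerateQuadraticForm (Cfsg.quadFormOdd m F) := quadFormOdd_nd h2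
  have hn : 5 ≤ Fintype.card (Unit ⊕ (Fin m ⊕ Fin m)) := by simp; omega
  have hodd : Odd (Fintype.card (Unit ⊕ (Fin m ⊕ Fin m))) := ⟨m, by simp; omega⟩
  have h20 : (2 : F₀) ≠ 0 := fun h => h2 (by rw [← map_ofNat j 2, h, map_zero])
  have hQ₀ : IsNondegenerateQuadraticForm (Cfsg.quadFormOdd m F₀) := quadFormOdd_nd h20
  obtain ⟨K, a, k, ha, hk, hGK, hK⟩ := desc_odd h2 hm hσr hr.pos hs hord
  have D : Model (Cfsg.quadFormOdd m F) σ G (Equiv.refl _) j (Cfsg.quadFormOdd m F₀) (Cfsg.quadFormOdd m F) K a k :=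
    ⟨hQ, hQ₀, hQ, fun x => by simp [Cfsg.quadFormOdd, map_sum], hfix, hsurj, ha, hk, hGK, hK⟩
  haveI := inn_normal (Cfsg.POmega F (Cfsg.quadFormOdd m F))
  have hle : Cfsg.Inn (Cfsg.POmega F (Cfsg.quadFormOdd m F)) ≤ Cfsg.inndiagPOmegaOdd m F := by
    rw [inndiag_odd, ← pgoAut_eq]; exact inn_le_pgo hQ
  refine ⟨D.cent_equiv hn hσr hr.pos hs (le_of_eq inndiag_odd) (le_of_eq inndiag_odd) fun u => ?_, fun hro => ?_, fun hr2 => ?_⟩
  · rw [inndiag_odd, inndiag_odd]; exact iff_of_true ⟨_, rfl⟩ ⟨_, rfl⟩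
  · refine split_one hle _ fun x hx => ?_
    rw [inndiag_odd] at hx
    obtain ⟨g, rfl⟩ := hx
    obtain ⟨h, hh, hev, hg⟩ := odd_factor hQ h2 hodd hn g
    rw [hg]
    by_cases hs1 : spn (Cfsg.quadFormOdd m F) h = 1
    · exact ⟨1, one_mem _, by rw [one_mul, mul_one], by rw [inv_one, one_mul]; exact inn_of_omega hQ hn hh hs1 hev⟩
    · obtain ⟨u, hu, hud, hus⟩ := exists_rot hQ₀ hn h20
      obtain ⟨u₁, hu₁, hu₁w, hu₁s⟩ : ∃ u₁, ∃ hu₁ : u₁ ∈ Cfsg.isometryGroup F₀ (Cfsg.quadFormOdd m F₀),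
          Even (wrk u₁) ∧ spn (Cfsg.quadFormOdd m F) (emb K (Equiv.refl _) j u₁) ≠ 1 := by
        obtain ⟨c, hc⟩ := exists_nonsquare_unit (F := F₀) h20
        obtain ⟨v, hv⟩ := exists_value hQ₀ h20 (by omega) (1 : F₀)
        obtain ⟨w, hw⟩ := exists_value hQ₀ h20 (by omega) (c : F₀)
        have hv0 : Cfsg.quadFormOdd m F₀ v ≠ 0 := by rw [hv]; exact one_ne_zero
        have hw0 : Cfsg.quadFormOdd m F₀ w ≠ 0 := by rw [hw]; exact c.ne_zero
        obtain ⟨s, hsi, hsv⟩ := exists_refl hQ₀ hv0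
        obtain ⟨t, hti, htw⟩ := exists_refl hQ₀ hw0
        refine ⟨s * t, mul_mem hsi hti, (spn_mul hQ₀ (iso_le_reflGroup hQ₀ (hex_of_two h20) hsi) hti).2.2
          (by rw [(refl_spn hQ₀ hsi hsv hv0).1, (refl_spn hQ₀ hti htw hw0).1]), ?_⟩
        obtain ⟨R, hR⟩ := D.emb_refl hv0 hsv
        obtain ⟨T, hT⟩ := D.emb_refl hw0 htw
        rw [map_mul, (spn_mul hQ (iso_le_reflGroup hQ (hex_of_two h2) (D.emb_iso hsi)) (D.emb_iso hti)).1,
          (refl_spn hQ (D.emb_iso hsi) R (by rw [hR, hv, map_one, mul_one]; exact hk)).2,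
          (refl_spn hQ (D.emb_iso hti) T (by rw [hT, hw]; exact mul_ne_zero hk ((map_ne_zero j).2 c.ne_zero))).2,
          hR, hT, hv, hw, map_one, mul_one, sqc_mul hk ((map_ne_zero j).2 c.ne_zero), sqc_self_mul_cancel hk, Ne,
          sqc_eq_one_iff ((map_ne_zero j).2 c.ne_zero)]
        exact fun hsq => hc (square_descends hσr hro j hfix hsurj hsq)
      refine ⟨simHom _ (D.phi ⟨u₁, iso_sim hu₁⟩), by rw [inndiag_odd]; exact ⟨_, rfl⟩, D.commutes hs _, ?_⟩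
      rw [← map_inv, ← map_mul]
      have hE := D.emb_iso hu₁
      have hmem := inn_of_omega hQ hn (mul_mem (inv_mem hE) hh) ?_ ?_
      · exact hmem
      · have hinv : spn (Cfsg.quadFormOdd m F) (emb K (Equiv.refl _) j u₁)⁻¹ = spn (Cfsg.quadFormOdd m F) (emb K (Equiv.refl _) j u₁) := by
          have h1 := (spn_mul hQ (iso_le_reflGroup hQ (hex_of_two h2) (inv_mem hE)) hE).1
          rw [inv_mul_cancel, (spn_one hQ).2] at h1
          calc spn _ (emb K (Equiv.refl _) j u₁)⁻¹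
              = spn _ (emb K (Equiv.refl _) j u₁)⁻¹ * (spn (Cfsg.quadFormOdd m F) (emb K (Equiv.refl _) j u₁) *
                  spn _ (emb K (Equiv.refl _) j u₁)) := by rw [sq_sqclass_eq_one, mul_one]
            _ = _ := by rw [← mul_assoc, ← h1, one_mul]
        rw [(spn_mul hQ (iso_le_reflGroup hQ (hex_of_two h2) (inv_mem hE)) hh).1, hinv]
        rcases sqclass_cases h2 hu₁s (spn (Cfsg.quadFormOdd m F) h) with e | e
        · exact absurd e hs1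
        · rw [e, sq_sqclass_eq_one]
      · have h1 := (spn_mul hQ (iso_le_reflGroup hQ (hex_of_two h2) (inv_mem hE)) hE).2
        rw [inv_mul_cancel, (spn_one hQ).1] at h1
        have h3 : Even (wrk (emb K (Equiv.refl _) j u₁)) := (D.emb_parity hn hu₁).1.2 hu₁w
        exact (spn_mul hQ (iso_le_reflGroup hQ (hex_of_two h2) (inv_mem hE)) hh).2.2
          (iff_of_true ((h1.1 Even.zero).2 h3) hev)
  · rw [split_all hle _ ?_, inn_index_odd hm h2]
    intro x hx hc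
    rw [inndiag_odd] at hx
    obtain ⟨g, rfl⟩ := hx
    obtain ⟨u, hu⟩ := D.exists_preimage hn hσr hr.pos hs g hc
    obtain ⟨h, hh, hev, hu'⟩ := odd_factor hQ₀ h20 hodd hn u
    have he : simHom (Cfsg.quadFormOdd m F) (D.phi u) = simHom (Cfsg.quadFormOdd m F) (D.phi ⟨h, iso_sim hh⟩) := by
      refine inv_mul_eq_one.1 ?_
      rw [← map_inv, ← map_mul, ← map_inv, ← map_mul, D.ker_iff hn, map_mul, map_inv, hu', inv_mul_cancel]
    rw [← hu, he]
    obtain ⟨hp1, hp2⟩ := D.emb_parity hn hh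
    refine inn_of_omega hQ hn (D.emb_iso hh) ?_ (hp1.2 hev)
    rw [hp2 fun c _ => sqc_fixed_one (hσr.trans hr2) (hfix c)]
    obtain ⟨t, ht⟩ := hev
    rw [ht, ← two_mul, pow_mul, sq, sq_sqclass_eq_one, one_pow]

end CfsgLib.Orth.FieldCls
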