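import Cfsg.Agent.Lib.Orth.Field.Conj

/-!
# The class of the matrix part decides the type of the rational form
-/

set_option autoImplicit false
set_option linter.all false

namespace CfsgLib.Orth.FieldCls

open scoped Matrix
open Matrix Cfsg.Geo CfsgLib.Orth CfsgLib.Perm.Asch CfsgLib.Perm.Trans CfsgLib.Perm.Trans.Quad

variable {ι : Type} [Fintype ι] [DecidableEq ι] {F : Type*} [Field F]

/-- `σ` applied to a subspace -/
def sgm (σ : F ≃+* F) (U : Submodule F (ι → F)) : Submodule F (ι → F) where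
  carrier := {v | (fun i => σ.symm (v i)) ∈ U}
  add_mem' {x y} hx hy := by
    show (fun i => σ.symm ((x + y) i)) ∈ U
    rw [show (fun i => σ.symm ((x + y) i)) = (fun i => σ.symm (x i)) + fun i => σ.symm (y i) from
      funext fun i => map_add σ.symm _ _]
    exact U.add_mem hx hy
  zero_mem' := by
    show (fun i => σ.symm ((0 : ι → F) i)) ∈ U
    rw [show (fun i => σ.symm ((0 : ι → F) i)) = 0 from funext fun i => map_zero σ.symm]
    exact U.zero_mem
  smul_mem' c x hx := by
    show (fun i => σ.symm ((c • x) i)) ∈ U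
    rw [show (fun i => σ.symm ((c • x) i)) = σ.symm c • fun i => σ.symm (x i) from funext fun i => map_mul σ.symm _ _]
    exact U.smul_mem _ hx

theorem mem_sgm {σ : F ≃+* F} {U : Submodule F (ι → F)} {v : ι → F} :
    v ∈ sgm σ U ↔ (fun i => σ.symm (v i)) ∈ U := Iff.rfl

theorem sgm_mem_iff {σ : F ≃+* F} {U : Submodule F (ι → F)} {v : ι → F} :
    (fun i => σ (v i)) ∈ sgm σ U ↔ v ∈ U := by
  rw [mem_sgm]; simp

theorem sgm_inf (σ : F ≃+* F) (U W : Submodule F (ι → F)) : sgm σ (U ⊓ W) = sgm σ U ⊓ sgm σ W := by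
  ext v; simp [mem_sgm]

theorem sgm_img (σ : F ≃+* F) (g : GL ι F) (U : Submodule F (ι → F)) :
    sgm σ (img g U) = img (fieldGL σ g) (sgm σ U) := by
  ext v
  constructor
  · rintro ⟨w, hw, e⟩
    refine ⟨fun i => σ (w i), sgm_mem_iff.2 hw, ?_⟩
    rw [Matrix.mulVecLin_apply, fieldGL_mulVec]
    funext i
    have := congrFun e i
    rw [Matrix.mulVecLin_apply] at this
    rw [this, σ.apply_symm_apply]
  · rintro ⟨w, hw, rfl⟩
    rw [mem_sgm]
    refine ⟨fun i => σ.symm (w i), hw, ?_⟩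
    rw [Matrix.mulVecLin_apply, Matrix.mulVecLin_apply]
    have h := fieldGL_mulVec σ g (fun i => σ.symm (w i))
    simp only [σ.apply_symm_apply] at h
    rw [h]
    funext i
    exact (σ.symm_apply_apply _).symm

variable [Fintype F]

theorem sgm_finrank (σ : F ≃+* F) (U : Submodule F (ι → F)) :
    Module.finrank F (sgm σ U) = Module.finrank F U := by
  have h : Nat.card (sgm σ U) = Nat.card U := Nat.card_congr
    { toFun := fun v => ⟨fun i => σ.symm (v.1 i), v.2⟩
      invFun := fun v => ⟨fun i => σ (v.1 i), sgm_mem_iff.2 v.2⟩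
      left_inv := fun v => Subtype.ext (funext fun i => σ.apply_symm_apply _)
      right_inv := fun v => Subtype.ext (funext fun i => σ.symm_apply_apply _) }
  rw [Module.natCard_eq_pow_finrank (K := F) (V := sgm σ U), Module.natCard_eq_pow_finrank (K := F) (V := U)] at h
  exact Nat.pow_right_injective (by rw [Nat.card_eq_fintype_card]; exact Fintype.one_lt_card) h

theorem lag_sgm {Q : (ι → F) → F} {σ : F ≃+* F} (hσQ : ∀ v, Q (fun i => σ (v i)) = σ (Q v)) {m : ℕ}
    {U : Submodule F (ι → F)} (hU : IsLag Q m U) : IsLag Q m (sgm σ U) := by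
  refine ⟨by rw [sgm_finrank, hU.1], fun x hx => ?_⟩
  have := hσQ fun i => σ.symm (x i)
  simp only [σ.apply_symm_apply] at this
  rw [this, hU.2 _ hx, map_zero]

/-- the class of the matrix part is the class of the semilinear map -/
theorem pres_semi {Q : (ι → F) → F} (hQ : IsNondegenerateQuadraticForm Q) (hn : 5 ≤ Fintype.card ι) {m : ℕ}
    (hm : Fintype.card ι = m + m) {σ : F ≃+* F} (hσQ : ∀ v, Q (fun i => σ (v i)) = σ (Q v)) {U₀ W : Submodule F (ι → F)}
    (hU : IsLag Q m U₀) (hU0 : sgm σ U₀ = U₀) (hW : IsLag Q m W) {G : GL ι F} {c : F}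
    (hG : ∀ v, Q ((G : Matrix ι ι F) *ᵥ v) = c * Q v) :
    Cfsg.PreservesSingularClasses Q (G : Matrix ι ι F) ↔ Par m W (img G (sgm σ W)) := by
  rw [pres_iff_par hQ hn hm hU hG]
  have hT := lag_img hG (lag_sgm hσQ hW)
  have h1 := par_add hQ hn hm hU hW hT
  have h2 := par_add hQ hn hm hU (lag_img hG hU) hT
  have h3 : Par m (img G U₀) (img G (sgm σ W)) ↔ Par m U₀ W := by
    rw [par_img]
    conv_lhs => rw [← hU0]
    rw [Par, Par, ← sgm_inf, sgm_finrank]
  tauto

theorem std_sgm {m : ℕ} (σ : F ≃+* F) :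
    sgm σ (LinearMap.ker (LinearMap.funLeft F F (Sum.inr : Fin m → Fin m ⊕ Fin m))) =
      LinearMap.ker (LinearMap.funLeft F F (Sum.inr : Fin m → Fin m ⊕ Fin m)) := by
  ext v
  simp only [mem_sgm, LinearMap.mem_ker, funext_iff, LinearMap.funLeft_apply, Pi.zero_apply]
  simp

theorem img_sgm_eq {σ : F ≃+* F} {G K : GL ι F} {a : F} (ha : a ≠ 0)
    (hG : (G : Matrix ι ι F) = a • ((K * (fieldGL σ K)⁻¹ : GL ι F) : Matrix ι ι F)) (W : Submodule F (ι → F)) :
    img G (sgm σ (img K W)) = img K (sgm σ W) := by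
  rw [sgm_img]
  ext v
  have key : ∀ w, (G : Matrix ι ι F) *ᵥ ((fieldGL σ K : Matrix ι ι F) *ᵥ w) = (K : Matrix ι ι F) *ᵥ (a • w) := fun w => by
    rw [hG, smul_mulVec, ← gl_mul_mulVec, inv_mul_cancel_right, mulVec_smul]
  constructor
  · rintro ⟨_, ⟨w, hw, rfl⟩, rfl⟩
    exact ⟨a • w, (sgm σ W).smul_mem a hw, (key w).symm⟩
  · rintro ⟨w, hw, rfl⟩
    refine ⟨_, ⟨a⁻¹ • w, (sgm σ W).smul_mem _ hw, rfl⟩, ?_⟩
    rw [Matrix.mulVecLin_apply, Matrix.mulVecLin_apply, key, smul_smul, mul_inv_cancel₀ ha, one_smul]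
    rfl

variable {k : ℕ}

local notation "I" => (Fin (k + 1) ⊕ Fin (k + 1))

/-- rational plus form: the classes are preserved -/
theorem pres_of_desc_plus (hk : 2 ≤ k) {σ : F ≃+* F} {G : GL I F}
    (hG : G ∈ Cfsg.Geo.quadSimilarityGroup (F := F) (Cfsg.quadFormPlus (k + 1) F))
    (hD : Desc (Cfsg.quadFormPlus (k + 1) F) (Cfsg.quadFormPlus (k + 1) F) σ G) :
    Cfsg.PreservesSingularClasses (Cfsg.quadFormPlus (k + 1) F) (G : Matrix I I F) := by
  obtain ⟨c, hc⟩ := hG
  obtain ⟨K, a, l, ha, hl, hGK, hK⟩ := hD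
  have hW : IsLag (Cfsg.quadFormPlus (k + 1) F) (k + 1)
      (img K (LinearMap.ker (LinearMap.funLeft F F (Sum.inr : Fin (k + 1) → I)))) := by
    refine ⟨by rw [map_gl_finrank, (std_singular (k + 1)).1], ?_⟩
    rintro _ ⟨y, hy, rfl⟩
    rw [Matrix.mulVecLin_apply, hK, (std_singular (k + 1)).2 y hy, mul_zero]
  rw [pres_semi quadFormPlus_nd (by simp; omega) plus_card (quadFormPlus_field σ) (std_singular (k + 1)) (std_sgm σ) hW hc,
    img_sgm_eq ha hGK, std_sgm]
  exact par_self hW.1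

/-- rational minus form: the classes are exchanged -/
theorem not_pres_of_desc_minus (hk : 2 ≤ k) (e : ((Fin k ⊕ Fin k) ⊕ Fin 2) ≃ I) {σ : F ≃+* F} {a b : F}
    (ha : σ a = a) (hb : σ b = b)
    (hab : ∀ z₁ z₂ : F, σ z₁ = z₁ → σ z₂ = z₂ → z₁ ^ 2 + a * z₁ * z₂ + b * z₂ ^ 2 = 0 → z₁ = 0 ∧ z₂ = 0)
    {G : GL I F}
    (hG : G ∈ Cfsg.Geo.quadSimilarityGroup (F := F) (Cfsg.quadFormPlus (k + 1) F))
    (hD : Desc (Cfsg.quadFormPlus (k + 1) F) (reix e (Cfsg.quadFormMinus k F a b)) σ G) :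
    ¬ Cfsg.PreservesSingularClasses (Cfsg.quadFormPlus (k + 1) F) (G : Matrix I I F) := by
  obtain ⟨c, hc⟩ := hG
  obtain ⟨K, α, l, hα, hl, hGK, hK⟩ := hD
  -- the binary part splits over `F`
  obtain ⟨ρ, hρ⟩ : ∃ ρ : F, ρ ^ 2 + a * ρ + b = 0 := by
    by_contra hno
    push Not at hno
    have hanis : ∀ z₁ z₂ : F, z₁ ^ 2 + a * z₁ * z₂ + b * z₂ ^ 2 = 0 → z₁ = 0 ∧ z₂ = 0 := fun z₁ z₂ hz => by
      by_cases h0 : z₂ = 0
      · subst h0; simpa using hz
      · exact absurd (by field_simp; linear_combination hz) (hno (z₁ / z₂))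
    obtain ⟨U, hU⟩ : ∃ U, U = (img K⁻¹ (LinearMap.ker (LinearMap.funLeft F F (Sum.inr : Fin (k + 1) → I)))).map
        (LinearMap.funLeft F F e) := ⟨_, rfl⟩
    have hd : Module.finrank F U = k + 1 := by
      rw [hU, ← (Submodule.equivMapOfInjective _ (LinearMap.funLeft_injective_of_surjective F F e e.surjective) _).finrank_eq,
        map_gl_finrank, (std_singular (k + 1)).1]
    have h1 := Aut.minus_ts_finrank_le a b hanis (U := U) (by
      rw [hU]
      rintro _ ⟨_, ⟨y, hy, rfl⟩, rfl⟩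
      have h2 := hK (((K⁻¹ : GL I F) : Matrix I I F) *ᵥ y)
      rw [gl_mulVec_inv, (std_singular (k + 1)).2 y hy] at h2
      exact (mul_eq_zero.1 h2.symm).resolve_left hl)
    omega
  have hρσ : σ ρ ≠ ρ := fun h => one_ne_zero (hab ρ 1 h (map_one σ) (by linear_combination hρ)).2
  -- a half-dimensional subspace of the rational form meeting its image in codimension one
  let em : (Fin k → F) × F →ₗ[F] (I → F) :=
    { toFun := fun p => fun i => Sum.elim (Sum.elim p.1 0) ![ρ * p.2, p.2] (e.symm i)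
      map_add' := fun p q => by
        funext i
        simp only [Pi.add_apply, Prod.fst_add, Prod.snd_add]
        rcases e.symm i with (j | j) | j <;> [skip; skip; fin_cases j] <;> simp [mul_add]
      map_smul' := fun t p => by
        funext i
        show _ = _
        simp only [Pi.smul_apply, smul_eq_mul, RingHom.id_apply]
        rcases e.symm i with (j | j) | j <;> [skip; skip; fin_cases j] <;> simp [mul_left_comm] }
  have hem : Function.Injective em := fun p q h => Prod.ext (funext fun i => by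
    simpa [em] using congrFun h (e (Sum.inl (Sum.inl i)))) (by simpa [em] using congrFun h (e (Sum.inr 1)))
  obtain ⟨X, hX⟩ : ∃ X, X = LinearMap.range em := ⟨_, rfl⟩
  have hXl : IsLag (reix e (Cfsg.quadFormMinus k F a b)) (k + 1) X := by
    refine ⟨by rw [hX, LinearMap.finrank_range_of_inj hem, Module.finrank_prod, Module.finrank_fintype_fun_eq_card,
      Fintype.card_fin, Module.finrank_self], ?_⟩
    rw [hX]
    rintro _ ⟨p, rfl⟩
    simp [em, reix, Cfsg.quadFormMinus]
    linear_combination p.2 ^ 2 * hρ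
  have hint : Module.finrank F ↥(X ⊓ sgm σ X) = k := by
    have e1 : X ⊓ sgm σ X = LinearMap.range (em.comp (LinearMap.inl F (Fin k → F) F)) := by
      ext v
      constructor
      · rintro ⟨h1, h2⟩
        rw [hX] at h1
        obtain ⟨p, rfl⟩ := h1
        rw [SetLike.mem_coe, mem_sgm, hX] at h2
        obtain ⟨q, hq⟩ := h2
        have q1 : σ.symm p.2 = q.2 := by simpa [em] using (congrFun hq (e (Sum.inr 1))).symm
        have q0 : σ.symm (ρ * p.2) = ρ * q.2 := by simpa [em] using (congrFun hq (e (Sum.inr 0))).symm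
        have hp : p.2 = 0 := by
          by_contra hne
          have h3 : σ (σ.symm (ρ * p.2)) = σ (ρ * σ.symm p.2) := by rw [q0, q1]
          rw [σ.apply_symm_apply, map_mul, σ.apply_symm_apply] at h3
          exact hρσ (mul_right_cancel₀ hne h3).symm
        refine ⟨p.1, ?_⟩
        show em (p.1, 0) = em p
        rw [show (p.1, (0 : F)) = p from Prod.ext rfl hp.symm]
      · rintro ⟨p, rfl⟩
        refine ⟨hX ▸ ⟨_, rfl⟩, ?_⟩
        rw [SetLike.mem_coe, mem_sgm, hX]
        refine ⟨(fun i => σ.symm (p i), 0), funext fun i => ?_⟩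
        obtain ⟨j, rfl⟩ := e.surjective i
        rcases j with (j | j) | j <;> [skip; skip; fin_cases j] <;> simp [em]
    rw [e1, LinearMap.finrank_range_of_inj (f := em.comp (LinearMap.inl F (Fin k → F) F))
      (hem.comp LinearMap.inl_injective), Module.finrank_fintype_fun_eq_card,
      Fintype.card_fin]
  have hW : IsLag (Cfsg.quadFormPlus (k + 1) F) (k + 1) (img K X) := by
    refine ⟨by rw [map_gl_finrank, hXl.1], ?_⟩
    rintro _ ⟨y, hy, rfl⟩
    rw [Matrix.mulVecLin_apply, hK, hXl.2 y hy, mul_zero]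
  rw [pres_semi quadFormPlus_nd (by simp; omega) plus_card (quadFormPlus_field σ) (std_singular (k + 1)) (std_sgm σ) hW hc,
    img_sgm_eq hα hGK, par_img, Par, hint, Nat.add_sub_cancel_left]
  exact Nat.not_even_one

end CfsgLib.Orth.FieldCls
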