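import Cfsg.Agent.Lib.Orth.Field.CentEven
import Cfsg.Agent.Lib.Orth.Field.PlusType

/-!
# Centraliser and splitting in the plus type group
-/

set_option autoImplicit false
set_option linter.all false

namespace CfsgLib.Orth.FieldCls

open scoped Matrix
open Matrix Cfsg.Geo CfsgLib.Orth CfsgLib.Perm.Asch CfsgLib.Perm.Trans CfsgLib.Perm.Trans.Quad

universe u v

/-- squareness of a square root of a non-square of the fixed field -/
theorem root_square {F : Type*} [Field F] [Fintype F] {F₀ : Type*} [Field F₀] [Fintype F₀] {σ : F ≃+* F}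
    (hr : orderOf (σ : RingAut F) = 2) (j : F₀ →+* F) (hfix : ∀ c, σ (j c) = j c)
    (hsurj : ∀ x, σ x = x → ∃ c, j c = x) {c₀ : F₀} (hc : ¬ IsSquare c₀) {z : F} (hz : z * σ z = j c₀) :
    ¬ IsSquare z ∧ ∀ t : F, t * t = j c₀ → (IsSquare t ↔ Fintype.card F₀ % 4 = 3) := by
  have hσσ : ∀ x, σ (σ x) = x := fun x => by
    have h := pow_orderOf_eq_one (σ : RingAut F)
    rw [hr, sq] at h
    exact DFunLike.congr_fun h x
  have hN : ∀ s : F, ∃ d : F₀, j d = s * σ s := fun s => hsurj _ (by rw [map_mul, hσσ, mul_comm])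
  have hzsq : ¬ IsSquare z := by
    rintro ⟨s, rfl⟩
    obtain ⟨d, hd⟩ := hN s
    exact hc ⟨d, j.injective (by rw [map_mul, hd, ← hz, map_mul]; ring)⟩
  refine ⟨hzsq, fun t ht => ?_⟩
  have hc0 : c₀ ≠ 0 := fun e => hc (e ▸ IsSquare.zero)
  have hjc : j c₀ ≠ 0 := (map_ne_zero j).2 hc0
  have ht0 : t ≠ 0 := fun e => hjc (by rw [← ht, e, mul_zero])
  have hst : σ t = -t := by
    rcases mul_self_eq_mul_self_iff.1 (show σ t * σ t = t * t by rw [← map_mul, ht, hfix]) with e | e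
    · obtain ⟨d, rfl⟩ := hsurj t e
      exact absurd ⟨d, j.injective (by rw [map_mul, ht])⟩ hc
    · exact e
  have key : IsSquare (-1 : F₀) ↔ ¬ IsSquare t := by
    constructor
    · rintro ⟨i, hi⟩ ⟨s, hs⟩
      obtain ⟨d, hd⟩ := hN s
      refine hc ⟨i * d, j.injective ?_⟩
      have h1 : -j c₀ = j d * j d := by
        rw [hd, ← ht, show -(t * t) = t * σ t by rw [hst]; ring, hs, map_mul]; ring
      have h2 : j i * j i = -1 := by rw [← map_mul, ← hi, map_neg, map_one]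
      rw [map_mul, map_mul]
      linear_combination -h1 - (j d * j d) * h2
    · intro htns
      have hz0 : z ≠ 0 := fun e => hjc (by rw [← hz, e, zero_mul])
      have hts : IsSquare (t * z) := by
        rw [← sqc_eq_one_iff (mul_ne_zero ht0 hz0), sqc_mul ht0 hz0]
        rcases sqc_dichotomy hzsq ht0 with e | e
        · exact absurd ((sqc_eq_one_iff ht0).1 e) htns
        · rw [e, sqc_mul_self hz0]
      obtain ⟨s, hs⟩ := hts
      obtain ⟨d, hd⟩ := hN s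
      refine ⟨d / c₀, j.injective ?_⟩
      rw [map_mul, map_div₀, map_neg, map_one, hd]
      have h1 : -(j c₀ * j c₀) = (s * σ s) * (s * σ s) := by
        have h2 := congrArg σ hs
        rw [map_mul, map_mul, hst] at h2
        calc -(j c₀ * j c₀) = -((t * t) * (z * σ z)) := by rw [ht, hz]
          _ = (t * z) * (-t * σ z) := by ring
          _ = (s * s) * (σ s * σ s) := by rw [hs, h2]
          _ = _ := by ring
      field_simp
      linear_combination h1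
  rw [← not_iff_not, ← key, FiniteField.isSquare_neg_one_iff]

variable {F : Type u} [Field F] [Fintype F] {F₀ : Type v} [Field F₀] [Fintype F₀]

/-- `diag(c, 1)` -/
def dmat {k : ℕ} {R : Type*} [Field R] (c : R) : Matrix (Fin k ⊕ Fin k) (Fin k ⊕ Fin k) R :=
  Matrix.diagonal (Sum.elim (fun _ => c) fun _ => 1)

theorem exists_dsim {k : ℕ} {R : Type*} [Field R] (c : Rˣ) : ∃ s : GL (Fin k ⊕ Fin k) R,
    (s : Matrix (Fin k ⊕ Fin k) (Fin k ⊕ Fin k) R) = dmat (c : R) ∧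
    ∀ v, Cfsg.quadFormPlus k R ((s : Matrix (Fin k ⊕ Fin k) (Fin k ⊕ Fin k) R) *ᵥ v) = (c : R) * Cfsg.quadFormPlus k R v := by
  have hd : (dmat (k := k) (c : R)).det ≠ 0 := by
    rw [dmat, Matrix.det_diagonal, Fintype.prod_sum_type]; simp
  obtain ⟨s, hs⟩ : ∃ s : GL (Fin k ⊕ Fin k) R, (s : Matrix (Fin k ⊕ Fin k) (Fin k ⊕ Fin k) R) = dmat (c : R) :=
    ⟨Matrix.GeneralLinearGroup.mkOfDetNeZero _ hd, rfl⟩
  refine ⟨s, hs, fun v => ?_⟩
  simp only [Cfsg.quadFormPlus, hs, dmat, Matrix.mulVec_diagonal, Sum.elim_inl, Sum.elim_inr, Finset.mul_sum]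
  exact Finset.sum_congr rfl fun i _ => by ring

theorem dmat_pres {R : Type*} [Field R] [Fintype R] {m : ℕ} (hm : 3 ≤ m) (c : R) (s : GL (Fin m ⊕ Fin m) R)
    (hv : ∀ v, Cfsg.quadFormPlus m R ((s : Matrix (Fin m ⊕ Fin m) (Fin m ⊕ Fin m) R) *ᵥ v) = c * Cfsg.quadFormPlus m R v)
    (hs : (s : Matrix (Fin m ⊕ Fin m) (Fin m ⊕ Fin m) R) = dmat c) :
    Cfsg.PreservesSingularClasses (Cfsg.quadFormPlus m R) (s : Matrix (Fin m ⊕ Fin m) (Fin m ⊕ Fin m) R) := by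
  have hn : 5 ≤ Fintype.card (Fin m ⊕ Fin m) := by simp; omega
  rw [pres_iff_par quadFormPlus_nd hn plus_card (plus_lag (F := R)) hv]
  have e : img s (LinearMap.ker (LinearMap.funLeft R R (Sum.inr : Fin m → Fin m ⊕ Fin m))) =
      LinearMap.ker (LinearMap.funLeft R R (Sum.inr : Fin m → Fin m ⊕ Fin m)) := by
    refine Submodule.eq_of_le_of_finrank_eq ?_ (map_gl_finrank s _)
    rintro _ ⟨x, hx, rfl⟩
    refine funext fun i => ?_
    show ((s : Matrix (Fin m ⊕ Fin m) (Fin m ⊕ Fin m) R) *ᵥ x) (Sum.inr i) = 0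
    rw [hs, dmat, Matrix.mulVec_diagonal, show x (Sum.inr i) = 0 from congrFun hx i, mul_zero]
  rw [e]
  exact par_self (plus_lag (F := R)).1

/-- the classes over the bigger field -/
theorem plus_ext {m : ℕ} (hm : 3 ≤ m) (j : F₀ →+* F)
    (u : ↥(Cfsg.Geo.quadSimilarityGroup (F := F₀) (Cfsg.quadFormPlus m F₀))) :
    Cfsg.PreservesSingularClasses (Cfsg.quadFormPlus m F)
        ((Matrix.GeneralLinearGroup.map j u.1 : GL (Fin m ⊕ Fin m) F) : Matrix (Fin m ⊕ Fin m) (Fin m ⊕ Fin m) F) ↔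
      Cfsg.PreservesSingularClasses (Cfsg.quadFormPlus m F₀) (u.1 : Matrix (Fin m ⊕ Fin m) (Fin m ⊕ Fin m) F₀) := by
  obtain ⟨c, hc⟩ := u.2
  obtain ⟨s, hs, hsv⟩ := exists_dsim (k := m) c
  have hh : s⁻¹ * u.1 ∈ Cfsg.isometryGroup F₀ (Cfsg.quadFormPlus m F₀) := mem_iso.2 fun v => by
    have h1 := hsv (((s⁻¹ * u.1 : GL (Fin m ⊕ Fin m) F₀) : Matrix (Fin m ⊕ Fin m) (Fin m ⊕ Fin m) F₀) *ᵥ v)
    rw [← gl_mul_mulVec, mul_inv_cancel_left, hc] at h1
    exact (mul_left_cancel₀ c.ne_zero h1).symm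
  have hn : 5 ≤ Fintype.card (Fin m ⊕ Fin m) := by simp; omega
  have h0 := dmat_pres hm (c : F₀) s hsv hs
  have hjs : ((Matrix.GeneralLinearGroup.map j s : GL (Fin m ⊕ Fin m) F) : Matrix (Fin m ⊕ Fin m) (Fin m ⊕ Fin m) F) = dmat (j c) := by
    show (s : Matrix (Fin m ⊕ Fin m) (Fin m ⊕ Fin m) F₀).map j = _
    rw [hs, dmat, dmat, Matrix.diagonal_map (map_zero j)]
    congr 1
    funext i
    rcases i with i | i <;> simp
  have hjv := rel_map j (quadFormPlus_nd (F := F) (m := m)) (quadFormPlus_nd (F := F) (m := m))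
    (fun x => by simp [Cfsg.quadFormPlus, map_sum]) (fun x => by simp [Cfsg.quadFormPlus, map_sum]) hsv
  have h1 := dmat_pres hm (j c) (Matrix.GeneralLinearGroup.map j s) hjv hjs
  obtain ⟨hi, hp⟩ := wrk_map j (quadFormPlus_nd (F := F₀) (m := m)) (quadFormPlus_nd (F := F) (m := m))
    (fun x => by simp [Cfsg.quadFormPlus, map_sum]) hn hh
  have e : u.1 = s * (s⁻¹ * u.1) := (mul_inv_cancel_left _ _).symm
  rw [e, map_mul, pres_mul quadFormPlus_nd hn plus_card (plus_lag (F := F)) hjv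
      (d := 1) (fun v => by rw [one_mul, mem_iso.1 hi]),
    pres_mul quadFormPlus_nd hn plus_card (plus_lag (F := F₀)) hsv (d := 1) (fun v => by rw [one_mul, mem_iso.1 hh]),
    iff_true_left h1, iff_true_left h0, pres_iso_iff quadFormPlus_nd hn plus_card (plus_lag (F := F)) hi,
    pres_iso_iff quadFormPlus_nd hn plus_card (plus_lag (F := F₀)) hh, hp]

/-- a scalar multiple of a conjugated Levi element, and its class modulo inner automorphisms -/
theorem levi_class {m : ℕ} (hm : 3 ≤ m) (h2 : (2 : F) ≠ 0) (hneg : spn (Cfsg.quadFormPlus m F) (-1 : GL (Fin m ⊕ Fin m) F) = 1)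
    {K : GL (Fin m ⊕ Fin m) F} {k : F} (hk : k ≠ 0)
    (hK : ∀ v, Cfsg.quadFormPlus m F ((K : Matrix (Fin m ⊕ Fin m) (Fin m ⊕ Fin m) F) *ᵥ v) = k * Cfsg.quadFormPlus m F v)
    (A : GL (Fin m) F) {t : F} {g : ↥(Cfsg.Geo.quadSimilarityGroup (F := F) (Cfsg.quadFormPlus m F))}
    (hg : (g.1 : Matrix (Fin m ⊕ Fin m) (Fin m ⊕ Fin m) F) =
      t • ((K * levi A * K⁻¹ : GL (Fin m ⊕ Fin m) F) : Matrix (Fin m ⊕ Fin m) (Fin m ⊕ Fin m) F)) :
    simHom (Cfsg.quadFormPlus m F) g ∈ Cfsg.Inn (Cfsg.POmega F (Cfsg.quadFormPlus m F)) ↔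
      IsSquare (A : Matrix (Fin m) (Fin m) F).det := by
  have hQ : IsNondegenerateQuadraticForm (Cfsg.quadFormPlus m F) := quadFormPlus_nd
  have hn : 5 ≤ Fintype.card (Fin m ⊕ Fin m) := by simp; omega
  obtain ⟨hs, hev⟩ := levi_invariants (F := F) (m := m) (Or.inr (by omega)) A
  obtain ⟨hi, hp, hsp⟩ := spn_map hQ hQ hn hk hK (levi_mem A)
  rw [simHom_scalar_mul hQ hn (h := ⟨_, iso_sim hi⟩) hg, mem_inn_iff hQ hn h2 plus_card hi, hneg, or_self, hsp hev, hs,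
    sqc_eq_one_iff (gl_det_ne A), det_eq_one_iff hQ h2 hi, hp]
  simp [hev]

/-- the order of the outer diagonal group -/
theorem plus_index {m : ℕ} (hm : 3 ≤ m) (h2 : (2 : F) ≠ 0)
    (hneg : spn (Cfsg.quadFormPlus m F) (-1 : GL (Fin m ⊕ Fin m) F) = 1) :
    (Cfsg.Inn (Cfsg.POmega F (Cfsg.quadFormPlus m F))).relIndex (Cfsg.inndiagPOmegaPlus m F) = 4 := by
  have hQ : IsNondegenerateQuadraticForm (Cfsg.quadFormPlus m F) := quadFormPlus_nd
  have hn : 5 ≤ Fintype.card (Fin m ⊕ Fin m) := by simp; omega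
  rw [inndiag_plus_eq (by omega) h2, ← Subgroup.relIndex_mul_relIndex _ (Cfsg.psoAut F (Cfsg.quadFormPlus m F)) _
    (inn_le_psoAut hQ hn h2) (psoAut_le_diagSub hQ hn plus_card), relIndex_inn_pso hQ hn h2 plus_card hneg,
    relIndex_pso_diag hQ hn h2 plus_card (hsim_plus (by omega) h2)]

theorem inn_le_plus {m : ℕ} (hm : 3 ≤ m) :
    Cfsg.Inn (Cfsg.POmega F (Cfsg.quadFormPlus m F)) ≤ Cfsg.inndiagPOmegaPlus m F := by
  have hQ : IsNondegenerateQuadraticForm (Cfsg.quadFormPlus m F) := quadFormPlus_nd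
  have hn : 5 ≤ Fintype.card (Fin m ⊕ Fin m) := by simp; omega
  intro β hβ
  rw [inn_eq] at hβ
  obtain ⟨g, ⟨w, hw, hwg⟩, rfl⟩ := hβ
  refine (simHom_mem_plus hm g).2 ?_
  rw [show g.1 = w.1 from hwg.symm, pres_iso_iff hQ hn plus_card plus_lag w.2]
  exact ((mem_omega_iff hQ (by omega) (Or.inr (by omega)) w).1 hw).2

/-- `-1` lies in `Omega` over a field with a square number of elements -/
theorem spn_neg_plus_sq {m : ℕ} (hm : 3 ≤ m) {σ : F ≃+* F} (hr : orderOf (σ : RingAut F) = 2) (h2 : (2 : F) ≠ 0) :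
    spn (Cfsg.quadFormPlus m F) (-1 : GL (Fin m ⊕ Fin m) F) = 1 := by
  have hodd : Odd (Fintype.card F) := by
    rw [Nat.odd_iff]
    exact FiniteField.odd_card_of_char_ne_two fun h => h2 (by
      haveI := ringChar.charP F
      haveI : CharP F 2 := CharP.congr (ringChar F) h
      exact CharTwo.two_eq_zero)
  refine (spn_neg_one_plus hodd hm).2 fun ⟨_, h3⟩ => ?_
  have h := Descent.card_fixedField_pow (σ : RingAut F)
  rw [hr] at h
  rw [← h, Nat.pow_mod] at h3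
  have h4 := Nat.mod_lt (Nat.card (Descent.fixedField (σ : RingAut F))) (show 0 < 4 by norm_num)
  interval_cases (Nat.card (Descent.fixedField (σ : RingAut F)) % 4) <;> simp at h3

variable {k : ℕ}

local notation "I" => (Fin (k + 1) ⊕ Fin (k + 1))

theorem plus_model_facts (hk : 2 ≤ k) {κ : Type} [Fintype κ] [DecidableEq κ] {σ : F ≃+* F} {G K : GL I F} {e : κ ≃ I}
    {j : F₀ →+* F} {S₀ : (κ → F₀) → F₀} {S : (κ → F) → F} {a l : F}
    (D : Model (Cfsg.quadFormPlus (k + 1) F) σ G e j S₀ S K a l) {P₀ : ↥(Cfsg.Geo.quadSimilarityGroup (F := F₀) S₀) → Prop}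
    {H₀ : Subgroup (MulAut (Cfsg.POmega F₀ S₀))}
    (hH₀ : ∀ β, β ∈ H₀ ↔ ∃ u, P₀ u ∧ simHom S₀ u = β)
    (hmem₀ : ∀ u, simHom S₀ u ∈ H₀ ↔ P₀ u)
    (hP : ∀ u, Cfsg.PreservesSingularClasses (Cfsg.quadFormPlus (k + 1) F) ((D.phi u).1 : Matrix I I F) ↔ P₀ u)
    (hsim₀ : ∀ c : F₀ˣ, ∃ u, P₀ u ∧ ∀ x, S₀ ((u.1 : Matrix κ κ F₀) *ᵥ x) = (c : F₀) * S₀ x)
    {r : ℕ} (hr : r.Prime) (hσr : orderOf (σ : RingAut F) = r)
    (hs : Cfsg.IsSemisimilarityPair (Cfsg.quadFormPlus (k + 1) F) G σ) :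
    Nonempty (↥(Cfsg.inndiagPOmegaPlus (k + 1) F ⊓ Subgroup.centralizer {ind hs}) ≃* ↥H₀) ∧
    ((Odd r ∨ (2 : F) = 0) → Cfsg.splitClassCount (Cfsg.inndiagPOmegaPlus (k + 1) F)
      (Cfsg.Inn (Cfsg.POmega F (Cfsg.quadFormPlus (k + 1) F))) (ind hs) = 1) ∧
    (r = 2 → (2 : F) ≠ 0 → ∀ (c₀ : F₀) (u : ↥(Cfsg.Geo.quadSimilarityGroup (F := F₀) S₀)), ¬ IsSquare c₀ → P₀ u →
      (∀ x, S₀ ((u.1 : Matrix κ κ F₀) *ᵥ x) = c₀ * S₀ x) →
      ((simHom (Cfsg.quadFormPlus (k + 1) F) (D.phi u) ∈ Cfsg.Inn (Cfsg.POmega F (Cfsg.quadFormPlus (k + 1) F)) →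
          Cfsg.splitClassCount (Cfsg.inndiagPOmegaPlus (k + 1) F)
            (Cfsg.Inn (Cfsg.POmega F (Cfsg.quadFormPlus (k + 1) F))) (ind hs) = 4) ∧
        (simHom (Cfsg.quadFormPlus (k + 1) F) (D.phi u) ∉ Cfsg.Inn (Cfsg.POmega F (Cfsg.quadFormPlus (k + 1) F)) →
          Cfsg.splitClassCount (Cfsg.inndiagPOmegaPlus (k + 1) F)
            (Cfsg.Inn (Cfsg.POmega F (Cfsg.quadFormPlus (k + 1) F))) (ind hs) = 2))) := by
  have hm : 3 ≤ k + 1 := by omega
  have hn : 5 ≤ Fintype.card I := by simp; omega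
  haveI := inn_normal (Cfsg.POmega F (Cfsg.quadFormPlus (k + 1) F))
  have hiso : ∀ (h : GL I F) (hh : h ∈ Cfsg.isometryGroup F (Cfsg.quadFormPlus (k + 1) F)),
      Cfsg.PreservesSingularClasses (Cfsg.quadFormPlus (k + 1) F)
        ((⟨h, iso_sim hh⟩ : ↥(Cfsg.Geo.quadSimilarityGroup (F := F) (Cfsg.quadFormPlus (k + 1) F))).1 : Matrix I I F) ↔
      Even (wrk h) := fun h hh => pres_iso_iff quadFormPlus_nd hn plus_card plus_lag hh
  refine ⟨D.cent_equiv hn hσr hr.pos hs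
    (fun β hβ => by obtain ⟨g, -, rfl⟩ := (inndiag_plus hm).1 hβ; exact ⟨g, rfl⟩)
    (fun β hβ => by obtain ⟨u, -, rfl⟩ := (hH₀ β).1 hβ; exact ⟨u, rfl⟩)
    (fun u => by rw [simHom_mem_plus hm, hmem₀]; exact hP u), fun h => ?_, fun hr2 h2 c₀ u hc hu huv => ?_⟩
  · refine split_one (inn_le_plus hm) _ (D.cover hn (plus_mul hm) (plus_scalar hm) hiso (fun β => inndiag_plus hm) hs
      (fun c => ?_) fun h2 => ?_)
    · obtain ⟨u, hu, huv⟩ := hsim₀ c
      exact ⟨u, (hP u).2 hu, fun v => D.emb_sim huv v⟩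
    · have hro : Odd r := h.resolve_right h2
      obtain ⟨c, hc⟩ := exists_nonsquare_unit (F := F₀) (fun e => h2 (by rw [← map_ofNat j 2, e, map_zero]))
      exact ⟨c, fun hsq => hc (square_descends hσr hro j D.fix D.surj hsq)⟩
  · have h20 : (2 : F₀) ≠ 0 := fun e => h2 (by rw [← map_ofNat j 2, e, map_zero])
    have hidx := plus_index (F := F) hm h2 (spn_neg_plus_sq hm (hσr.trans hr2) h2)
    obtain ⟨g1, g2, g3⟩ := D.cover_two hn (hσr.trans hr2) (plus_mul hm) (plus_scalar hm) hiso (fun β => inndiag_plus hm)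
      hs h20 hc ((hP u).2 hu) huv
    refine ⟨fun hin => ?_, fun hnin => ?_⟩
    · rw [split_all (inn_le_plus hm) _ ?_, hidx]
      intro c hcH hcx
      rcases g3 c hcH hcx with e' | e'
      · exact e'
      · simpa using mul_mem hin e'
    · have := split_half (inn_le_plus hm) _ _ g1 g2 hnin g3
      omega

/-- field automorphisms of the plus type group -/
theorem plus_field_cent (hk : 2 ≤ k) {σ : F ≃+* F} {r : ℕ} (hr : r.Prime) (hσr : orderOf (σ : RingAut F) = r)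
    {G : GL I F} (hs : Cfsg.IsSemisimilarityPair (Cfsg.quadFormPlus (k + 1) F) G σ) (hord : ind hs ^ r = 1)
    (hpres : Cfsg.PreservesSingularClasses (Cfsg.quadFormPlus (k + 1) F) (G : Matrix I I F))
    (j : F₀ →+* F) (hfix : ∀ c, σ (j c) = j c) (hsurj : ∀ x, σ x = x → ∃ c, j c = x) :
    Nonempty (↥(Cfsg.inndiagPOmegaPlus (k + 1) F ⊓ Subgroup.centralizer {ind hs}) ≃* ↥(Cfsg.inndiagPOmegaPlus (k + 1) F₀)) ∧
    ((Odd r ∨ (2 : F) = 0) → Cfsg.splitClassCount (Cfsg.inndiagPOmegaPlus (k + 1) F)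
      (Cfsg.Inn (Cfsg.POmega F (Cfsg.quadFormPlus (k + 1) F))) (ind hs) = 1) ∧
    (r = 2 → (2 : F) ≠ 0 → Odd (k + 1) ∧ Fintype.card F₀ % 4 = 1 → Cfsg.splitClassCount (Cfsg.inndiagPOmegaPlus (k + 1) F)
      (Cfsg.Inn (Cfsg.POmega F (Cfsg.quadFormPlus (k + 1) F))) (ind hs) = 2) ∧
    (r = 2 → (2 : F) ≠ 0 → ¬ (Odd (k + 1) ∧ Fintype.card F₀ % 4 = 1) → Cfsg.splitClassCount (Cfsg.inndiagPOmegaPlus (k + 1) F)
      (Cfsg.Inn (Cfsg.POmega F (Cfsg.quadFormPlus (k + 1) F))) (ind hs) = 4) := by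
  have hm : 3 ≤ k + 1 := by omega
  have hn : 5 ≤ Fintype.card I := by simp; omega
  have hQ : IsNondegenerateQuadraticForm (Cfsg.quadFormPlus (k + 1) F) := quadFormPlus_nd
  obtain ⟨a', b', ha', hb', hab'⟩ : ∃ a b : F, σ a = a ∧ σ b = b ∧
      ∀ z₁ z₂ : F, σ z₁ = z₁ → σ z₂ = z₂ → z₁ ^ 2 + a * z₁ * z₂ + b * z₂ ^ 2 = 0 → z₁ = 0 ∧ z₂ = 0 := by
    obtain ⟨a, b, hab⟩ := exists_aniso F₀
    refine ⟨j a, j b, hfix a, hfix b, fun z₁ z₂ h1 h2 hz => ?_⟩
    obtain ⟨x, rfl⟩ := hsurj z₁ h1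
    obtain ⟨y, rfl⟩ := hsurj z₂ h2
    obtain ⟨e1, e2⟩ := hab x y (j.injective (by rw [map_zero, ← hz]; simp))
    exact ⟨by rw [e1, map_zero], by rw [e2, map_zero]⟩
  obtain ⟨e⟩ := exists_reindex k
  have hGs := sim_of_semisim (quadFormPlus_field σ) hs
  rcases desc_plus hk e hσr hr.pos ha' hb' hab' hs hord with hD | hD
  swap
  · exact absurd hpres (not_pres_of_desc_minus hk e ha' hb' hab' hGs hD)
  obtain ⟨K, a, l, ha, hl, hGK, hK⟩ := hD
  have D : Model (Cfsg.quadFormPlus (k + 1) F) σ G (Equiv.refl I) j (Cfsg.quadFormPlus (k + 1) F₀)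
      (Cfsg.quadFormPlus (k + 1) F) K a l :=
    ⟨hQ, quadFormPlus_nd, hQ, fun x => by simp [Cfsg.quadFormPlus, map_sum], hfix, hsurj, ha, hl, hGK, hK⟩
  have hP : ∀ u, Cfsg.PreservesSingularClasses (Cfsg.quadFormPlus (k + 1) F) ((D.phi u).1 : Matrix I I F) ↔
      Cfsg.PreservesSingularClasses (Cfsg.quadFormPlus (k + 1) F₀) (u.1 : Matrix I I F₀) := fun u => by
    obtain ⟨c, hc⟩ := u.2
    rw [Model.phi_val, emb_apply, show reGL (Equiv.refl I) (Matrix.GeneralLinearGroup.map j u.1) = Matrix.GeneralLinearGroup.map j u.1 from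
      Units.ext (by ext a b; rfl)]
    rw [pres_transport hQ hQ hn plus_card plus_lag hK (g := Matrix.GeneralLinearGroup.map j u.1)
      (rel_map j hQ hQ (fun x => by simp [Cfsg.quadFormPlus, map_sum]) (fun x => by simp [Cfsg.quadFormPlus, map_sum]) hc)]
    exact plus_ext hm j u
  obtain ⟨f1, f2, f3⟩ := plus_model_facts hk D (fun β => inndiag_plus hm) (simHom_mem_plus hm) hP (fun c => by
    obtain ⟨s, hs', hsv⟩ := exists_dsim (k := k + 1) c
    exact ⟨⟨s, c, hsv⟩, dmat_pres hm (c : F₀) s hsv hs', hsv⟩) hr hσr hs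
  refine ⟨f1, f2, ?_⟩
  have main : r = 2 → (2 : F) ≠ 0 → Cfsg.splitClassCount (Cfsg.inndiagPOmegaPlus (k + 1) F)
      (Cfsg.Inn (Cfsg.POmega F (Cfsg.quadFormPlus (k + 1) F))) (ind hs) =
      if Odd (k + 1) ∧ Fintype.card F₀ % 4 = 1 then 2 else 4 := by
    intro hr2 h2
    have h20 : (2 : F₀) ≠ 0 := fun e => h2 (by rw [← map_ofNat j 2, e, map_zero])
    obtain ⟨c, hc⟩ := exists_nonsquare_unit (F := F₀) h20
    obtain ⟨s, hs', hsv⟩ := exists_dsim (k := k + 1) c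
    have hsP : Cfsg.PreservesSingularClasses (Cfsg.quadFormPlus (k + 1) F₀) (s : Matrix I I F₀) :=
      dmat_pres hm (c : F₀) s hsv hs'
    obtain ⟨f4, f5⟩ := f3 hr2 h2 c ⟨s, c, hsv⟩ hc hsP hsv
    obtain ⟨t, ht⟩ := (sqc_eq_one_iff ((map_ne_zero j).2 c.ne_zero)).1 (sqc_fixed_one (hσr.trans hr2) (hfix c))
    have ht0 : t ≠ 0 := fun e => c.ne_zero (j.injective (by rw [ht, e, mul_zero, map_zero]))
    obtain ⟨A, hA⟩ : ∃ A : GL (Fin (k + 1)) F, A = Units.map (Matrix.scalar (Fin (k + 1))).toMonoidHom (Units.mk0 t ht0) :=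
      ⟨_, rfl⟩
    have hAc : (A : Matrix (Fin (k + 1)) (Fin (k + 1)) F) = Matrix.diagonal fun _ => t := by rw [hA]; rfl
    have hAi : ((A⁻¹ : GL (Fin (k + 1)) F) : Matrix (Fin (k + 1)) (Fin (k + 1)) F) = Matrix.diagonal fun _ => t⁻¹ := by
      rw [hA, ← map_inv, show (Units.mk0 t ht0)⁻¹ = Units.mk0 t⁻¹ (inv_ne_zero ht0) from Units.ext (by simp)]; rfl
    have hmat : ((D.phi ⟨s, c, hsv⟩).1 : Matrix I I F) = t • ((K * levi A * K⁻¹ : GL I F) : Matrix I I F) := by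
      have e0 : ((Matrix.GeneralLinearGroup.map j s : GL I F) : Matrix I I F) = t • ((levi A : GL I F) : Matrix I I F) := by
        show (s : Matrix I I F₀).map j = _
        rw [hs', dmat, levi_coe, hAc, hAi, Matrix.diagonal_transpose, Matrix.fromBlocks_diagonal, Matrix.diagonal_map (map_zero j),
          ← Matrix.diagonal_smul]
        congr 1
        funext i
        rcases i with i | i <;> simp [ht, mul_inv_cancel₀ ht0]
      rw [Model.phi_val, emb_apply, show reGL (Equiv.refl I) (Matrix.GeneralLinearGroup.map j s) = Matrix.GeneralLinearGroup.map j s from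
        Units.ext (by ext a b; rfl), Units.val_mul, Units.val_mul, e0, mul_smul_comm, smul_mul_assoc, ← Units.val_mul, ← Units.val_mul]
    have hiff := levi_class hm h2 (spn_neg_plus_sq hm (hσr.trans hr2) h2) hl hK A hmat
    rw [hAc, Matrix.det_diagonal, Finset.prod_const, Finset.card_univ, Fintype.card_fin] at hiff
    obtain ⟨z, hz, hzN⟩ : ∃ z : F, z ≠ 0 ∧ z * σ z = j c := by
      obtain ⟨z, hz0, hz⟩ := Descent.exists_norm_eq (σ := (σ : RingAut F)) (hσr.trans hr2) two_pos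
        ((map_ne_zero j).2 c.ne_zero) (hfix c)
      refine ⟨z, hz0, ?_⟩
      rw [Finset.prod_range_succ, Finset.prod_range_one, pow_zero, pow_one] at hz
      exact hz
    have hsq := (root_square (hσr.trans hr2) j hfix hsurj hc hzN).2 t ht.symm
    have h4 : Fintype.card F₀ % 4 = 1 ∨ Fintype.card F₀ % 4 = 3 := by
      have := FiniteField.odd_card_of_char_ne_two (F := F₀) fun h => h20 (by
        haveI := ringChar.charP F₀
        haveI : CharP F₀ 2 := CharP.congr (ringChar F₀) h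
        exact CharTwo.two_eq_zero)
      omega
    split_ifs with hc'
    · refine f5 fun hin => ?_
      have h5 := hiff.1 hin
      obtain ⟨i, hi⟩ := hc'.1
      rw [hi] at h5
      have : IsSquare t := by
        obtain ⟨w, hw⟩ := h5
        refine ⟨w / t ^ i, ?_⟩
        field_simp
        rw [pow_succ, pow_mul] at hw
        linear_combination hw
      rw [hsq] at this
      omega
    · refine f4 (hiff.2 ?_)
      rcases Nat.even_or_odd (k + 1) with ⟨i, hi⟩ | hodd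
      · rw [hi, ← two_mul, pow_mul']; exact ⟨t ^ i, by ring⟩
      · obtain ⟨w, hw⟩ := hsq.2 (h4.resolve_left fun h => hc' ⟨hodd, h⟩)
        exact ⟨w ^ (k + 1), by rw [hw, mul_pow]⟩
  exact ⟨fun hr2 h2 h => (main hr2 h2).trans (if_pos h), fun hr2 h2 h => (main hr2 h2).trans (if_neg h)⟩

end CfsgLib.Orth.FieldCls
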