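import Cfsg.Agent.Lib.Orth.SimParity
import Cfsg.Agent.Lib.Orth.Ind

/-!
# The class character of a similarity of a hyperbolic space, in every characteristic
-/

set_option autoImplicit false
set_option linter.all false

namespace CfsgLib.Orth.FieldCls

open scoped Matrix
open Matrix Cfsg.Geo CfsgLib.Orth CfsgLib.Perm.Asch CfsgLib.Perm.Trans CfsgLib.Perm.Trans.Quad

variable {ι : Type} [Fintype ι] [DecidableEq ι] {F : Type*} [Field F]
variable {Q : (ι → F) → F}

local notation "pol" => QuadraticMap.polar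

/-- the image of a subspace -/
abbrev img (g : GL ι F) (U : Submodule F (ι → F)) : Submodule F (ι → F) := U.map (Matrix.mulVecLin (g : Matrix ι ι F))

/-- half-dimensional totally singular subspaces -/
def IsLag (Q : (ι → F) → F) (m : ℕ) (U : Submodule F (ι → F)) : Prop :=
  Module.finrank F U = m ∧ ∀ x ∈ U, Q x = 0

/-- two half-dimensional subspaces lie in one family -/
def Par (m : ℕ) (U W : Submodule F (ι → F)) : Prop := Even (m - Module.finrank F ↥(U ⊓ W))

theorem img_img (g h : GL ι F) (U : Submodule F (ι → F)) : img g (img h U) = img (g * h) U :=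
  (map_mulVec_mul U g h).symm

theorem img_inf (g : GL ι F) (U W : Submodule F (ι → F)) : img g (U ⊓ W) = img g U ⊓ img g W :=
  Submodule.map_inf _ (Matrix.mulVec_injective_iff_isUnit.2 g.isUnit)

theorem img_one (U : Submodule F (ι → F)) : img (1 : GL ι F) U = U := map_gl_one U

theorem par_img (m : ℕ) (g : GL ι F) (U W : Submodule F (ι → F)) : Par m (img g U) (img g W) ↔ Par m U W := by
  rw [Par, Par, ← img_inf, map_gl_finrank]

theorem par_self {m : ℕ} {U : Submodule F (ι → F)} (hU : Module.finrank F U = m) : Par m U U := by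
  rw [Par, inf_idem, hU, Nat.sub_self]; exact Even.zero

theorem par_comm {m : ℕ} {U W : Submodule F (ι → F)} : Par m U W ↔ Par m W U := by rw [Par, Par, inf_comm]

theorem lag_img {m : ℕ} {g : GL ι F} {c : F} (hg : ∀ v, Q ((g : Matrix ι ι F) *ᵥ v) = c * Q v)
    {U : Submodule F (ι → F)} (hU : IsLag Q m U) : IsLag Q m (img g U) := by
  refine ⟨by rw [map_gl_finrank, hU.1], ?_⟩
  rintro _ ⟨y, hy, rfl⟩
  rw [Matrix.mulVecLin_apply, hg, hU.2 y hy, mul_zero]

variable [Fintype F] (hQ : IsNondegenerateQuadraticForm Q)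
include hQ

/-- the families: additivity -/
theorem par_add (hn : 5 ≤ Fintype.card ι) {m : ℕ} (hm : Fintype.card ι = m + m) {X U W : Submodule F (ι → F)}
    (hX : IsLag Q m X) (hU : IsLag Q m U) (hW : IsLag Q m W) :
    Par m U W ↔ (Par m X U ↔ Par m X W) := by
  have hex : Fintype.card F ≠ 2 ∨ Fintype.card ι ≠ 4 := Or.inr (by omega)
  obtain ⟨a, ha, rfl⟩ := exists_map_ts hQ (hX.1.trans hU.1.symm) hX.2 hU.2
  obtain ⟨b, hb, rfl⟩ := exists_map_ts hQ (hX.1.trans hW.1.symm) hX.2 hW.2
  have key : ∀ {g}, g ∈ Cfsg.isometryGroup F Q → (Par m X (img g X) ↔ Even (wrk g)) := fun hg =>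
    even_wrk_iff hQ hex hm hX.1 hX.2 hg
  show Par m (img a X) (img b X) ↔ (Par m X (img a X) ↔ Par m X (img b X))
  have e : img b X = img a (img (a⁻¹ * b) X) := by rw [img_img, mul_inv_cancel_left]
  rw [key ha, key hb, e, par_img, key (mul_mem (inv_mem ha) hb)]
  have h := (spn_mul hQ (iso_le_reflGroup hQ hex ha) (mul_mem (inv_mem ha) hb)).2
  rw [mul_inv_cancel_left] at h
  tauto

/-- the criterion read at one subspace -/
theorem pres_iff_par (hn : 5 ≤ Fintype.card ι) {m : ℕ} (hm : Fintype.card ι = m + m) {U : Submodule F (ι → F)}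
    (hU : IsLag Q m U) {g : GL ι F} {c : F} (hg : ∀ v, Q ((g : Matrix ι ι F) *ᵥ v) = c * Q v) :
    Cfsg.PreservesSingularClasses Q (g : Matrix ι ι F) ↔ Par m U (img g U) := by
  constructor
  · intro h
    have := h U (maxSing_of_finrank hQ hm hU.1 hU.2)
    rwa [Cfsg.SameParityClass, hU.1, imageSubmodule_eq] at this
  · intro h W hW
    have hWl : IsLag Q m W := ⟨maxSing_finrank hQ hm hU.1 hU.2 hW, hW.1⟩
    rw [Cfsg.SameParityClass, hWl.1, imageSubmodule_eq]
    show Par m W (img g W)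
    have h1 := par_add hQ hn hm hU hWl (lag_img hg hWl)
    have h2 := par_add hQ hn hm hU (lag_img hg hU) (lag_img hg hWl)
    rw [par_img] at h2
    tauto

/-- the classes are preserved by a product iff by both or by neither -/
theorem pres_mul (hn : 5 ≤ Fintype.card ι) {m : ℕ} (hm : Fintype.card ι = m + m) {U : Submodule F (ι → F)}
    (hU : IsLag Q m U) {g h : GL ι F} {c d : F} (hg : ∀ v, Q ((g : Matrix ι ι F) *ᵥ v) = c * Q v)
    (hh : ∀ v, Q ((h : Matrix ι ι F) *ᵥ v) = d * Q v) :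
    Cfsg.PreservesSingularClasses Q ((g * h : GL ι F) : Matrix ι ι F) ↔
      (Cfsg.PreservesSingularClasses Q (g : Matrix ι ι F) ↔ Cfsg.PreservesSingularClasses Q (h : Matrix ι ι F)) := by
  have hgh : ∀ v, Q (((g * h : GL ι F) : Matrix ι ι F) *ᵥ v) = c * d * Q v := fun v => by
    rw [gl_mul_mulVec, hg, hh, mul_assoc]
  rw [pres_iff_par hQ hn hm hU hg, pres_iff_par hQ hn hm hU hh, pres_iff_par hQ hn hm hU hgh, ← img_img]
  have h1 := par_add hQ hn hm hU (lag_img hg hU) (lag_img hg (lag_img hh hU))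
  rw [par_img] at h1
  tauto

/-- an isometry preserves the classes iff it is even -/
theorem pres_iso_iff (hn : 5 ≤ Fintype.card ι) {m : ℕ} (hm : Fintype.card ι = m + m) {U : Submodule F (ι → F)}
    (hU : IsLag Q m U) {g : GL ι F} (hg : g ∈ Cfsg.isometryGroup F Q) :
    Cfsg.PreservesSingularClasses Q (g : Matrix ι ι F) ↔ Even (wrk g) := by
  rw [pres_iff_par hQ hn hm hU (c := 1) fun v => by rw [one_mul, mem_iso.1 hg]]
  exact even_wrk_iff hQ (Or.inr (by omega)) hm hU.1 hU.2 hg

/-- scalars preserve the classes -/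
theorem pres_scalar (hn : 5 ≤ Fintype.card ι) {m : ℕ} (hm : Fintype.card ι = m + m) {U : Submodule F (ι → F)}
    (hU : IsLag Q m U) {g : GL ι F} {c : F} (hc : (g : Matrix ι ι F) = c • 1) :
    Cfsg.PreservesSingularClasses Q (g : Matrix ι ι F) := by
  have hv : ∀ v, (g : Matrix ι ι F) *ᵥ v = c • v := fun v => by rw [hc, smul_mulVec, one_mulVec]
  rw [pres_iff_par hQ hn hm hU (c := c ^ 2) fun v => by rw [hv, qsmul hQ]]
  have e : img g U = U := by
    refine Submodule.eq_of_le_of_finrank_eq ?_ (map_gl_finrank g U)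
    rintro _ ⟨x, hx, rfl⟩
    rw [Matrix.mulVecLin_apply, hv]
    exact U.smul_mem c hx
  rw [e]
  exact par_self hU.1

/-- a reflection exchanges the classes -/
theorem not_pres_refl (hn : 5 ≤ Fintype.card ι) {m : ℕ} (hm : Fintype.card ι = m + m) {U : Submodule F (ι → F)}
    (hU : IsLag Q m U) {r : GL ι F} (hr : r ∈ Cfsg.isometryGroup F Q) {v : ι → F} (hv : Q v ≠ 0)
    (hrv : IsRefl Q v r) : ¬ Cfsg.PreservesSingularClasses Q (r : Matrix ι ι F) := by
  rw [pres_iso_iff hQ hn hm hU hr, (refl_spn hQ hr hrv hv).1]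
  decide

omit hQ in
/-- transport of the classes along a map between two forms -/
theorem pres_transport {S : (ι → F) → F} (hQ : IsNondegenerateQuadraticForm Q) (hS : IsNondegenerateQuadraticForm S)
    (hn : 5 ≤ Fintype.card ι) {m : ℕ} (hm : Fintype.card ι = m + m) {U : Submodule F (ι → F)}
    (hU : IsLag S m U) {K : GL ι F} {k : F}
    (hK : ∀ v, Q ((K : Matrix ι ι F) *ᵥ v) = k * S v) {g : GL ι F} {c : F}
    (hg : ∀ v, S ((g : Matrix ι ι F) *ᵥ v) = c * S v) :
    Cfsg.PreservesSingularClasses Q ((K * g * K⁻¹ : GL ι F) : Matrix ι ι F) ↔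
      Cfsg.PreservesSingularClasses S (g : Matrix ι ι F) := by
  have hKU : IsLag Q m (img K U) := by
    refine ⟨by rw [map_gl_finrank, hU.1], ?_⟩
    rintro _ ⟨y, hy, rfl⟩
    rw [Matrix.mulVecLin_apply, hK, hU.2 y hy, mul_zero]
  have hgQ : ∀ v, Q (((K * g * K⁻¹ : GL ι F) : Matrix ι ι F) *ᵥ v) = c * Q v := fun v => by
    rw [gl_mul_mulVec, gl_mul_mulVec, hK, hg]
    conv_rhs => rw [← gl_mulVec_inv K v, hK]
    ring
  rw [pres_iff_par hQ hn hm hKU hgQ, pres_iff_par hS hn hm hU hg, img_img, mul_assoc, inv_mul_cancel, mul_one,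
    ← img_img, par_img]

end CfsgLib.Orth.FieldCls
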