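import Cfsg.Agent.Lib.Orth.Field.Rational

/-!
# Conjugacy of semisimilarities with the same rational form
-/

set_option autoImplicit false
set_option linter.all false

namespace CfsgLib.Orth.FieldCls

open scoped Matrix
open Matrix Cfsg.Geo CfsgLib.Orth CfsgLib.Perm.Asch CfsgLib.Perm.Trans CfsgLib.Perm.Trans.Quad

variable {ι : Type} [Fintype ι] [DecidableEq ι] {F : Type*} [Field F]
variable {Q S : (ι → F) → F}

local notation "pol" => QuadraticMap.polar

/-- the image of a vector-wise fixed reflection under a map of forms -/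
theorem refl_transport {K T : GL ι F} {k : F} (hk : k ≠ 0) (hK : ∀ v, Q ((K : Matrix ι ι F) *ᵥ v) = k * S v)
    {v : ι → F} (hT : IsRefl S v T) : IsRefl Q ((K : Matrix ι ι F) *ᵥ v) (K * T * K⁻¹) := by
  intro x
  have hp : pol Q ((K : Matrix ι ι F) *ᵥ (((K⁻¹ : GL ι F) : Matrix ι ι F) *ᵥ x)) ((K : Matrix ι ι F) *ᵥ v) =
      k * pol S (((K⁻¹ : GL ι F) : Matrix ι ι F) *ᵥ x) v := by
    simp only [QuadraticMap.polar, ← mulVec_add, hK]; ring
  rw [gl_mulVec_inv] at hp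
  rw [gl_mul_mulVec, gl_mul_mulVec, hT, mulVec_sub, mulVec_smul, gl_mulVec_inv, hp, hK]
  congr 2
  field_simp

/-- a reflection in a fixed vector is fixed -/
theorem refl_fixed (hS : IsNondegenerateQuadraticForm S) {σ : F ≃+* F} (hσS : ∀ x, S (fun i => σ (x i)) = σ (S x))
    {v : ι → F} (hv : ∀ i, σ (v i) = v i) {T : GL ι F} (hT : IsRefl S v T) : fieldGL σ T = T := by
  refine Units.ext (Matrix.ext fun a b => ?_)
  have hsb : ∀ i, σ ((Pi.single b (1 : F) : ι → F) i) = (Pi.single b (1 : F) : ι → F) i := fun i => by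
    rw [Pi.single_apply]; split <;> simp
  have e1 : σ (pol S (Pi.single b 1) v) = pol S (Pi.single b 1) v := by
    have ha : (fun i => σ ((Pi.single b (1 : F) + v : ι → F) i)) = Pi.single b 1 + v := funext fun i => by
      rw [Pi.add_apply, map_add, hsb, hv]
    have h1 : (fun i => σ ((Pi.single b (1 : F) : ι → F) i)) = Pi.single b 1 := funext hsb
    have h2 : (fun i => σ (v i)) = v := funext hv
    simp only [QuadraticMap.polar, map_sub, ← hσS, ha, h1, h2]
  have e2 : σ (S v) = S v := by rw [← hσS, show (fun i => σ (v i)) = v from funext hv]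
  have e3 := congrFun (hT (Pi.single b 1)) a
  rw [Matrix.mulVec_single_one] at e3
  rw [fieldGL_coe, Matrix.map_apply, show (T : Matrix ι ι F) a b = _ from e3, Pi.sub_apply, Pi.smul_apply, smul_eq_mul,
    map_sub, map_mul, map_mul, map_inv₀, e1, e2, hv, hsb]

variable [Fintype F]

/-- two elements with the same rational form are conjugate under a similarity, whose class may be chosen -/
theorem exists_conjugator (hQ : IsNondegenerateQuadraticForm Q) (hS : IsNondegenerateQuadraticForm S)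
    {σ : F ≃+* F} (hσS : ∀ x, S (fun i => σ (x i)) = σ (S x))
    {v : ι → F} (hv : ∀ i, σ (v i) = v i) (hv0 : S v ≠ 0) {G G' : GL ι F} (hG : Desc Q S σ G) (hG' : Desc Q S σ G')
    (hs : Cfsg.IsSemisimilarityPair Q G σ) (hs' : Cfsg.IsSemisimilarityPair Q G' σ) :
    ∃ (h u : ↥(Cfsg.Geo.quadSimilarityGroup (F := F) Q)) (w : ι → F),
      u.1 ∈ Cfsg.isometryGroup F Q ∧ Q w ≠ 0 ∧ IsRefl Q w u.1 ∧
      simHom Q h * ind hs * (simHom Q h)⁻¹ = ind hs' ∧ simHom Q (h * u) * ind hs * (simHom Q (h * u))⁻¹ = ind hs' := by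
  obtain ⟨K, a, k, ha, hk, hGK, hK⟩ := hG
  obtain ⟨K', a', k', ha', hk', hGK', hK'⟩ := hG'
  obtain ⟨T, hT, hTv⟩ := exists_refl hS hv0
  have hTf := refl_fixed hS hσS hv hTv
  have hKi : ∀ x, S (((K⁻¹ : GL ι F) : Matrix ι ι F) *ᵥ x) = k⁻¹ * Q x := fun x => by
    have h1 := hK (((K⁻¹ : GL ι F) : Matrix ι ι F) *ᵥ x)
    rw [gl_mulVec_inv] at h1
    rw [h1, inv_mul_cancel_left₀ hk]
  have hsim : ∀ U : GL ι F, U ∈ Cfsg.isometryGroup F S →
      K' * U * K⁻¹ ∈ Cfsg.Geo.quadSimilarityGroup (F := F) Q := fun U hU => by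
    refine ⟨Units.mk0 (k' * k⁻¹) (mul_ne_zero hk' (inv_ne_zero hk)), fun x => ?_⟩
    rw [gl_mul_mulVec, gl_mul_mulVec, hK', mem_iso.1 hU, hKi, Units.val_mk0, mul_assoc]
  have hu : K * T * K⁻¹ ∈ Cfsg.isometryGroup F Q := mem_iso.2 fun x => by
    rw [gl_mul_mulVec, gl_mul_mulVec, hK, mem_iso.1 hT, hKi, mul_inv_cancel_left₀ hk]
  have hconj : ∀ (U : GL ι F) (hU : U ∈ Cfsg.isometryGroup F S), fieldGL σ U = U →
      simHom Q ⟨_, hsim U hU⟩ * ind hs * (simHom Q ⟨_, hsim U hU⟩)⁻¹ = ind hs' := by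
    intro U hU hUf
    rw [mul_inv_eq_iff_eq_mul]
    show ind (sim_pair (hsim U hU)) * ind hs = ind hs' * ind (sim_pair (hsim U hU))
    rw [ind_mul, ind_mul]
    have h1 : ((K' * U * K⁻¹ * G : GL ι F) : Matrix ι ι F) =
        a • ((K' * U * (fieldGL σ K)⁻¹ : GL ι F) : Matrix ι ι F) := by
      rw [Units.val_mul, hGK, mul_smul_comm, ← Units.val_mul]
      congr 2
      group
    have h2 : ((G' * fieldGL σ (K' * U * K⁻¹) : GL ι F) : Matrix ι ι F) =
        a' • ((K' * U * (fieldGL σ K)⁻¹ : GL ι F) : Matrix ι ι F) := by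
      rw [Units.val_mul, hGK', smul_mul_assoc, ← Units.val_mul, map_mul, map_mul, map_inv, hUf]
      congr 2
      group
    have h3 : ((K' * U * K⁻¹ * G : GL ι F) : Matrix ι ι F) =
        (a * a'⁻¹) • ((G' * fieldGL σ (K' * U * K⁻¹) : GL ι F) : Matrix ι ι F) := by
      rw [h1, h2, smul_smul, inv_mul_cancel_right₀ ha']
    have hp : Cfsg.IsSemisimilarityPair Q (K' * U * K⁻¹ * G) σ := by
      have := semisim_mul (sim_pair (hsim U hU)) hs
      rwa [fieldGL_refl] at this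
    have hp' : Cfsg.IsSemisimilarityPair Q (G' * fieldGL σ (K' * U * K⁻¹)) σ := semisim_mul hs' (sim_pair (hsim U hU))
    exact (ind_congr _ hp (by rw [fieldGL_refl]) (RingEquiv.ext fun _ => rfl)).trans
      ((ind_scalar hp hp' h3).trans (ind_congr hp' _ rfl (RingEquiv.ext fun _ => rfl)))
  have h1 := hconj 1 (one_mem _) (map_one _)
  refine ⟨⟨_, hsim 1 (one_mem _)⟩, ⟨K * T * K⁻¹, iso_sim hu⟩, (K : Matrix ι ι F) *ᵥ v, hu, ?_,
    refl_transport hk hK hTv, h1, ?_⟩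
  · rw [hK]; exact mul_ne_zero hk hv0
  · convert hconj T hT hTf using 4 <;>
      exact Subtype.ext (by show K' * 1 * K⁻¹ * (K * T * K⁻¹) = K' * T * K⁻¹; group)

/-- conjugacy inside a subgroup cut out by a character -/
theorem conj_of_char (hQ : IsNondegenerateQuadraticForm Q) (hS : IsNondegenerateQuadraticForm S)
    {P : ↥(Cfsg.Geo.quadSimilarityGroup (F := F) Q) → Prop} {H : Subgroup (MulAut (Cfsg.POmega F Q))}
    (hmem : ∀ g, P g → simHom Q g ∈ H) (hmul : ∀ g h, P (g * h) ↔ (P g ↔ P h))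
    (hrefl : ∀ (u : ↥(Cfsg.Geo.quadSimilarityGroup (F := F) Q)) w,
      u.1 ∈ Cfsg.isometryGroup F Q → Q w ≠ 0 → IsRefl Q w u.1 → ¬ P u)
    {σ : F ≃+* F} (hσS : ∀ x, S (fun i => σ (x i)) = σ (S x))
    {v : ι → F} (hv : ∀ i, σ (v i) = v i) (hv0 : S v ≠ 0) {G G' : GL ι F} (hG : Desc Q S σ G) (hG' : Desc Q S σ G')
    (hs : Cfsg.IsSemisimilarityPair Q G σ) (hs' : Cfsg.IsSemisimilarityPair Q G' σ) :
    Cfsg.IsConjUnder H (ind hs) (ind hs') := by
  obtain ⟨h, u, w, hui, hw, huw, e1, e2⟩ := exists_conjugator hQ hS hσS hv hv0 hG hG' hs hs'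
  by_cases hP : P h
  · exact ⟨_, hmem h hP, e1.symm⟩
  · exact ⟨_, hmem (h * u) ((hmul h u).2 (iff_of_false hP (hrefl u w hui hw huw))), e2.symm⟩

omit [Fintype ι] [DecidableEq ι] [Fintype F] in
theorem orderOf_conj {X : Type*} [Group X] {H : Subgroup X} {x y : X} (h : Cfsg.IsConjUnder H x y) :
    orderOf y = orderOf x := by
  obtain ⟨k, -, rfl⟩ := h
  exact (MulAut.conj k).orderOf_eq x

end CfsgLib.Orth.FieldCls
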