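import Cfsg.Agent.Lib.Orth.Field.Normal
import Cfsg.Agent.Lib.Orth.Aut.Out
import Cfsg.Agent.Lib.Descent.FixedField

/-!
# Descent of a semisimilarity of prime order to the fixed field
-/

set_option autoImplicit false
set_option linter.all false

namespace CfsgLib.Orth.FieldCls

open scoped Matrix
open Matrix Cfsg.Geo CfsgLib.Orth CfsgLib.Perm.Asch CfsgLib.Perm.Trans CfsgLib.Perm.Trans.Quad

variable {ι : Type} [Fintype ι] [DecidableEq ι] {F : Type*} [Field F]
variable {Q : (ι → F) → F}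

local notation "pol" => QuadraticMap.polar

theorem semisim_of_sim {σ : F ≃+* F} (hσQ : ∀ v, Q (fun i => σ (v i)) = σ (Q v)) {g : GL ι F}
    (hg : g ∈ Cfsg.Geo.quadSimilarityGroup (F := F) Q) : Cfsg.IsSemisimilarityPair Q g σ := by
  obtain ⟨c, hc⟩ := hg
  exact ⟨c, fun v => by rw [hc, hσQ]⟩

theorem iterG_eq (g : GL ι F) (σ : RingAut F) : ∀ k, iterG g σ k = Descent.nprod σ g k
  | 0 => rfl
  | k + 1 => by rw [iterG, iterG_eq g σ k]; rfl

theorem nprod_scalar (σ : RingAut F) {g A : GL ι F} {c : F} (h : (A : Matrix ι ι F) = c • (g : Matrix ι ι F)) :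
    ∀ k, (Descent.nprod σ A k : Matrix ι ι F) =
      (∏ i ∈ Finset.range k, (σ ^ i : RingAut F) c) • (Descent.nprod σ g k : Matrix ι ι F)
  | 0 => by simp [Descent.nprod]
  | k + 1 => by
    rw [Descent.nprod_succ', Descent.nprod_succ', Units.val_mul, Units.val_mul, nprod_scalar σ h k,
      Descent.glMap_val, Descent.glMap_val, h, Finset.prod_range_succ,
      Matrix.map_smul' _ _ _ (map_mul (σ ^ k : RingAut F)), Matrix.smul_mul, Matrix.mul_smul, smul_smul, mul_comm]

/-- a multiple of a form pulled back is a form -/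
theorem nd_comp (hQ : IsNondegenerateQuadraticForm Q) (B : GL ι F) {b : F} (hb : b ≠ 0) :
    IsNondegenerateQuadraticForm (fun v => b * Q ((B : Matrix ι ι F) *ᵥ v)) := by
  have hp : ∀ x y, pol (fun v => b * Q ((B : Matrix ι ι F) *ᵥ v)) x y =
      b * pol Q ((B : Matrix ι ι F) *ᵥ x) ((B : Matrix ι ι F) *ᵥ y) := fun x y => by
    simp only [QuadraticMap.polar, mulVec_add]; ring
  refine ⟨fun c v => ?_, ?_, fun v hv => ?_⟩
  · show b * Q ((B : Matrix ι ι F) *ᵥ (c • v)) = c ^ 2 * (b * Q ((B : Matrix ι ι F) *ᵥ v))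
    rw [mulVec_smul, hQ.smul]; ring
  · constructor <;> intros <;>
      simp only [hp, mulVec_add, mulVec_smul, padd_left hQ, padd_right hQ, psmul_left hQ, psmul_right hQ] <;> ring
  · have hBv : (B : Matrix ι ι F) *ᵥ v ≠ 0 := fun e => hv (by rw [← gl_inv_mulVec B v, e, mulVec_zero])
    obtain ⟨⟨x, hx⟩, y, hy⟩ := hQ.nondegenerate _ hBv
    exact ⟨⟨((B⁻¹ : GL ι F) : Matrix ι ι F) *ᵥ x, by rw [hp, gl_mulVec_inv]; exact mul_ne_zero hb hx⟩,
      ((B⁻¹ : GL ι F) : Matrix ι ι F) *ᵥ y, by rw [hp, gl_mulVec_inv]; exact mul_ne_zero hb hy⟩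

/-- a form read in other coordinates -/
def reix {κ : Type} (e : κ ≃ ι) (S : (κ → F) → F) : (ι → F) → F := fun v => S fun k => v (e k)

theorem reix_nd {κ : Type} [Fintype κ] [DecidableEq κ] (e : κ ≃ ι) {S : (κ → F) → F}
    (hS : IsNondegenerateQuadraticForm S) : IsNondegenerateQuadraticForm (reix e S) := by
  have hp : ∀ x y, pol (reix e S) x y = pol S (fun k => x (e k)) fun k => y (e k) := fun x y => rfl
  refine ⟨fun c v => hS.smul c fun k => v (e k), ?_, fun v hv => ?_⟩
  · constructor <;> intros <;> simp only [hp] <;>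
      first
        | exact padd_left hS _ _ _
        | exact padd_right hS _ _ _
        | exact psmul_left hS _ _ _
        | exact psmul_right hS _ _ _
  · obtain ⟨⟨x, hx⟩, y, hy⟩ := hS.nondegenerate (fun k => v (e k)) fun h0 =>
      hv (funext fun i => by simpa using congrFun h0 (e.symm i))
    exact ⟨⟨fun i => x (e.symm i), by simpa [hp] using hx⟩, fun i => y (e.symm i), by simpa [hp] using hy⟩

variable [Fintype F] (hQ : IsNondegenerateQuadraticForm Q)
include hQ

/-- some value of a non-degenerate form is non-zero -/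
theorem exists_ne_value [Nonempty ι] : ∃ v, Q v ≠ 0 := by
  by_contra h
  push Not at h
  obtain ⟨i⟩ := ‹Nonempty ι›
  obtain ⟨⟨x, hx⟩, -⟩ := hQ.nondegenerate (Pi.single i (1 : F)) (by simp)
  exact hx (by simp [QuadraticMap.polar, h])

/-- Lang: an element of prime order in a coset of the field automorphism comes from another rational form -/
theorem exists_lang (hn : 5 ≤ Fintype.card ι) {σ : RingAut F} {r : ℕ} (hr : orderOf σ = r) (hr0 : 0 < r)
    {g : GL ι F} (h : Cfsg.IsSemisimilarityPair Q g σ)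
    (hord : ind h ^ r = 1) :
    ∃ (B : GL ι F) (a b : F), a ≠ 0 ∧ b ≠ 0 ∧
      (g : Matrix ι ι F) = a • ((B * (fieldGL σ B)⁻¹ : GL ι F) : Matrix ι ι F) ∧
      ∀ v, b * Q ((B : Matrix ι ι F) *ᵥ fun i => σ (v i)) = σ (b * Q ((B : Matrix ι ι F) *ᵥ v)) := by
  haveI : Nonempty ι := Fintype.card_pos_iff.1 (by omega)
  rw [ind_pow] at hord
  obtain ⟨-, lam, hlam⟩ := ind_eq_one hQ hn _ hord
  rw [iterG_eq] at hlam
  have hσr : σ ^ r = 1 := hr ▸ pow_orderOf_eq_one σ
  have hlam0 : lam ≠ 0 := fun e => by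
    have h1 := congrArg Matrix.det hlam
    rw [e, zero_smul, Matrix.det_zero] at h1
    exact ((Matrix.isUnit_iff_isUnit_det _).1 (Descent.nprod σ g r).isUnit).ne_zero h1
  have hlamfix : σ lam = lam := by
    have h1 : (g * Descent.glMap σ (Descent.nprod σ g r) : GL ι F) = Descent.nprod σ g r * Descent.glMap (σ ^ r) g :=
      (show _ = Descent.nprod σ g (r + 1) from rfl).trans (Descent.nprod_succ' σ g r)
    rw [hσr, Descent.glMap_one] at h1
    have h2 := congrArg (fun X : GL ι F => (X : Matrix ι ι F)) h1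
    simp only [Units.val_mul, Descent.glMap_val, hlam] at h2
    rw [Matrix.map_smul' _ _ _ (map_mul σ), Matrix.map_one _ (map_zero σ) (map_one σ), Matrix.mul_smul, Matrix.mul_one,
      Matrix.smul_mul, Matrix.one_mul] at h2
    obtain ⟨i⟩ := ‹Nonempty ι›
    obtain ⟨l, hl⟩ : ∃ l, (g : Matrix ι ι F) i l ≠ 0 := by
      by_contra hc
      push Not at hc
      exact ((Matrix.isUnit_iff_isUnit_det _).1 g.isUnit).ne_zero (Matrix.det_eq_zero_of_row_eq_zero i hc)
    have h3 := congrFun (congrFun h2 i) l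
    simp only [Matrix.smul_apply, smul_eq_mul] at h3
    exact mul_right_cancel₀ hl h3
  obtain ⟨a, ha, haN⟩ := Descent.exists_norm_eq hr hr0 hlam0 hlamfix
  obtain ⟨A, hA⟩ : ∃ A : GL ι F, (A : Matrix ι ι F) = a⁻¹ • (g : Matrix ι ι F) :=
    ⟨Units.map (Matrix.scalar ι).toMonoidHom (Units.mk0 a⁻¹ (inv_ne_zero ha)) * g, by
      rw [Units.val_mul]
      show Matrix.scalar ι a⁻¹ * _ = _
      rw [Matrix.scalar_apply, ← Matrix.smul_eq_diagonal_mul]⟩
  have hA1 : Descent.nprod σ A r = 1 := Units.ext (by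
    rw [nprod_scalar σ hA r, hlam, smul_smul, ← haN, ← Finset.prod_mul_distrib, Finset.prod_eq_one (fun i _ => by
      rw [← map_mul, inv_mul_cancel₀ ha, map_one]), one_smul, Units.val_one])
  obtain ⟨B, hB⟩ := Descent.exists_h90 hr hr0 hA1
  obtain ⟨c, hc⟩ := h
  obtain ⟨d, hd⟩ : ∃ d, d = a⁻¹ ^ 2 * (c : F) := ⟨_, rfl⟩
  have hstep : ∀ v, Q ((B : Matrix ι ι F) *ᵥ fun i => σ (v i)) = d * σ (Q ((B : Matrix ι ι F) *ᵥ v)) := fun v => by
    have e : (B : Matrix ι ι F) *ᵥ (fun i => σ (v i)) =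
        (A : Matrix ι ι F) *ᵥ (fun i => σ (((B : Matrix ι ι F) *ᵥ v) i)) := by
      conv_lhs => rw [← hB]
      rw [gl_mul_mulVec]
      congr 1
      exact fieldGL_mulVec σ B v
    rw [e, hA, smul_mulVec, hQ.smul, hc, hd, mul_assoc]
  have hit : ∀ k v, Q ((B : Matrix ι ι F) *ᵥ fun i => (σ ^ k) (v i)) =
      (∏ i ∈ Finset.range k, (σ ^ i : RingAut F) d) * (σ ^ k) (Q ((B : Matrix ι ι F) *ᵥ v)) := by
    intro k
    induction k with
    | zero => intro v; simp
    | succ k ih =>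
      intro v
      have e : (fun i => (σ ^ (k + 1)) (v i)) = fun i => (σ ^ k) (σ (v i)) := by
        funext i; rw [pow_succ]; rfl
      rw [e, ih, hstep, map_mul, Finset.prod_range_succ, pow_succ, mul_assoc]
      rfl
  have hd1 : ∏ i ∈ Finset.range r, (σ ^ i : RingAut F) d = 1 := by
    obtain ⟨w, hw⟩ := exists_ne_value hQ
    have h1 := hit r (((B⁻¹ : GL ι F) : Matrix ι ι F) *ᵥ w)
    simp only [hσr, RingAut.one_apply, gl_mulVec_inv] at h1
    exact mul_right_cancel₀ hw (h1.symm.trans (one_mul _).symm)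
  obtain ⟨b, hb, hdb⟩ := Descent.exists_h90_units hr hr0 hd1
  refine ⟨B, a, b⁻¹, ha, inv_ne_zero hb, ?_, fun v => ?_⟩
  · have : (B * (fieldGL σ B)⁻¹ : GL ι F) = A := by
      rw [mul_inv_eq_iff_eq_mul]
      exact hB.symm
    rw [this, hA, smul_smul, mul_inv_cancel₀ ha, one_smul]
  · have hsb : σ b ≠ 0 := (map_ne_zero σ.toRingHom).2 hb
    rw [map_mul, map_inv₀, hstep]
    field_simp
    linear_combination (σ (Q ((B : Matrix ι ι F) *ᵥ v))) * hdb

variable {F₀ : Type*} [Field F₀] (j : F₀ →+* F)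

/-- the rational form of an equivariant form -/
theorem exists_sub_form {σ : F ≃+* F} (hσQ : ∀ v, Q (fun i => σ (v i)) = σ (Q v))
    (hjf : ∀ a, σ (j a) = j a) (hjs : ∀ x, σ x = x → ∃ a, j a = x) :
    ∃ P : QuadraticForm F₀ (ι → F₀), (∀ x, Q (fun i => j (x i)) = j (P x)) ∧
      (QuadraticMap.polarBilin P).Nondegenerate := by
  have hfix : ∀ x : ι → F₀, ∃ a, j a = Q fun i => j (x i) := fun x => hjs _ (by
    rw [← hσQ]; simp only [hjf])
  choose P hP using hfix
  have hadd : ∀ x y : ι → F₀, (fun i => j ((x + y) i)) = (fun i => j (x i)) + fun i => j (y i) := fun x y =>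
    funext fun i => map_add j _ _
  have hpol : ∀ x y, j (pol P x y) = pol Q (fun i => j (x i)) (fun i => j (y i)) := fun x y => by
    simp only [QuadraticMap.polar, map_sub, hP, hadd]
  have hsm : ∀ (c : F₀) (x : ι → F₀), (fun i => j ((c • x) i)) = j c • fun i => j (x i) := fun c x =>
    funext fun i => map_mul j _ _
  refine ⟨QuadraticMap.ofPolar P (fun c x => j.injective (by
      rw [hP, hsm, hQ.smul, smul_eq_mul, map_mul, map_mul, hP, sq]))
    (fun x x' y => j.injective (by rw [map_add, hpol, hpol, hpol, hadd, padd_left hQ]))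
    (fun c x y => j.injective (by rw [smul_eq_mul, map_mul, hpol, hpol, hsm, psmul_left hQ])), fun x => (hP x).symm, ?_⟩
  have key : ∀ x : ι → F₀, (∀ y, pol P x y = 0) → x = 0 := fun x hx => by
    by_contra hne
    obtain ⟨-, y, hy⟩ := hQ.nondegenerate (fun i => j (x i)) fun e => hne (funext fun i =>
      j.injective ((congrFun e i).trans (map_zero j).symm))
    apply hy
    have hz : ∀ i, pol Q (fun k => j (x k)) (Pi.single i 1) = 0 := fun i => by
      rw [single_hom j, ← hpol, hx, map_zero]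
    let L : (ι → F) →ₗ[F] F :=
      { toFun := fun z => pol Q (fun k => j (x k)) z
        map_add' := padd_right hQ _
        map_smul' := fun c z => psmul_right hQ c _ z }
    have hL : L = 0 := (Pi.basisFun F ι).ext fun i => by rw [Pi.basisFun_apply]; exact hz i
    exact LinearMap.congr_fun hL y
  exact ⟨key, fun y hy => key y fun x => by rw [QuadraticMap.polar_comm]; exact hy x⟩

/-- a map of rational forms gives one of the extended forms, fixed by `σ` -/
theorem exists_lift {κ : Type} [Fintype κ] [DecidableEq κ] (e : κ ≃ ι) {σ : F ≃+* F} (hjf : ∀ a, σ (j a) = j a)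
    {P : QuadraticForm F₀ (ι → F₀)} (hPQ : ∀ x, Q (fun i => j (x i)) = j (P x))
    {S : (κ → F₀) → F₀} {S' : (κ → F) → F} (hS' : IsNondegenerateQuadraticForm S')
    (eS : ∀ x : κ → F₀, S' (fun i => j (x i)) = j (S x)) {k : F₀} {L : (κ → F₀) →ₗ[F₀] (ι → F₀)}
    (hL : Function.Injective L) (hv : ∀ v, P (L v) = k * S v) :
    ∃ M : GL ι F, fieldGL σ M = M ∧ ∀ v, Q ((M : Matrix ι ι F) *ᵥ v) = j k * reix e S' v := by
  obtain ⟨L', hL'⟩ : ∃ L' : (ι → F₀) →ₗ[F₀] (ι → F₀), L' = L.comp (LinearMap.funLeft F₀ F₀ e) := ⟨_, rfl⟩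
  obtain ⟨M₀, hM₀⟩ : ∃ M₀ : GL ι F₀, ∀ x, (M₀ : Matrix ι ι F₀) *ᵥ x = L fun i => x (e i) := by
    have hinj : Function.Injective (LinearMap.toMatrix' L').mulVec := fun x y h => by
      rw [LinearMap.toMatrix'_mulVec, LinearMap.toMatrix'_mulVec, hL'] at h
      exact funext fun i => by simpa using congrFun (hL h) (e.symm i)
    exact ⟨(Matrix.mulVec_injective_iff_isUnit.1 hinj).unit, fun x => by
      rw [IsUnit.unit_spec, LinearMap.toMatrix'_mulVec, hL']; rfl⟩
  refine ⟨Matrix.GeneralLinearGroup.map j M₀, Units.ext (by ext a b; exact hjf _), ?_⟩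
  exact rel_map j hQ (reix_nd e hS') hPQ (R := fun x => S fun i => x (e i)) (fun x => eS _)
    (fun v => by rw [hM₀]; exact hv _)

end CfsgLib.Orth.FieldCls
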