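import Cfsg.Agent.Lib.Orth.Field.Conj

/-!
# The centraliser of a field automorphism as the similarity group over the fixed field
-/

set_option autoImplicit false
set_option linter.all false

namespace CfsgLib.Orth.FieldCls

open scoped Matrix
open Matrix Cfsg.Geo CfsgLib.Orth CfsgLib.Perm.Asch CfsgLib.Perm.Trans CfsgLib.Perm.Trans.Quad

variable {ι κ : Type} [Fintype ι] [DecidableEq ι] [Fintype κ] [DecidableEq κ]
variable {F : Type*} [Field F] {F₀ : Type*} [Field F₀]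

local notation "pol" => QuadraticMap.polar

/-- reindexing invertible matrices -/
def reGL (e : κ ≃ ι) : GL κ F →* GL ι F :=
  Units.map (Matrix.reindexAlgEquiv F F e).toMulEquiv.toMonoidHom

theorem reGL_coe (e : κ ≃ ι) (M : GL κ F) :
    ((reGL e M : GL ι F) : Matrix ι ι F) = (M : Matrix κ κ F).submatrix e.symm e.symm := rfl

theorem reGL_mulVec (e : κ ≃ ι) (M : GL κ F) (v : ι → F) :
    ((reGL e M : GL ι F) : Matrix ι ι F) *ᵥ v = fun i => ((M : Matrix κ κ F) *ᵥ fun l => v (e l)) (e.symm i) := by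
  rw [reGL_coe, Matrix.submatrix_mulVec_equiv]
  rfl

/-- the embedding of the rational group -/
def emb (K : GL ι F) (e : κ ≃ ι) (j : F₀ →+* F) : GL κ F₀ →* GL ι F :=
  (MulAut.conj K).toMonoidHom.comp ((reGL e).comp (Matrix.GeneralLinearGroup.map j))

theorem emb_apply (K : GL ι F) (e : κ ≃ ι) (j : F₀ →+* F) (u : GL κ F₀) :
    emb K e j u = K * reGL e (Matrix.GeneralLinearGroup.map j u) * K⁻¹ := rfl

/-- the data of a rational form attached to `G` -/
structure Model (Q : (ι → F) → F) (σ : F ≃+* F) (G : GL ι F) (e : κ ≃ ι) (j : F₀ →+* F)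
    (S₀ : (κ → F₀) → F₀) (S : (κ → F) → F) (K : GL ι F) (a k : F) : Prop where
  hQ : IsNondegenerateQuadraticForm Q
  hS₀ : IsNondegenerateQuadraticForm S₀
  hS : IsNondegenerateQuadraticForm S
  ext : ∀ x : κ → F₀, S (fun i => j (x i)) = j (S₀ x)
  fix : ∀ c, σ (j c) = j c
  surj : ∀ x, σ x = x → ∃ c, j c = x
  a0 : a ≠ 0
  k0 : k ≠ 0
  mat : (G : Matrix ι ι F) = a • ((K * (fieldGL σ K)⁻¹ : GL ι F) : Matrix ι ι F)
  form : ∀ v, Q ((K : Matrix ι ι F) *ᵥ v) = k * reix e S v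

variable {Q : (ι → F) → F} {σ : F ≃+* F} {G K : GL ι F} {e : κ ≃ ι} {j : F₀ →+* F}
  {S₀ : (κ → F₀) → F₀} {S : (κ → F) → F} {a k : F}

namespace Model

variable (D : Model Q σ G e j S₀ S K a k)
include D

theorem fixed (u : GL κ F₀) : fieldGL σ (reGL e (Matrix.GeneralLinearGroup.map j u)) = reGL e (Matrix.GeneralLinearGroup.map j u) :=
  Units.ext (by ext p q; exact D.fix _)

theorem inv_form (x : ι → F) : reix e S (((K⁻¹ : GL ι F) : Matrix ι ι F) *ᵥ x) = k⁻¹ * Q x := by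
  have h1 := D.form (((K⁻¹ : GL ι F) : Matrix ι ι F) *ᵥ x)
  rw [gl_mulVec_inv] at h1
  rw [h1, inv_mul_cancel_left₀ D.k0]

theorem emb_sim {u : GL κ F₀} {d : F₀} (hu : ∀ x, S₀ ((u : Matrix κ κ F₀) *ᵥ x) = d * S₀ x) (v : ι → F) :
    Q (((emb K e j u : GL ι F) : Matrix ι ι F) *ᵥ v) = j d * Q v := by
  rw [emb_apply, gl_mul_mulVec, gl_mul_mulVec, D.form, reGL_mulVec]
  simp only [reix, Equiv.symm_apply_apply]
  have h1 := rel_map j D.hS D.hS D.ext D.ext hu (fun l => (((K⁻¹ : GL ι F) : Matrix ι ι F) *ᵥ v) (e l))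
  have h2 : S (fun l => (((K⁻¹ : GL ι F) : Matrix ι ι F) *ᵥ v) (e l)) = k⁻¹ * Q v := D.inv_form v
  rw [h2] at h1
  show k * S (((u : Matrix κ κ F₀).map j) *ᵥ fun l => (((K⁻¹ : GL ι F) : Matrix ι ι F) *ᵥ v) (e l)) = j d * Q v
  rw [h1]
  field_simp [D.k0]

theorem emb_mem {u : GL κ F₀} (hu : u ∈ Cfsg.Geo.quadSimilarityGroup (F := F₀) S₀) :
    emb K e j u ∈ Cfsg.Geo.quadSimilarityGroup (F := F) Q := by
  obtain ⟨d, hd⟩ := hu
  exact ⟨Units.map j.toMonoidHom d, fun v => D.emb_sim hd v⟩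

/-- the embedding of similarity groups -/
def phi : ↥(Cfsg.Geo.quadSimilarityGroup (F := F₀) S₀) →* ↥(Cfsg.Geo.quadSimilarityGroup (F := F) Q) :=
  ((emb K e j).comp (Cfsg.Geo.quadSimilarityGroup (F := F₀) S₀).subtype).codRestrict _ fun u => D.emb_mem u.2

theorem phi_val (u : ↥(Cfsg.Geo.quadSimilarityGroup (F := F₀) S₀)) : (D.phi u).1 = emb K e j u.1 := rfl

theorem emb_iso {u : GL κ F₀} (hu : u ∈ Cfsg.isometryGroup F₀ S₀) : emb K e j u ∈ Cfsg.isometryGroup F Q :=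
  mem_iso.2 fun v => by
    rw [D.emb_sim (d := 1) (fun x => by rw [one_mul, mem_iso.1 hu]) v, map_one, one_mul]

/-- reflections go to reflections -/
theorem emb_refl {r : GL κ F₀} {v : κ → F₀} (hv : S₀ v ≠ 0) (hr : IsRefl S₀ v r) :
    IsRefl Q ((K : Matrix ι ι F) *ᵥ fun i => j (v (e.symm i))) (emb K e j r) ∧
      Q ((K : Matrix ι ι F) *ᵥ fun i => j (v (e.symm i))) = k * j (S₀ v) := by
  have h1 := refl_map j D.hS D.ext hr
  have h2 : IsRefl (reix e S) (fun i => j (v (e.symm i))) (reGL e (Matrix.GeneralLinearGroup.map j r)) := by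
    intro x
    rw [reGL_mulVec, h1 fun l => x (e l)]
    funext i
    have hp : pol (reix e S) x (fun i => j (v (e.symm i))) = pol S (fun l => x (e l)) fun l => j (v l) := by
      simp only [QuadraticMap.polar, reix, Pi.add_apply, Equiv.symm_apply_apply]
      rfl
    simp only [Pi.sub_apply, Pi.smul_apply, smul_eq_mul, Equiv.apply_symm_apply, hp, reix, Equiv.symm_apply_apply]
  refine ⟨refl_transport D.k0 D.form h2, ?_⟩
  rw [D.form]
  simp only [reix, Equiv.symm_apply_apply, D.ext]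

variable [Fintype F] [Fintype F₀]

omit [Fintype F₀] in
theorem commutes (hs : Cfsg.IsSemisimilarityPair Q G σ) (u : ↥(Cfsg.Geo.quadSimilarityGroup (F := F₀) S₀)) :
    simHom Q (D.phi u) * ind hs = ind hs * simHom Q (D.phi u) := by
  show ind (sim_pair (D.phi u).2) * ind hs = ind hs * ind (sim_pair (D.phi u).2)
  rw [ind_mul, ind_mul]
  refine ind_congr _ _ ?_ (RingEquiv.ext fun _ => rfl)
  obtain ⟨U, hU⟩ : ∃ U, U = reGL e (Matrix.GeneralLinearGroup.map j u.1) := ⟨_, rfl⟩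
  have hUf : fieldGL σ U = U := hU ▸ D.fixed u.1
  rw [fieldGL_refl, phi_val, emb_apply, ← hU]
  refine Units.ext ?_
  rw [Units.val_mul _ G, Units.val_mul G, D.mat, mul_smul_comm, smul_mul_assoc, ← Units.val_mul, ← Units.val_mul, map_mul,
    map_mul, hUf, map_inv]
  congr 2
  group

theorem exists_preimage (hn : 5 ≤ Fintype.card ι) {r : ℕ} (hr : orderOf (σ : RingAut F) = r) (hr0 : 0 < r)
    (hs : Cfsg.IsSemisimilarityPair Q G σ) (g : ↥(Cfsg.Geo.quadSimilarityGroup (F := F) Q))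
    (hc : simHom Q g * ind hs = ind hs * simHom Q g) :
    ∃ u, simHom Q (D.phi u) = simHom Q g := by
  change ind (sim_pair g.2) * ind hs = ind hs * ind (sim_pair g.2) at hc
  rw [ind_mul, ind_mul] at hc
  obtain ⟨-, c, hcc⟩ := ind_inj D.hQ hn hc
  rw [fieldGL_refl] at hcc
  obtain ⟨U, hU⟩ : ∃ U, U = K⁻¹ * g.1 * K := ⟨_, rfl⟩
  have hUc : (U : Matrix ι ι F) = c • ((fieldGL σ U : GL ι F) : Matrix ι ι F) := by
    have e0 : ((K⁻¹ * (g.1 * G) * fieldGL σ K : GL ι F) : Matrix ι ι F) =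
        c • ((K⁻¹ * (G * fieldGL σ g.1) * fieldGL σ K : GL ι F) : Matrix ι ι F) := by
      simp only [Units.val_mul] at hcc ⊢
      rw [hcc, mul_smul_comm, smul_mul_assoc]
    have e1 : ((K⁻¹ * (g.1 * G) * fieldGL σ K : GL ι F) : Matrix ι ι F) = a • (U : Matrix ι ι F) := by
      rw [Units.val_mul, Units.val_mul, Units.val_mul, D.mat, mul_smul_comm, mul_smul_comm, smul_mul_assoc,
        ← Units.val_mul, ← Units.val_mul, ← Units.val_mul, hU]
      congr 2
      group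
    have e2 : ((K⁻¹ * (G * fieldGL σ g.1) * fieldGL σ K : GL ι F) : Matrix ι ι F) =
        a • ((fieldGL σ U : GL ι F) : Matrix ι ι F) := by
      rw [Units.val_mul, Units.val_mul, Units.val_mul, D.mat, smul_mul_assoc, mul_smul_comm, smul_mul_assoc,
        ← Units.val_mul, ← Units.val_mul, ← Units.val_mul, hU, map_mul, map_mul, map_inv]
      congr 2
      group
    rw [e1, e2, smul_comm] at e0
    exact smul_right_injective _ D.a0 e0
  haveI : Nonempty ι := Fintype.card_pos_iff.1 (by omega)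
  have hN : ∏ i ∈ Finset.range r, (σ ^ i : RingAut F) c = 1 := by
    have hit : ∀ t : ℕ, (U : Matrix ι ι F) =
        (∏ i ∈ Finset.range t, (σ ^ i : RingAut F) c) • (U : Matrix ι ι F).map ((σ : RingAut F) ^ t) := by
      intro t
      induction t with
      | zero => simp
      | succ t ih =>
        rw [Finset.prod_range_succ]
        conv_lhs => rw [ih, hUc]
        rw [Matrix.map_smul' _ _ _ (map_mul ((σ : RingAut F) ^ t)), smul_smul]
        congr 1
    have h1 := hit r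
    rw [← hr, pow_orderOf_eq_one, hr] at h1
    obtain ⟨i⟩ := ‹Nonempty ι›
    obtain ⟨l, hl⟩ : ∃ l, (U : Matrix ι ι F) i l ≠ 0 := by
      by_contra hcon
      push Not at hcon
      exact ((Matrix.isUnit_iff_isUnit_det _).1 U.isUnit).ne_zero (Matrix.det_eq_zero_of_row_eq_zero i hcon)
    have h2 := congrFun (congrFun h1 i) l
    simp only [Matrix.smul_apply, Matrix.map_apply, smul_eq_mul, RingAut.one_apply] at h2
    exact mul_right_cancel₀ hl (h2.symm.trans (one_mul _).symm)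
  obtain ⟨b, hb, hcb⟩ := Descent.exists_h90_units hr hr0 hN
  have hfixU : ∀ p q, σ (b⁻¹ * (U : Matrix ι ι F) p q) = b⁻¹ * (U : Matrix ι ι F) p q := fun p q => by
    have h := congrFun (congrFun hUc p) q
    rw [Matrix.smul_apply, fieldGL_coe, Matrix.map_apply, smul_eq_mul] at h
    have hsb : σ b ≠ 0 := (map_ne_zero σ.toRingHom).2 hb
    have hc0 : c ≠ 0 := fun h0 => hb (by rw [← hcb, h0, zero_mul])
    rw [map_mul, map_inv₀]
    field_simp
    linear_combination -(σ b) * h - σ ((U : Matrix ι ι F) p q) * hcb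
  choose M hM using fun p q => D.surj _ (hfixU p q)
  obtain ⟨M₀, hM₀⟩ : ∃ M₀ : Matrix κ κ F₀, M₀ = Matrix.of fun p q => M (e p) (e q) := ⟨_, rfl⟩
  have hMU : (M₀.map j).submatrix e.symm e.symm = b⁻¹ • (U : Matrix ι ι F) := by
    ext p q; simp [hM₀, hM]
  have hdet : M₀.det ≠ 0 := fun h0 => by
    have h1 := congrArg Matrix.det hMU
    rw [Matrix.det_submatrix_equiv_self, ← RingHom.mapMatrix_apply, ← RingHom.map_det, h0, map_zero, Matrix.det_smul] at h1
    exact mul_ne_zero (pow_ne_zero _ (inv_ne_zero hb)) ((Matrix.isUnit_iff_isUnit_det _).1 U.isUnit).ne_zero h1.symm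
  obtain ⟨W, hW⟩ : ∃ W : GL κ F₀, (W : Matrix κ κ F₀) = M₀ := ⟨Matrix.GeneralLinearGroup.mkOfDetNeZero M₀ hdet, rfl⟩
  have hemb : ((emb K e j W : GL ι F) : Matrix ι ι F) = b⁻¹ • (g.1 : Matrix ι ι F) := by
    rw [emb_apply, Units.val_mul, Units.val_mul, reGL_coe,
      show ((Matrix.GeneralLinearGroup.map j W : GL κ F) : Matrix κ κ F) = M₀.map j from by rw [← hW]; rfl, hMU,
      mul_smul_comm, smul_mul_assoc, ← Units.val_mul, ← Units.val_mul, hU]
    congr 2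
    group
  obtain ⟨d, hd⟩ := g.2
  have hQe : ∀ v, Q (((emb K e j W : GL ι F) : Matrix ι ι F) *ᵥ v) = b⁻¹ ^ 2 * (d : F) * Q v := fun v => by
    rw [hemb, smul_mulVec, D.hQ.smul, hd, mul_assoc]
  have hWj : ∀ x : κ → F₀, j (S₀ ((W : Matrix κ κ F₀) *ᵥ x)) = b⁻¹ ^ 2 * (d : F) * j (S₀ x) := fun x => by
    have h1 := hQe ((K : Matrix ι ι F) *ᵥ fun i => j (x (e.symm i)))
    rw [emb_apply, gl_mul_mulVec, gl_mul_mulVec, gl_inv_mulVec, D.form, D.form, reGL_mulVec] at h1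
    simp only [reix, Equiv.symm_apply_apply] at h1
    rw [show ((Matrix.GeneralLinearGroup.map j W : GL κ F) : Matrix κ κ F) = (W : Matrix κ κ F₀).map j from rfl,
      map_mulVec_hom, D.ext, D.ext] at h1
    exact mul_left_cancel₀ D.k0 (h1.trans (by ring))
  haveI : Nonempty κ := e.nonempty
  obtain ⟨x₀, hx₀⟩ := exists_ne_value D.hS₀
  obtain ⟨d₀, hd₀⟩ : ∃ d₀, j d₀ = b⁻¹ ^ 2 * (d : F) :=
    ⟨S₀ ((W : Matrix κ κ F₀) *ᵥ x₀) / S₀ x₀, by rw [map_div₀, hWj, mul_div_cancel_right₀ _ ((map_ne_zero j).2 hx₀)]⟩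
  have hd0 : d₀ ≠ 0 := fun h0 => mul_ne_zero (pow_ne_zero 2 (inv_ne_zero hb)) d.ne_zero (by rw [← hd₀, h0, map_zero])
  have hWs : W ∈ Cfsg.Geo.quadSimilarityGroup (F := F₀) S₀ :=
    ⟨Units.mk0 d₀ hd0, fun x => j.injective (by rw [hWj, Units.val_mk0, map_mul, hd₀])⟩
  exact ⟨⟨W, hWs⟩, ind_scalar _ _ hemb⟩

theorem ker_iff (hn : 5 ≤ Fintype.card ι) (u : ↥(Cfsg.Geo.quadSimilarityGroup (F := F₀) S₀)) :
    simHom Q (D.phi u) = 1 ↔ simHom S₀ u = 1 := by
  haveI : Nonempty κ := Fintype.card_pos_iff.1 (by rw [Fintype.card_congr e]; omega)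
  rw [simHom_ker D.hQ hn, simHom_ker D.hS₀ (by rw [Fintype.card_congr e]; exact hn)]
  constructor
  · rintro ⟨c, hc⟩
    rw [phi_val, emb_apply, Units.val_mul, Units.val_mul] at hc
    have h1 : (((K⁻¹ : GL ι F)) : Matrix ι ι F) * (c • 1) * (K : Matrix ι ι F) = c • 1 := by
      rw [mul_smul_comm, mul_one, smul_mul_assoc, ← Units.val_mul, inv_mul_cancel, Units.val_one]
    rw [← hc, ← mul_assoc, ← mul_assoc, ← Units.val_mul K⁻¹ K, inv_mul_cancel, Units.val_one, one_mul, mul_assoc,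
      ← Units.val_mul, inv_mul_cancel, Units.val_one, mul_one] at h1
    obtain ⟨p⟩ := ‹Nonempty κ›
    refine ⟨(u.1 : Matrix κ κ F₀) p p, Matrix.ext fun s t => j.injective ?_⟩
    have h2 := fun s t => congrFun (congrFun h1 (e s)) (e t)
    rw [hc] at h2
    simp [reGL_coe, Matrix.one_apply, Matrix.smul_apply] at h2
    by_cases hst : s = t
    · subst hst; simp [h2]
    · simp [h2, hst]
  · rintro ⟨c, hc⟩
    refine ⟨j c, ?_⟩
    rw [phi_val, emb_apply, Units.val_mul, Units.val_mul]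
    have h1 : (reGL e (Matrix.GeneralLinearGroup.map j u.1) : Matrix ι ι F) = j c • 1 := by
      ext s t
      simp [reGL_coe, hc, Matrix.one_apply, apply_ite j]
    rw [h1, mul_smul_comm, mul_one, smul_mul_assoc, ← Units.val_mul, mul_inv_cancel, Units.val_one]

/-- the centraliser in a group of similarities is the corresponding rational group -/
theorem cent_equiv (hn : 5 ≤ Fintype.card ι) {r : ℕ} (hr : orderOf (σ : RingAut F) = r) (hr0 : 0 < r)
    (hs : Cfsg.IsSemisimilarityPair Q G σ) {H : Subgroup (MulAut (Cfsg.POmega F Q))}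
    {H₀ : Subgroup (MulAut (Cfsg.POmega F₀ S₀))} (hH : H ≤ (simHom Q).range) (hH₀ : H₀ ≤ (simHom S₀).range)
    (hP : ∀ u, simHom Q (D.phi u) ∈ H ↔ simHom S₀ u ∈ H₀) :
    Nonempty (↥(H ⊓ Subgroup.centralizer {ind hs}) ≃* ↥H₀) := by
  obtain ⟨A, hA⟩ : ∃ A, A = H₀.comap (simHom S₀) := ⟨_, rfl⟩
  obtain ⟨f, hf⟩ : ∃ f, f = ((simHom Q).comp D.phi).comp A.subtype := ⟨_, rfl⟩
  obtain ⟨f₀, hf₀⟩ : ∃ f₀, f₀ = (simHom S₀).comp A.subtype := ⟨_, rfl⟩
  have hk : f.ker = f₀.ker := by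
    ext u
    rw [MonoidHom.mem_ker, MonoidHom.mem_ker, hf, hf₀]
    exact D.ker_iff hn u.1
  have h1 : f.range = H ⊓ Subgroup.centralizer {ind hs} := by
    ext β
    constructor
    · rintro ⟨u, rfl⟩
      rw [hf]
      refine ⟨(hP u.1).2 ((SetLike.ext_iff.1 hA u.1).1 u.2), Subgroup.mem_centralizer_iff.2 ?_⟩
      rintro y rfl
      exact (D.commutes hs u.1).symm
    · rintro ⟨hβ, hc⟩
      obtain ⟨g, rfl⟩ := hH hβ
      obtain ⟨u, hu⟩ := D.exists_preimage hn hr hr0 hs g (Subgroup.mem_centralizer_iff.1 hc _ rfl).symm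
      refine ⟨⟨u, by rw [hA]; exact (hP u).1 (hu ▸ hβ)⟩, ?_⟩
      rw [hf]
      exact hu
  have h2 : f₀.range = H₀ := by
    ext β
    constructor
    · rintro ⟨u, rfl⟩
      rw [hf₀]
      exact (SetLike.ext_iff.1 hA u.1).1 u.2
    · intro hβ
      obtain ⟨u, rfl⟩ := hH₀ hβ
      exact ⟨⟨u, by rw [hA]; exact hβ⟩, by rw [hf₀]; rfl⟩
  exact ⟨(MulEquiv.subgroupCongr h1.symm).trans ((QuotientGroup.quotientKerEquivRange f).symm.trans
    ((QuotientGroup.quotientMulEquivOfEq hk).trans ((QuotientGroup.quotientKerEquivRange f₀).trans (MulEquiv.subgroupCongr h2))))⟩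

/-- isometries keep their parity; the spinor norm is that of the rational one, moved by `k` -/
theorem emb_parity (hn : 5 ≤ Fintype.card ι) {u : GL κ F₀} (hu : u ∈ Cfsg.isometryGroup F₀ S₀) :
    (Even (wrk (emb K e j u)) ↔ Even (wrk u)) ∧
      ((∀ c : F₀, c ≠ 0 → sqc (j c) = 1) → spn Q (emb K e j u) = sqc k ^ wrk u) := by
  have hnk : 5 ≤ Fintype.card κ := by rw [Fintype.card_congr e]; exact hn
  have hex : Fintype.card F ≠ 2 ∨ Fintype.card ι ≠ 4 := Or.inr (by omega)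
  have hex₀ : Fintype.card F₀ ≠ 2 ∨ Fintype.card κ ≠ 4 := Or.inr (by omega)
  have hsq : ∀ x : SqClass F, x * x = 1 := sq_sqclass_eq_one
  have hpow : ∀ n n' : ℕ, (Even n ↔ Even n') → sqc k ^ n = sqc k ^ n' := fun n n' h => by
    have h2 : ∀ n, sqc k ^ n = if Even n then 1 else sqc k := fun n => by
      rcases Nat.even_or_odd' n with ⟨t, rfl | rfl⟩
      · rw [if_pos (even_two_mul t), pow_mul, sq, hsq, one_pow]
      · rw [if_neg (Nat.not_even_two_mul_add_one t), pow_succ, pow_mul, sq, hsq, one_pow, one_mul]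
    rw [h2, h2]; simp [h]
  have step : ∀ {r z : GL κ F₀} {v : κ → F₀}, r ∈ Cfsg.isometryGroup F₀ S₀ → z ∈ Cfsg.isometryGroup F₀ S₀ → S₀ v ≠ 0 →
      IsRefl S₀ v r →
      ((Even (wrk (emb K e j z)) ↔ Even (wrk z)) ∧
        ((∀ c : F₀, c ≠ 0 → sqc (j c) = 1) → spn Q (emb K e j z) = sqc k ^ wrk z)) →
      (Even (wrk (emb K e j (r * z))) ↔ Even (wrk (r * z))) ∧
        ((∀ c : F₀, c ≠ 0 → sqc (j c) = 1) → spn Q (emb K e j (r * z)) = sqc k ^ wrk (r * z)) := by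
    intro r z v hr hz hv hrv ih
    obtain ⟨hR, hQR⟩ := D.emb_refl hv hrv
    have hjv : j (S₀ v) ≠ 0 := (map_ne_zero j).2 hv
    have hv' : Q ((K : Matrix ι ι F) *ᵥ fun i => j (v (e.symm i))) ≠ 0 := by rw [hQR]; exact mul_ne_zero D.k0 hjv
    obtain ⟨A1, A2⟩ := refl_spn D.hQ (D.emb_iso hr) hR hv'
    obtain ⟨B1, B2⟩ := spn_mul D.hQ (iso_le_reflGroup D.hQ hex (D.emb_iso hr)) (D.emb_iso hz)
    have C2 := (spn_mul D.hS₀ (iso_le_reflGroup D.hS₀ hex₀ hr) hz).2
    have C1 := (refl_spn D.hS₀ hr hrv hv).1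
    rw [map_mul]
    refine ⟨by rw [B2, C2, ih.1, A1, C1], fun hall => ?_⟩
    rw [B1, A2, hQR, sqc_mul D.k0 hjv, hall _ hv, mul_one, ih.2 hall, ← pow_succ']
    refine hpow _ _ ?_
    rw [C2, C1, Nat.even_add_one]
    simp
  have hu' := iso_le_reflGroup D.hS₀ hex₀ hu
  clear hu
  induction hu' using Subgroup.closure_induction_left with
  | one => rw [map_one, (spn_one D.hQ).1, (spn_one D.hS₀).1, (spn_one D.hQ).2]; simp
  | mul_left r hr z hz ih =>
    obtain ⟨hri, v, hv, hrv⟩ := hr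
    exact step hri (reflGroup_le hz) hv hrv ih
  | inv_mul_cancel r hr z hz ih =>
    obtain ⟨hri, v, hv, hrv⟩ := hr
    rw [inv_eq_of_mul_eq_one_left (refl_mul_self D.hS₀ hrv hv)]
    exact step hri (reflGroup_le hz) hv hrv ih

end Model

end CfsgLib.Orth.FieldCls
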