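import Cfsg.Agent.Lib.Lie.Chev.Nat.IsoSpec
import Cfsg.Agent.Lib.Lie.Chev.OutD4
import Cfsg.Agent.Lib.Orth.Field.CentPlus

/-!
# In dimension eight the inner-diagonal automorphisms form a normal subgroup
-/

set_option autoImplicit false
set_option linter.all false

namespace CfsgLib.Orth.FieldCls.Four

open scoped Matrix
open Matrix Cfsg.Geo CfsgLib.Orth CfsgLib.Perm.Asch CfsgLib.Perm.Trans CfsgLib.Perm.Trans.Quad
open CfsgLib.Lie.Chev CfsgLib.Lie.NatRep Cfsg.Lie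

variable {F : Type*} [Field F]

/-- exponents of the entries of a diagonal similitude in the four entries and the multiplier -/
def ex : IP 4 → Fin 5 → ℤ :=
  Sum.elim (fun i k => if k.val = i.val then 1 else 0)
    fun i k => (if k.val = 4 then 1 else 0) - if k.val = i.val then 1 else 0

/-- the fundamental roots in the same coordinates -/
def gamV (i : Fin chevD4.rank) : Fin 5 → ℤ :=
  if i.val = 0 then ex (.inl 0) - ex (.inl 1) else if i.val = 1 then ex (.inl 1) - ex (.inl 2)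
  else if i.val = 2 then ex (.inl 2) - ex (.inl 3) else ex (.inl 2) - ex (.inr 3)

theorem tab_simple : ∀ i : Fin chevD4.rank,
    (∀ e ∈ tabD4 (chevD4.simple i.val), e.1 = 1 ∧ ex e.2.2.1 - ex e.2.2.2 = gamV i) ∧
    ∀ e ∈ tabD4 (chevD4.neg (chevD4.simple i.val)), e.1 = 1 ∧ ex e.2.2.1 - ex e.2.2.2 = -gamV i := by
  decide +kernel

/-- monomials -/
def mon (x : Fin 5 → Fˣ) (v : Fin 5 → ℤ) : Fˣ := ∏ k, x k ^ v k

theorem mon_sub (x : Fin 5 → Fˣ) (u v : Fin 5 → ℤ) : mon x (u - v) = mon x u * (mon x v)⁻¹ := by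
  simp [mon, _root_.zpow_sub, Finset.prod_mul_distrib, Finset.prod_inv_distrib, div_eq_mul_inv]

theorem mon_neg (x : Fin 5 → Fˣ) (u : Fin 5 → ℤ) : mon x (-u) = (mon x u)⁻¹ := by
  simp [mon, Finset.prod_inv_distrib]

theorem mon_inl (x : Fin 5 → Fˣ) (i : Fin 4) : mon x (ex (.inl i)) = x i.castSucc := by
  rw [mon, Finset.prod_eq_single i.castSucc]
  · simp [ex]
  · intro k _ hk
    simp [ex, Fin.val_ne_of_ne hk, show k.val ≠ i.val from fun e => hk (Fin.ext e)]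
  · simp

theorem mon_inr (x : Fin 5 → Fˣ) (i : Fin 4) : mon x (ex (.inr i)) = x 4 * (x i.castSucc)⁻¹ := by
  rw [show ex (.inr i) = (fun k : Fin 5 => if k.val = 4 then 1 else 0) - ex (.inl i) from rfl, mon_sub, mon_inl]
  congr 1
  rw [mon, Finset.prod_eq_single (4 : Fin 5)]
  · simp
  · intro k _ hk
    simp [show k.val ≠ 4 from fun e => hk (Fin.ext e)]
  · simp

/-- the diagonal matrix with given monomials -/
noncomputable def dg (x : Fin 5 → Fˣ) : GL (IP 4) F :=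
  ⟨Matrix.diagonal fun a => (mon x (ex a) : F), Matrix.diagonal fun a => ((mon x (ex a))⁻¹ : Fˣ),
    by simp [Matrix.diagonal_mul_diagonal, Matrix.diagonal_one],
    by simp [Matrix.diagonal_mul_diagonal, Matrix.diagonal_one]⟩

theorem dg_val (x : Fin 5 → Fˣ) :
    (dg x : Matrix (IP 4) (IP 4) F) = Matrix.diagonal fun a => (mon x (ex a) : F) := rfl

theorem dg_form (x : Fin 5 → Fˣ) (v : IP 4 → F) :
    Cfsg.quadFormPlus 4 F ((dg x : Matrix (IP 4) (IP 4) F) *ᵥ v) = (x 4 : F) * Cfsg.quadFormPlus 4 F v := by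
  simp only [Cfsg.quadFormPlus, dg_val, Matrix.mulVec_diagonal, Finset.mul_sum, mon_inl, mon_inr, Units.val_mul,
    Units.val_inv_eq_inv_val]
  refine Finset.sum_congr rfl fun i _ => ?_
  have := (x i.castSucc).ne_zero
  field_simp

theorem dg_mem (x : Fin 5 → Fˣ) : dg x ∈ Cfsg.Geo.quadSimilarityGroup (F := F) (Cfsg.quadFormPlus 4 F) :=
  ⟨x 4, dg_form x⟩

/-- conjugation of a root element by a diagonal matrix -/
theorem dg_nxL (x : Fin 5 → Fˣ) (v : Fin 5 → ℤ) : ∀ (L : Ents (IP 4)),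
    (∀ e ∈ L, e.1 = 1 ∧ ex e.2.2.1 - ex e.2.2.2 = v) → ∀ t : F,
    (dg x : Matrix (IP 4) (IP 4) F) * nxL L t * ((dg x)⁻¹ : GL (IP 4) F).val = nxL L ((mon x v : F) * t) := by
  intro L hL t
  have key : ∀ L : Ents (IP 4), (∀ e ∈ L, e.1 = 1 ∧ ex e.2.2.1 - ex e.2.2.2 = v) →
      (dg x : Matrix (IP 4) (IP 4) F) * (L.map fun e => Matrix.single e.2.2.1 e.2.2.2 ((e.2.1 : F) * t ^ e.1)).sum *
          ((dg x)⁻¹ : GL (IP 4) F).val =
        (L.map fun e => Matrix.single e.2.2.1 e.2.2.2 ((e.2.1 : F) * ((mon x v : F) * t) ^ e.1)).sum := by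
    intro L
    induction L with
    | nil => simp
    | cons e L ih =>
      intro h
      obtain ⟨h1, h2⟩ := h e List.mem_cons_self
      rw [List.map_cons, List.map_cons, List.sum_cons, List.sum_cons, mul_add, add_mul,
        ih fun e' he' => h e' (List.mem_cons_of_mem _ he')]
      congr 1
      rw [show ((dg x)⁻¹ : GL (IP 4) F).val = Matrix.diagonal fun a => (((mon x (ex a))⁻¹ : Fˣ) : F) from rfl, dg_val,
        h1, pow_one, pow_one, ← h2, mon_sub, Units.val_mul]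
      ext i j
      rw [Matrix.mul_diagonal, Matrix.diagonal_mul]
      by_cases hi : e.2.2.1 = i
      · by_cases hj : e.2.2.2 = j
        · subst hi hj
          simp only [Matrix.single_apply_same]
          ring
        · simp [Matrix.single, hj]
      · simp [Matrix.single, hi]
  show _ * (1 + _) * _ = (1 : Matrix (IP 4) (IP 4) F) + _
  rw [mul_add, mul_one, add_mul, key L hL, ← Units.val_mul, mul_inv_cancel, Units.val_one]

variable (C : Full chevD4)

/-- the character of a diagonal similitude -/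
def gam (x : Fin 5 → Fˣ) : Fin chevD4.rank → Fˣ := fun i => mon x (gamV i)

theorem gam_surjective : Function.Surjective (gam (F := F)) := by
  intro c
  have h4 : chevD4.rank = 4 := rfl
  refine ⟨![c ⟨0, by omega⟩ * c ⟨1, by omega⟩ * c ⟨2, by omega⟩, c ⟨1, by omega⟩ * c ⟨2, by omega⟩, c ⟨2, by omega⟩, 1,
    c ⟨2, by omega⟩ * (c ⟨3, by omega⟩)⁻¹], funext fun ⟨i, hi⟩ => ?_⟩
  have hi' : i < 4 := hi
  interval_cases i <;> simp [gam, gamV, mon_sub, mon_inl, mon_inr] <;> group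

variable [Fintype F]

theorem dg_pres (x : Fin 5 → Fˣ) : Cfsg.PreservesSingularClasses (Cfsg.quadFormPlus 4 F) (dg x : Matrix (IP 4) (IP 4) F) := by
  rw [pres_iff_par quadFormPlus_nd (by simp) plus_card (plus_lag (F := F)) (dg_form x)]
  have e : img (dg x) (LinearMap.ker (LinearMap.funLeft F F (Sum.inr : Fin 4 → IP 4))) =
      LinearMap.ker (LinearMap.funLeft F F (Sum.inr : Fin 4 → IP 4)) := by
    refine Submodule.eq_of_le_of_finrank_eq ?_ (map_gl_finrank (dg x) _)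
    rintro _ ⟨w, hw, rfl⟩
    refine funext fun i => ?_
    show ((dg x : Matrix (IP 4) (IP 4) F) *ᵥ w) (Sum.inr i) = 0
    rw [dg_val, Matrix.mulVec_diagonal, show w (Sum.inr i) = 0 from congrFun hw i, mul_zero]
  rw [e]
  exact par_self (plus_lag (F := F)).1

theorem dg_simHom_mem (x : Fin 5 → Fˣ) :
    simHom (Cfsg.quadFormPlus 4 F) ⟨dg x, dg_mem x⟩ ∈ Cfsg.inndiagPOmegaPlus 4 F :=
  (simHom_mem_plus (by norm_num) _).2 (dg_pres x)

/-- the diagonal automorphisms of the Chevalley group are those of the diagonal similitudes -/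
theorem exists_equiv : ∃ e : ↥(chevD4.group F) ≃* Cfsg.POmega F (Cfsg.quadFormPlus 4 F), ∀ x : Fin 5 → Fˣ,
    simHom (Cfsg.quadFormPlus 4 F) ⟨dg x, dg_mem x⟩ = MulAut.congr e (C.torHom (gam x)) := by
  obtain ⟨e, he⟩ := d4_iso_spec F C
  refine ⟨e, fun x => ?_⟩
  have key : ∀ (r : Fin chevD4.nroots) (t : F) (v : Fin 5 → ℤ),
      (∀ a ∈ tabD4 r.val, a.1 = 1 ∧ ex a.2.2.1 - ex a.2.2.2 = v) →
      simHom (Cfsg.quadFormPlus 4 F) ⟨dg x, dg_mem x⟩ (e (C.aX r t)) = e (C.aX r ((mon x v : F) * t)) := by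
    intro r t v hv
    obtain ⟨w, hw, ew⟩ := he r t
    obtain ⟨w', hw', ew'⟩ := he r ((mon x v : F) * t)
    rw [ew, ew']
    show ind _ (QuotientGroup.mk w) = _
    rw [ind_mk]
    refine congrArg QuotientGroup.mk (Subtype.ext (Subtype.ext (Units.ext ?_)))
    rw [omegaAut_val, semiConj, fieldGL_refl, Units.val_mul, Units.val_mul, hw, hw']
    exact dg_nxL x v _ hv t
  have hx : ((MulAut.congr e).symm (simHom (Cfsg.quadFormPlus 4 F) ⟨dg x, dg_mem x⟩)) = C.torHom (gam x) := by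
    refine C.aut_ext (fun i t => ?_) fun i t => ?_
    · show e.symm (simHom (Cfsg.quadFormPlus 4 F) ⟨dg x, dg_mem x⟩ (e (C.aX (C.G.simp' i) t))) = C.torAut _ _
      rw [key _ t (gamV i) (by rw [C.G.simp_val]; exact (tab_simple i).1), e.symm_apply_apply, C.torAut_simp]
      rfl
    · show e.symm (simHom (Cfsg.quadFormPlus 4 F) ⟨dg x, dg_mem x⟩ (e (C.aX (C.G.negr (C.G.simp' i)) t))) = C.torAut _ _
      rw [key _ t (-gamV i) (by rw [← C.G.neg_val, C.G.simp_val]; exact (tab_simple i).2), e.symm_apply_apply,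
        C.torAut_negr, mon_neg]
      rfl
  exact (MulEquiv.symm_apply_eq _).1 hx

/-- diagonal matrices of determinant `a` -/
theorem exists_det (a : Fˣ) : ∃ A : GL (Fin 4) F, (A : Matrix (Fin 4) (Fin 4) F) = Matrix.diagonal ![(a : F), 1, 1, 1] ∧
    ((A⁻¹ : GL (Fin 4) F) : Matrix (Fin 4) (Fin 4) F) = Matrix.diagonal ![((a⁻¹ : Fˣ) : F), 1, 1, 1] := by
  refine ⟨⟨Matrix.diagonal ![(a : F), 1, 1, 1], Matrix.diagonal ![((a⁻¹ : Fˣ) : F), 1, 1, 1], ?_, ?_⟩, rfl, rfl⟩ <;>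
  · rw [Matrix.diagonal_mul_diagonal, ← Matrix.diagonal_one]
    congr 1
    funext i
    fin_cases i <;> simp

/-- every element is inner times diagonal -/
theorem le_closure : Cfsg.inndiagPOmegaPlus 4 F ≤ Cfsg.Inn (Cfsg.POmega F (Cfsg.quadFormPlus 4 F)) ⊔
    Subgroup.closure (Set.range fun x : Fin 5 → Fˣ => simHom (Cfsg.quadFormPlus 4 F) ⟨dg x, dg_mem x⟩) := by
  have hQ : IsNondegenerateQuadraticForm (Cfsg.quadFormPlus 4 F) := quadFormPlus_nd
  have hn : 5 ≤ Fintype.card (IP 4) := by simp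
  have hex : Fintype.card F ≠ 2 ∨ Fintype.card (IP 4) ≠ 4 := Or.inr (by simp)
  intro β hβ
  obtain ⟨g, hg, rfl⟩ := (inndiag_plus (by norm_num)).1 hβ
  obtain ⟨c, hc⟩ := g.2
  obtain ⟨s, hs⟩ : ∃ s : ↥(Cfsg.Geo.quadSimilarityGroup (F := F) (Cfsg.quadFormPlus 4 F)),
      s = ⟨dg (![c, c, c, c, c]), dg_mem _⟩ := ⟨_, rfl⟩
  have hh : (s⁻¹ * g).1 ∈ Cfsg.isometryGroup F (Cfsg.quadFormPlus 4 F) := mem_iso.2 fun v => by
    have h1 := dg_form ![c, c, c, c, c] (((s⁻¹ * g).1 : Matrix (IP 4) (IP 4) F) *ᵥ v)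
    rw [← gl_mul_mulVec, show dg ![c, c, c, c, c] * (s⁻¹ * g).1 = g.1 from by rw [hs]; exact mul_inv_cancel_left _ _, hc] at h1
    exact (mul_left_cancel₀ c.ne_zero h1).symm
  have hsurj : ∀ q : SqClass F, ∃ a : Fˣ, sqc (a : F) = q := by
    intro q
    obtain ⟨a, rfl⟩ := QuotientGroup.mk_surjective q
    refine ⟨a, ?_⟩
    unfold sqc
    rw [dif_neg a.ne_zero, Units.mk0_val]
    rfl
  obtain ⟨a, ha⟩ := hsurj (spn (Cfsg.quadFormPlus 4 F) (s⁻¹ * g).1)
  obtain ⟨t, ht⟩ : ∃ t : ↥(Cfsg.Geo.quadSimilarityGroup (F := F) (Cfsg.quadFormPlus 4 F)),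
      t = ⟨dg ![a, 1, 1, 1, 1], dg_mem _⟩ := ⟨_, rfl⟩
  obtain ⟨A, hA, hAi⟩ := exists_det a
  have htA : t.1 = levi A := by
    refine Units.ext ?_
    rw [ht, levi_coe, hA, hAi, Matrix.diagonal_transpose, Matrix.fromBlocks_diagonal]
    show Matrix.diagonal _ = _
    congr 1
    funext i
    rcases i with i | i <;> fin_cases i <;> simp [mon_inl, mon_inr]
  have hti : t.1 ∈ Cfsg.isometryGroup F (Cfsg.quadFormPlus 4 F) := htA ▸ levi_mem A
  obtain ⟨w, hw⟩ : ∃ w : ↥(Cfsg.Geo.quadSimilarityGroup (F := F) (Cfsg.quadFormPlus 4 F)), w = t⁻¹ * (s⁻¹ * g) := ⟨_, rfl⟩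
  have hwi : w.1 ∈ Cfsg.isometryGroup F (Cfsg.quadFormPlus 4 F) := by
    rw [hw]; exact mul_mem (inv_mem hti) hh
  have hspn : spn (Cfsg.quadFormPlus 4 F) t.1 = sqc (a : F) := by
    rw [htA, (levi_invariants (Or.inr (by norm_num)) A).1, hA, Matrix.det_diagonal]
    simp [Fin.prod_univ_four]
  have hwΩ : (⟨w.1, hwi⟩ : ↥(Cfsg.isometryGroup F (Cfsg.quadFormPlus 4 F))) ∈ Cfsg.Omega F (Cfsg.quadFormPlus 4 F) := by
    rw [mem_omega_iff hQ (by simp) hex]
    constructor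
    · have h1 : (⟨w.1, hwi⟩ : ↥(Cfsg.isometryGroup F (Cfsg.quadFormPlus 4 F))) = ⟨t.1, hti⟩⁻¹ * ⟨(s⁻¹ * g).1, hh⟩ :=
        Subtype.ext (by show w.1 = (t⁻¹ * (s⁻¹ * g)).1; rw [hw])
      have h2 := congrArg (spnHom hQ hex) h1
      rw [map_mul, map_inv] at h2
      refine h2.trans ?_
      show (spn _ t.1)⁻¹ * spn _ (s⁻¹ * g).1 = 1
      rw [hspn, ha, inv_mul_cancel]
    · rw [← pres_iso_iff hQ hn plus_card (plus_lag (F := F)) hwi]
      have hP : ∀ y, (Cfsg.PreservesSingularClasses (Cfsg.quadFormPlus 4 F) ((dg y : GL (IP 4) F) : Matrix (IP 4) (IP 4) F)) := dg_pres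
      have e1 := plus_mul (F := F) (m := 4) (by norm_num) t w
      have e2 := plus_mul (F := F) (m := 4) (by norm_num) s (t * w)
      rw [show s * (t * w) = g by rw [hw, mul_inv_cancel_left, mul_inv_cancel_left]] at e2
      have p1 : Cfsg.PreservesSingularClasses (Cfsg.quadFormPlus 4 F) (s.1 : Matrix (IP 4) (IP 4) F) := hs ▸ hP _
      have p2 : Cfsg.PreservesSingularClasses (Cfsg.quadFormPlus 4 F) (t.1 : Matrix (IP 4) (IP 4) F) := ht ▸ hP _
      exact (e1.1 ((e2.1 hg).1 p1)).1 p2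
  have hg2 : g = s * (t * w) := by rw [hw, mul_inv_cancel_left, mul_inv_cancel_left]
  rw [hg2, map_mul, map_mul]
  refine mul_mem (Subgroup.mem_sup_right (Subgroup.subset_closure ⟨_, by rw [hs]⟩))
    (mul_mem (Subgroup.mem_sup_right (Subgroup.subset_closure ⟨_, by rw [ht]⟩)) (Subgroup.mem_sup_left ?_))
  rw [inn_eq]
  exact ⟨w, ⟨⟨w.1, hwi⟩, hwΩ, rfl⟩, rfl⟩

/-- the inner-diagonal group is normal in the whole automorphism group, triality included -/
theorem inndiag_conj_mem (α : MulAut (Cfsg.POmega F (Cfsg.quadFormPlus 4 F))) {β : MulAut (Cfsg.POmega F (Cfsg.quadFormPlus 4 F))}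
    (hβ : β ∈ Cfsg.inndiagPOmegaPlus 4 F) : α * β * α⁻¹ ∈ Cfsg.inndiagPOmegaPlus 4 F := by
  have C : Full chevD4 := fullOf (by simp)
  obtain ⟨e, he⟩ := exists_equiv (F := F) C
  haveI := inn_normal (Cfsg.POmega F (Cfsg.quadFormPlus 4 F))
  have hE : ∀ y, MulAut.congr e (MulAut.conj y) = MulAut.conj (e y) := fun y =>
    MulEquiv.ext fun z => by simp [MulAut.congr, MulAut.conj_apply]
  have htor : ∀ c, MulAut.congr e (C.torHom c) ∈ Cfsg.inndiagPOmegaPlus 4 F := fun c => by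
    obtain ⟨x, rfl⟩ := gam_surjective c
    rw [← he]
    exact dg_simHom_mem x
  have h := le_closure hβ
  have hle : (Cfsg.Inn (Cfsg.POmega F (Cfsg.quadFormPlus 4 F)) ⊔
      Subgroup.closure (Set.range fun x : Fin 5 → Fˣ => simHom (Cfsg.quadFormPlus 4 F) ⟨dg x, dg_mem x⟩)) ≤
      (Cfsg.inndiagPOmegaPlus 4 F).comap (MulAut.conj α).toMonoidHom := by
    refine sup_le (fun γ hγ => inn_le_plus (by norm_num) (Subgroup.Normal.conj_mem inferInstance γ hγ α)) ?_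
    rw [Subgroup.closure_le]
    rintro _ ⟨x, rfl⟩
    show α * simHom (Cfsg.quadFormPlus 4 F) ⟨dg x, dg_mem x⟩ * α⁻¹ ∈ Cfsg.inndiagPOmegaPlus 4 F
    obtain ⟨α', rfl⟩ := (MulAut.congr e).surjective α
    rw [he, ← map_inv, ← map_mul, ← map_mul]
    obtain ⟨y, c, φ, π, σ, hφ, rfl⟩ := C.exists_std α'
    obtain ⟨d', hd'⟩ : ∃ d', φ * C.torHom (gam x) * φ⁻¹ = C.torHom d' := ⟨_, hφ.conj_tor _⟩
    show MulAut.congr e (MulAut.conj y * C.torHom c * φ * C.torHom (gam x) * (MulAut.conj y * C.torHom c * φ)⁻¹) ∈ _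
    rw [show MulAut.conj y * C.torHom c * φ * C.torHom (gam x) * (MulAut.conj y * C.torHom c * φ)⁻¹ =
        MulAut.conj y * (C.torHom c * (φ * C.torHom (gam x) * φ⁻¹) * (C.torHom c)⁻¹) * (MulAut.conj y)⁻¹ by group,
      hd', ← map_mul C.torHom c d', mul_comm c d', map_mul C.torHom d' c, mul_inv_cancel_right, map_mul, map_mul, map_inv, hE]
    exact mul_mem (mul_mem (inn_le_plus (by norm_num) ⟨e y, rfl⟩) (htor d'))
      (inv_mem (inn_le_plus (by norm_num) ⟨e y, rfl⟩))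
  exact hle h

end CfsgLib.Orth.FieldCls.Four
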