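import Cfsg.Agent.Lib.Orth.Field.Base
import Cfsg.Agent.Lib.Orth.Aut.MinusEquiv
import Cfsg.Agent.Lib.Orth.PGOInst

/-!
# The classes of the minus form, read in any field where it splits
-/

set_option autoImplicit false
set_option linter.all false

namespace CfsgLib.Orth.FieldCls

open scoped Matrix
open Matrix Cfsg.Geo CfsgLib.Orth CfsgLib.Perm.Asch CfsgLib.Perm.Trans CfsgLib.Perm.Trans.Quad

universe u

variable {F : Type*} [Field F] {m : ℕ}

local notation "pol" => QuadraticMap.polar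
local notation "J" => ((Fin m ⊕ Fin m) ⊕ Fin 2)

theorem minus_disc [Fintype F] {a b : F}
    (hab : ∀ z₁ z₂ : F, z₁ ^ 2 + a * z₁ * z₂ + b * z₂ ^ 2 = 0 → z₁ = 0 ∧ z₂ = 0) : a ^ 2 - 4 * b ≠ 0 := by
  by_cases h2 : (2 : F) = 0
  · intro h
    have ha : a = 0 := pow_eq_zero_iff (n := 2) two_ne_zero |>.1 (by linear_combination h + 2 * b * h2)
    obtain ⟨t, ht⟩ := isSquare_of_two h2 b
    exact one_ne_zero (hab t 1 (by subst ha; linear_combination ht + t * t * h2)).2
  · exact disc_ne_zero h2 hab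

theorem minus_eval {K : Type*} [Field K] (f : F →+* K) (a b : F) (x : J → F) :
    Cfsg.quadFormMinus m K (f a) (f b) (fun i => f (x i)) = f (Cfsg.quadFormMinus m F a b x) := by
  simp [Cfsg.quadFormMinus]

/-- multiplication by `u + vθ` on the binary part, compensated on the hyperbolic part -/
def binMul (a b u v : F) : Matrix J J F :=
  Matrix.fromBlocks (Matrix.fromBlocks ((u ^ 2 + a * u * v + b * v ^ 2) • (1 : Matrix (Fin m) (Fin m) F)) 0 0 1) 0 0
    !![u, -(b * v); v, u + a * v]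

theorem binMul_mulVec (a b u v : F) (x : J → F) :
    binMul (m := m) a b u v *ᵥ x = Sum.elim (Sum.elim (fun i => (u ^ 2 + a * u * v + b * v ^ 2) * x (.inl (.inl i)))
      (fun i => x (.inl (.inr i)))) ![u * x (.inr 0) - b * v * x (.inr 1), v * x (.inr 0) + (u + a * v) * x (.inr 1)] := by
  funext i
  rcases i with (i | i) | i
  · simp [binMul, Matrix.mulVec, dotProduct, Fintype.sum_sum_type, Matrix.one_apply, Matrix.smul_apply]
  · simp [binMul, Matrix.mulVec, dotProduct, Fintype.sum_sum_type, Matrix.one_apply]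
  · fin_cases i <;> simp [binMul, Matrix.mulVec, dotProduct, Fintype.sum_sum_type, Fin.sum_univ_two] <;> ring

theorem binMul_sim (a b u v : F) (x : J → F) :
    Cfsg.quadFormMinus m F a b (binMul (m := m) a b u v *ᵥ x) =
      (u ^ 2 + a * u * v + b * v ^ 2) * Cfsg.quadFormMinus m F a b x := by
  rw [binMul_mulVec]
  simp only [Cfsg.quadFormMinus, Sum.elim_inl, Sum.elim_inr, Matrix.cons_val_zero, Matrix.cons_val_one, mul_add,
    Finset.mul_sum]
  rw [show (u ^ 2 + a * u * v + b * v ^ 2) = u ^ 2 + a * u * v + b * v ^ 2 from rfl]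
  refine congrArg₂ (· + ·) (Finset.sum_congr rfl fun i _ => by ring) (by ring)

theorem binMul_map {K : Type*} [Field K] (f : F →+* K) (a b u v : F) :
    (binMul (m := m) a b u v).map f = binMul (m := m) (f a) (f b) (f u) (f v) := by
  ext i j
  rcases i with (i | i) | i <;> rcases j with (j | j) | j
  all_goals first
    | (fin_cases i <;> fin_cases j <;> simp [binMul])
    | (fin_cases i <;> simp [binMul])
    | (fin_cases j <;> simp [binMul])
    | simp [binMul, Matrix.one_apply, apply_ite f]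

/-- the binary form takes every value -/
theorem exists_binary_value [Fintype F] {a b : F}
    (hab : ∀ z₁ z₂ : F, z₁ ^ 2 + a * z₁ * z₂ + b * z₂ ^ 2 = 0 → z₁ = 0 ∧ z₂ = 0) (c : F) :
    ∃ u v : F, u ^ 2 + a * u * v + b * v ^ 2 = c := by
  by_cases h2 : (2 : F) = 0
  · obtain ⟨t, ht⟩ := isSquare_of_two h2 c
    exact ⟨t, 0, by rw [ht]; ring⟩
  · exact exists_norm_value h2 hab c

variable [Fintype F]

/-- every similarity is a multiplication followed by an isometry -/
theorem exists_factor {a b : F} (hab : ∀ z₁ z₂ : F, z₁ ^ 2 + a * z₁ * z₂ + b * z₂ ^ 2 = 0 → z₁ = 0 ∧ z₂ = 0)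
    {g : GL J F} {c : Fˣ}
    (hg : ∀ x, Cfsg.quadFormMinus m F a b ((g : Matrix J J F) *ᵥ x) = (c : F) * Cfsg.quadFormMinus m F a b x) :
    ∃ (u v : F) (s h : GL J F), u ^ 2 + a * u * v + b * v ^ 2 = c ∧ (s : Matrix J J F) = binMul a b u v ∧
      h ∈ Cfsg.isometryGroup F (Cfsg.quadFormMinus m F a b) ∧ g = s * h := by
  obtain ⟨u, v, huv⟩ := exists_binary_value hab (c : F)
  have hdet : (binMul (m := m) a b u v).det ≠ 0 := by
    rw [binMul, Matrix.det_fromBlocks_zero₁₂, Matrix.det_fromBlocks_zero₁₂, Matrix.det_smul, Matrix.det_one,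
      Matrix.det_fin_two_of, huv, show u * (u + a * v) - -(b * v) * v = u ^ 2 + a * u * v + b * v ^ 2 by ring, huv]
    simp [c.ne_zero]
  obtain ⟨s, hs⟩ : ∃ s : GL J F, (s : Matrix J J F) = binMul a b u v :=
    ⟨Matrix.GeneralLinearGroup.mkOfDetNeZero _ hdet, rfl⟩
  refine ⟨u, v, s, s⁻¹ * g, huv, hs, mem_iso.2 fun x => ?_, (mul_inv_cancel_left s g).symm⟩
  have h1 := binMul_sim (m := m) a b u v (((s⁻¹ * g : GL J F) : Matrix J J F) *ᵥ x)
  rw [← hs, ← gl_mul_mulVec, mul_inv_cancel_left, hg, huv] at h1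
  exact (mul_left_cancel₀ c.ne_zero h1).symm

/-- the standard subspace over a field containing a root -/
theorem exists_lag {K : Type*} [Field K] (f : F →+* K) {a b : F} {ρ : K} (hρ : ρ ^ 2 + f a * ρ + f b = 0) :
    ∃ U : Submodule K (J → K), IsLag (Cfsg.quadFormMinus m K (f a) (f b)) (m + 1) U ∧
      ∀ u v : K, ∀ x ∈ U, binMul (m := m) (f a) (f b) u v *ᵥ x ∈ U := by
  let e : (Fin m → K) × K →ₗ[K] (J → K) :=
    { toFun := fun p => Sum.elim (Sum.elim p.1 0) ![ρ * p.2, p.2]
      map_add' := fun p q => by funext i; rcases i with (i | i) | i <;> [simp; simp; fin_cases i] <;> simp [mul_add]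
      map_smul' := fun k p => by
        funext i; rcases i with (i | i) | i <;> [simp; simp; fin_cases i] <;> simp [mul_left_comm] }
  have hei : Function.Injective e := fun p q h => Prod.ext (funext fun i => by
    simpa [e] using congrFun h (Sum.inl (Sum.inl i))) (by simpa [e] using congrFun h (Sum.inr 1))
  refine ⟨LinearMap.range e, ⟨?_, ?_⟩, ?_⟩
  · rw [LinearMap.finrank_range_of_inj hei, Module.finrank_prod, Module.finrank_fintype_fun_eq_card, Fintype.card_fin,
      Module.finrank_self]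
  · rintro _ ⟨p, rfl⟩
    simp [e, Cfsg.quadFormMinus]
    linear_combination p.2 ^ 2 * hρ
  · rintro u v _ ⟨p, rfl⟩
    refine ⟨(fun i => (u ^ 2 + f a * u * v + f b * v ^ 2) * p.1 i, (v * ρ + (u + f a * v)) * p.2), ?_⟩
    rw [binMul_mulVec]
    funext i
    rcases i with (i | i) | i <;> [simp [e]; simp [e]; fin_cases i] <;> simp [e]
    · linear_combination v * p.2 * hρ
    · ring

/-- the classes read in `K` are those of the isometry part -/
theorem pres_ext_iff {K : Type*} [Field K] [Fintype K] (f : F →+* K) {a b : F}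
    (hab : ∀ z₁ z₂ : F, z₁ ^ 2 + a * z₁ * z₂ + b * z₂ ^ 2 = 0 → z₁ = 0 ∧ z₂ = 0) {ρ : K}
    (hρ : ρ ^ 2 + f a * ρ + f b = 0) (hm : 2 ≤ m) {s h : GL J F} {u v : F}
    (huv : u ^ 2 + a * u * v + b * v ^ 2 ≠ 0)
    (hs : (s : Matrix J J F) = binMul a b u v) (hh : h ∈ Cfsg.isometryGroup F (Cfsg.quadFormMinus m F a b)) :
    Cfsg.PreservesSingularClasses (Cfsg.quadFormMinus m K (f a) (f b))
      (((s * h : GL J F) : Matrix J J F).map f) ↔ Even (wrk h) := by
  have hQ := quadFormMinus_nd (m := m) a b hab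
  have hd := minus_disc hab
  have hQK : IsNondegenerateQuadraticForm (Cfsg.quadFormMinus m K (f a) (f b)) :=
    quadFormMinus_nd_disc (fun e => hd (f.injective (by rw [map_sub, map_pow, map_mul, map_ofNat, map_zero, e])))
  have hn : 5 ≤ Fintype.card J := by simp; omega
  obtain ⟨U, hU, hUb⟩ := exists_lag (m := m) f hρ
  obtain ⟨sK, hsK⟩ : ∃ sK, sK = Matrix.GeneralLinearGroup.map f s := ⟨_, rfl⟩
  have hsKc : (sK : Matrix J J K) = binMul (f a) (f b) (f u) (f v) := by
    rw [hsK, ← binMul_map, ← hs]; rfl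
  have hsim : ∀ x, Cfsg.quadFormMinus m K (f a) (f b) ((sK : Matrix J J K) *ᵥ x) =
      f (u ^ 2 + a * u * v + b * v ^ 2) * Cfsg.quadFormMinus m K (f a) (f b) x := fun x => by
    rw [hsKc, binMul_sim]; simp
  have hsU : Cfsg.PreservesSingularClasses (Cfsg.quadFormMinus m K (f a) (f b)) (sK : Matrix J J K) := by
    rw [pres_iff_par hQK hn minus_card hU hsim]
    have e : img sK U = U := by
      refine Submodule.eq_of_le_of_finrank_eq ?_ (map_gl_finrank _ _)
      rintro _ ⟨x, hx, rfl⟩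
      rw [Matrix.mulVecLin_apply, hsKc]
      exact hUb _ _ x hx
    rw [e]
    exact par_self hU.1
  obtain ⟨hhK, hpar⟩ := wrk_map f hQ hQK (minus_eval f a b) hn hh
  have hmul : (((s * h : GL J F) : Matrix J J F).map f) =
      ((sK * Matrix.GeneralLinearGroup.map f h : GL J K) : Matrix J J K) := by
    rw [hsK, ← map_mul]; rfl
  rw [hmul, pres_mul hQK hn minus_card hU hsim (d := 1) (fun x => by rw [one_mul, mem_iso.1 hhK]),
    iff_true_left hsU, pres_iso_iff hQK hn minus_card hU hhK, hpar]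

/-- independence of the splitting field -/
theorem pres_ext_indep {K K' : Type*} [Field K] [Fintype K] [Field K'] [Fintype K'] (f : F →+* K) (f' : F →+* K')
    {a b : F} (hab : ∀ z₁ z₂ : F, z₁ ^ 2 + a * z₁ * z₂ + b * z₂ ^ 2 = 0 → z₁ = 0 ∧ z₂ = 0) {ρ : K}
    (hρ : ρ ^ 2 + f a * ρ + f b = 0) {ρ' : K'} (hρ' : ρ' ^ 2 + f' a * ρ' + f' b = 0) (hm : 2 ≤ m)
    {g : GL J F} (hg : g ∈ Cfsg.Geo.quadSimilarityGroup (F := F) (Cfsg.quadFormMinus m F a b)) :
    Cfsg.PreservesSingularClasses (Cfsg.quadFormMinus m K (f a) (f b)) ((g : Matrix J J F).map f) ↔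
      Cfsg.PreservesSingularClasses (Cfsg.quadFormMinus m K' (f' a) (f' b)) ((g : Matrix J J F).map f') := by
  obtain ⟨c, hc⟩ := hg
  obtain ⟨u, v, s, h, huv, hs, hh, rfl⟩ := exists_factor hab hc
  have h0 : u ^ 2 + a * u * v + b * v ^ 2 ≠ 0 := huv ▸ c.ne_zero
  rw [pres_ext_iff f hab hρ hm h0 hs hh, pres_ext_iff f' hab hρ' hm h0 hs hh]

end CfsgLib.Orth.FieldCls
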