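import Cfsg.Agent.Lib.Orth.Field.PlusType
import Cfsg.Agent.Lib.Orth.Field.Coset
import Cfsg.Agent.Lib.Orth.Field.CentTools

/-!
# The class of the matrix part of field and graph-field automorphisms
-/

set_option autoImplicit false
set_option linter.all false

namespace CfsgLib.Orth.FieldCls

open scoped Matrix
open Matrix Cfsg.Geo CfsgLib.Orth CfsgLib.Perm.Asch CfsgLib.Perm.Trans CfsgLib.Perm.Trans.Quad

variable {F : Type*} [Field F] [Fintype F] {m : ℕ}

local notation "I" => (Fin m ⊕ Fin m)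

/-- a field automorphism applied to the entries does not change the classes -/
theorem pres_fieldGL (hm : 3 ≤ m) (τ : F ≃+* F) (g : ↥(Cfsg.Geo.quadSimilarityGroup (F := F) (Cfsg.quadFormPlus m F))) :
    Cfsg.PreservesSingularClasses (Cfsg.quadFormPlus m F) ((fieldGL τ g.1 : GL I F) : Matrix I I F) ↔
      Cfsg.PreservesSingularClasses (Cfsg.quadFormPlus m F) (g.1 : Matrix I I F) := by
  obtain ⟨c, hc⟩ := g.2
  have hn : 5 ≤ Fintype.card I := by simp; omega
  have hτ : ∀ v, Cfsg.quadFormPlus m F (((fieldGL τ g.1 : GL I F) : Matrix I I F) *ᵥ v) = τ c * Cfsg.quadFormPlus m F v := by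
    intro v
    obtain ⟨w, rfl⟩ : ∃ w, v = fun i => τ (w i) := ⟨fun i => τ.symm (v i), funext fun i => (τ.apply_symm_apply _).symm⟩
    rw [fieldGL_mulVec, quadFormPlus_field, hc, map_mul, quadFormPlus_field]
  rw [pres_iff_par quadFormPlus_nd hn plus_card plus_lag hτ, pres_iff_par quadFormPlus_nd hn plus_card plus_lag hc]
  conv_lhs => rw [← std_sgm (m := m) τ, ← sgm_img, Par, ← sgm_inf, sgm_finrank]
  rfl

/-- conjugates keep the class of the matrix part -/
theorem pair_of_conj_plus (hm : 5 ≤ m) {x α : MulAut (Cfsg.POmega F (Cfsg.quadFormPlus m F))} {g : GL I F} {σ : F ≃+* F}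
    (h : Cfsg.IsSemisimilarityPair (Cfsg.quadFormPlus m F) g σ) (e : α * x * α⁻¹ = ind h) :
    ∃ (G : GL I F) (hG : Cfsg.IsSemisimilarityPair (Cfsg.quadFormPlus m F) G σ), x = ind hG ∧
      (Cfsg.PreservesSingularClasses (Cfsg.quadFormPlus m F) (G : Matrix I I F) ↔
        Cfsg.PreservesSingularClasses (Cfsg.quadFormPlus m F) (g : Matrix I I F)) := by
  have hQ : IsNondegenerateQuadraticForm (Cfsg.quadFormPlus m F) := quadFormPlus_nd
  have hn : 5 ≤ Fintype.card I := by simp; omega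
  obtain ⟨G, hG, rfl⟩ := pair_of_conj hQ hn (Aut.gamma_top_plus hm) h e
  refine ⟨G, hG, rfl, ?_⟩
  have hα : α ∈ gammaSub (Cfsg.quadFormPlus m F) := by
    rw [← gammaPOmega_eq, Aut.gamma_top_plus hm]; exact Subgroup.mem_top α
  obtain ⟨A, τ, hA, rfl⟩ := hα
  rw [mul_inv_eq_iff_eq_mul, ind_mul, ind_mul] at e
  obtain ⟨-, c, hc⟩ := ind_inj hQ hn e
  have hAs := sim_of_semisim (quadFormPlus_field τ) hA
  have hGs := sim_of_semisim (quadFormPlus_field σ) hG
  have hgs := sim_of_semisim (quadFormPlus_field σ) h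
  obtain ⟨A', hA'⟩ : ∃ A' : ↥(Cfsg.Geo.quadSimilarityGroup (F := F) (Cfsg.quadFormPlus m F)), A'.1 = A := ⟨⟨A, hAs⟩, rfl⟩
  have hfs : ∀ (τ : F ≃+* F) (g : ↥(Cfsg.Geo.quadSimilarityGroup (F := F) (Cfsg.quadFormPlus m F))),
      fieldGL τ g.1 ∈ Cfsg.Geo.quadSimilarityGroup (F := F) (Cfsg.quadFormPlus m F) := fun τ g => by
    obtain ⟨d, hd⟩ := g.2
    refine ⟨Units.map τ.toRingHom.toMonoidHom d, fun v => ?_⟩
    obtain ⟨w, rfl⟩ : ∃ w, v = fun i => τ (w i) := ⟨fun i => τ.symm (v i), funext fun i => (τ.apply_symm_apply _).symm⟩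
    rw [fieldGL_mulVec, quadFormPlus_field, hd, map_mul, quadFormPlus_field]
    rfl
  subst hA'
  have e1 := char_congr hQ hn (plus_mul (by omega)) (plus_scalar (by omega))
    (g := A' * ⟨_, hfs τ ⟨G, hGs⟩⟩) (h := ⟨g, hgs⟩ * ⟨_, hfs σ A'⟩)
    (simHom_scalar_mul hQ hn (t := c) (by exact hc))
  rw [plus_mul (by omega), plus_mul (by omega), pres_fieldGL (by omega) τ ⟨G, hGs⟩, pres_fieldGL (by omega) σ A'] at e1
  tauto

/-- field automorphisms: classes preserved -/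
theorem pair_of_field_plus (hm : 5 ≤ m) {x : MulAut (Cfsg.POmega F (Cfsg.quadFormPlus m F))}
    (hx : Cfsg.IsFieldAutClassPOmega (Cfsg.quadFormPlus m F) x) :
    ∃ (σ : F ≃+* F) (G : GL I F) (hG : Cfsg.IsSemisimilarityPair (Cfsg.quadFormPlus m F) G σ),
      σ ≠ RingEquiv.refl F ∧ x = ind hG ∧ Cfsg.PreservesSingularClasses (Cfsg.quadFormPlus m F) (G : Matrix I I F) := by
  obtain ⟨α, φ, σ, hσ, hφ, e⟩ := hx
  obtain ⟨G, hG, hxe, hp⟩ := pair_of_conj_plus hm (semisim_field (quadFormPlus_field σ))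
    (e.trans (fieldAut_eq (fun σ => quadFormPlus_field σ) hφ))
  exact ⟨σ, G, hG, hσ, hxe, hp.2 (plus_scalar (by omega) 1 ⟨1, by simp⟩)⟩

/-- graph-field automorphisms: classes exchanged -/
theorem pair_of_graphField_plus (hm : 5 ≤ m) {x : MulAut (Cfsg.POmega F (Cfsg.quadFormPlus m F))}
    (hx : Cfsg.IsGraphFieldAutClassPOmegaPlus m x) :
    ∃ (σ : F ≃+* F) (G : GL I F) (hG : Cfsg.IsSemisimilarityPair (Cfsg.quadFormPlus m F) G σ),
      σ ≠ RingEquiv.refl F ∧ x = ind hG ∧ ¬ Cfsg.PreservesSingularClasses (Cfsg.quadFormPlus m F) (G : Matrix I I F) := by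
  obtain ⟨α, γ, φ, σ, v, r, hσ, hv, -, hr, hγ, hφ, e⟩ := hx
  have hQ : IsNondegenerateQuadraticForm (Cfsg.quadFormPlus m F) := quadFormPlus_nd
  obtain ⟨r', hr', hrv⟩ := exists_refl hQ hv
  obtain ⟨B, hB⟩ := exists_qf hQ
  have hrr : r = r' := by
    refine gl_ext_vec fun y => ?_
    rw [← hB] at hrv hr
    rw [hrv, isRefl_reflectionMatrix hr y]
  subst hrr
  have hp : Cfsg.IsSemisimilarityPair (Cfsg.quadFormPlus m F) r σ := semisim_of_sim (quadFormPlus_field σ) (iso_sim hr')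
  rw [(isInduced_iff (sim_pair (iso_sim hr'))).1 hγ, fieldAut_eq (fun σ => quadFormPlus_field σ) hφ, ind_mul] at e
  obtain ⟨G, hG, hxe, hpp⟩ := pair_of_conj_plus hm hp
    (e.trans (ind_congr _ hp (by rw [map_one, mul_one]) (RingEquiv.ext fun _ => rfl)))
  exact ⟨σ, G, hG, hσ, hxe, fun hGp => plus_refl (by omega) hr' hv hrv (hpp.1 hGp)⟩

end CfsgLib.Orth.FieldCls
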